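import Groth.Agent.GrFlat5.Present
import Groth.Agent.FlatModel.Local

/-!
# Flatness of all `M / Jᵏ M` gives flatness of `M` along `V(J)`
-/

set_option backward.isDefEq.respectTransparency false
set_option linter.style.haveILetI false

universe u

open MvPolynomial TensorProduct

namespace Groth.Agent.GrFlat5

open FlatModel FlatStrat

/-- An extension of flat modules is flat. -/
theorem flat_of_exact {R M₁ M₂ M₃ : Type u} [CommRing R] [AddCommGroup M₁] [Module R M₁] [AddCommGroup M₂]
    [Module R M₂] [AddCommGroup M₃] [Module R M₃] [Module.Flat R M₁] [Module.Flat R M₃]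
    {f : M₁ →ₗ[R] M₂} {g : M₂ →ₗ[R] M₃} (hf : Function.Injective f) (hfg : Function.Exact f g)
    (hg : Function.Surjective g) : Module.Flat R M₂ := by
  rw [Module.Flat.iff_rTensor_injective]
  intro I _
  rw [injective_iff_map_eq_zero]
  intro x hx
  have hc : ∀ {N N' : Type u} [AddCommGroup N] [Module R N] [AddCommGroup N'] [Module R N'] (φ : N →ₗ[R] N')
      (y : I ⊗[R] N), I.subtype.rTensor N' (φ.lTensor I y) = φ.lTensor R (I.subtype.rTensor N y) := fun φ y => by
    rw [← LinearMap.comp_apply, ← LinearMap.comp_apply, LinearMap.rTensor_comp_lTensor, LinearMap.lTensor_comp_rTensor]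
  have h3 : g.lTensor I x = 0 :=
    Module.Flat.rTensor_preserves_injective_linearMap (M := M₃) I.subtype Subtype.val_injective
      (by rw [hc, hx, map_zero, map_zero])
  obtain ⟨y, rfl⟩ := (lTensor_exact I hfg hg x).1 h3
  rw [hc] at hx
  have : I.subtype.rTensor M₁ y = 0 :=
    Module.Flat.lTensor_preserves_injective_linearMap f hf (hx.trans (map_zero _).symm)
  rw [Module.Flat.rTensor_preserves_injective_linearMap (M := M₁) I.subtype Subtype.val_injective
    (this.trans (map_zero _).symm), map_zero]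

/-- Flatness of the quotients `M / Jᵏ M` from flatness of the graded pieces. -/
theorem flat_quot_of_gr {A B M : Type u} [CommRing A] [CommRing B] [Algebra A B] (J : Ideal B)
    [AddCommGroup M] [Module B M] [Module A M] [IsScalarTower A B M]
    (h : ∀ k, Module.Flat A (grPiece J M k)) (k : ℕ) : Module.Flat A (M ⧸ (J ^ k • ⊤ : Submodule B M)) := by
  induction k with
  | zero =>
    haveI : Subsingleton (M ⧸ (J ^ 0 • ⊤ : Submodule B M)) := by
      rw [Submodule.Quotient.subsingleton_iff, pow_zero, Submodule.one_smul]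
    infer_instance
  | succ k ih =>
    haveI := h k
    haveI := ih
    exact flat_of_exact (f := (grIncl J M k).restrictScalars A) (g := (quotProj J M k).restrictScalars A)
      (grIncl_injective J M k) (exact_gr J M k) (quotProj_surjective J M k)

variable {a n : ℕ} {R₀ : Type u} [CommRing R₀] (K : Submodule (MvPolynomial (Fin n) R₀) (V a n R₀))
  (J : Ideal (MvPolynomial (Fin n) R₀))

/-- Krull's intersection theorem. -/
theorem ptFlat_of_forall_flatC {R : Type u} [CommRing R] [IsNoetherianRing R] [Algebra R₀ R]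
    (h : ∀ k, FlatC (L K J k) R) (P : Ideal (MvPolynomial (Fin n) R)) [P.IsPrime] (hP : JR J R ≤ P) :
    PtFlat K R P.primeCompl := by
  intro I x hx hxI
  let IK : Submodule (MvPolynomial (Fin n) R) (V a n R) := (I.map C : Ideal (MvPolynomial (Fin n) R)) • KK K R
  have h1 : IK.mkQ x ∈ (⨅ k : ℕ, JR J R ^ k • ⊤ : Submodule (MvPolynomial (Fin n) R) (V a n R ⧸ IK)) := by
    rw [Submodule.mem_iInf]
    intro k
    have h2 := h k I x (by rw [KK_L]; exact Submodule.mem_sup_left hx) hxI
    rw [KK_L, Submodule.smul_sup] at h2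
    obtain ⟨y, hy, z, hz, rfl⟩ := Submodule.mem_sup.1 h2
    rw [map_add, show IK.mkQ y = 0 from (Submodule.Quotient.mk_eq_zero _).2 hy, zero_add]
    have hz' : z ∈ JR J R ^ k • (⊤ : Submodule (MvPolynomial (Fin n) R) (V a n R)) := Submodule.smul_le_right hz
    have h4 := Submodule.mem_map_of_mem (f := IK.mkQ) hz'
    rw [Submodule.map_smul''] at h4
    exact Submodule.smul_mono le_rfl le_top h4
  obtain ⟨r, hr⟩ := (Ideal.mem_iInf_smul_pow_eq_bot_iff (JR J R) _).1 h1
  refine ⟨1 - r, fun h3 => ‹P.IsPrime›.ne_top ((Ideal.eq_top_iff_one P).2 ?_), ?_⟩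
  · simpa using add_mem h3 (hP r.2)
  · show (1 - (r : MvPolynomial (Fin n) R)) • x ∈ IK
    rw [← Submodule.Quotient.mk_eq_zero, ← Submodule.mkQ_apply, map_smul, sub_smul, one_smul, hr, sub_self]

/-- **Flatness along `V(J)`.** -/
theorem ptFlat_of_forall_flatC' [IsNoetherianRing R₀] {A : Type u} [CommRing A] [Algebra R₀ A]
    (h : ∀ k, FlatC (L K J k) A) (P : Ideal (MvPolynomial (Fin n) A)) [P.IsPrime] (hP : JR J A ≤ P) :
    PtFlat K A P.primeCompl := by
  classical
  obtain ⟨R₁, hR₁, h₁⟩ := exists_fg_uniform K J h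
  intro I x hx hxI
  obtain ⟨R₂, hR₂, x₂, hx₂, hx₂x⟩ := exists_fg_span_descent hx
  let R₃ := R₁ ⊔ R₂
  let x₃ := mapV (Subalgebra.inclusion (le_sup_right : R₂ ≤ R₃)).toRingHom x₂
  have hx₃ : x₃ ∈ KK K R₃ := span_mono_subalgebra le_sup_right hx₂
  have hx₃x : mapV R₃.val.toRingHom x₃ = x := by rw [mapV_val_inclusion, hx₂x]
  have hx₃I : x₃ ∈ CJ a n (I.comap R₃.val.toRingHom) := mem_CJ.2 fun i => MvPolynomial.mem_map_C_iff.2 fun d => by
    have := MvPolynomial.mem_map_C_iff.1 (mem_CJ.1 hxI i) d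
    rw [← hx₃x, mapV_apply, MvPolynomial.coeff_map] at this
    exact this
  have : Algebra.FiniteType R₀ R₃ := (Subalgebra.fg_iff_finiteType R₃).1 (hR₁.sup hR₂)
  have : IsNoetherianRing R₃ := Algebra.FiniteType.isNoetherianRing R₀ R₃
  letI := (Subalgebra.inclusion (le_sup_left : R₁ ≤ R₃)).toRingHom.toAlgebra
  haveI : IsScalarTower R₀ R₁ R₃ := .of_algebraMap_eq fun _ => rfl
  let P₃ := P.comap (MvPolynomial.map (σ := Fin n) R₃.val.toRingHom)
  have hP₃ : JR J R₃ ≤ P₃ := by
    rw [← Ideal.map_le_iff_le_comap, JR, Ideal.map_map]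
    rw [show (MvPolynomial.map (σ := Fin n) R₃.val.toRingHom).comp (MvPolynomial.map (algebraMap R₀ R₃)) =
      MvPolynomial.map (algebraMap R₀ A) from MvPolynomial.ringHom_ext (fun r => by simp) fun i => by simp]
    exact hP
  obtain ⟨s, hs, hsx⟩ := ptFlat_of_forall_flatC K J
    (fun k => (flat_Qk_iff K J R₃ k).1 (flat_Qk_mono K J R₁ k ((flat_Qk_iff K J R₁ k).2 (h₁ k)))) P₃ hP₃
    _ x₃ hx₃ hx₃I
  refine ⟨MvPolynomial.map R₃.val.toRingHom s, hs, ?_⟩
  rw [← hx₃x, ← mapV_smul]
  have := smul_KK_le_closure K _ hsx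
  clear hsx
  generalize s • x₃ = y at this ⊢
  induction this using AddSubmonoid.closure_induction with
  | mem y hy =>
    obtain ⟨r, hr, w, hw, rfl⟩ := hy
    rw [← C_smul, mapV_smul, MvPolynomial.map_C]
    exact Submodule.smul_mem_smul (Ideal.mem_map_of_mem _ hr)
      (show mapV _ (mapV _ w) ∈ _ from (mapV_algebraMap R₃.val w).symm ▸ mapL_mem_KK K hw)
  | zero => rw [mapV_zero]; exact zero_mem _
  | add y z _ _ hy hz => rw [mapV_add]; exact add_mem hy hz

/-- A finitely presented module all whose `M / Jᵏ M` are flat is flat along `V(J)`. -/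
theorem flat_localized_of_forall_flat_quot {A B M : Type u} [CommRing A] [CommRing B] [Algebra A B]
    [Algebra.FinitePresentation A B] (J : Ideal B) (hJ : J.FG) [AddCommGroup M] [Module B M] [Module A M]
    [IsScalarTower A B M] [Module.FinitePresentation B M]
    (h : ∀ k, Module.Flat A (M ⧸ (J ^ k • ⊤ : Submodule B M))) (q : Ideal B) [q.IsPrime] (hq : J ≤ q) :
    Module.Flat A (LocalizedModule q.primeCompl M) := by
  obtain ⟨R₀, hR₀, ⟨P⟩⟩ := exists_presentation (A := A) (M := M) hJ
  haveI : Algebra.FiniteType ℤ R₀ := (Subalgebra.fg_iff_finiteType R₀).1 hR₀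
  haveI : IsNoetherianRing R₀ := Algebra.FiniteType.isNoetherianRing ℤ R₀
  have hC : ∀ k, FlatC (L P.K P.J k) A := fun k => by
    rw [← flat_Qk_iff]
    obtain ⟨e⟩ := P.nonempty_equiv k
    haveI := h k
    haveI : Module.Flat A (M ⧸ (J ^ k • ⊤ : Submodule B M).restrictScalars A) :=
      Module.Flat.of_linearEquiv (Submodule.Quotient.restrictScalarsEquiv A _)
    exact Module.Flat.of_linearEquiv e
  letI := Module.compHom M P.φ.toRingHom
  haveI : IsScalarTower A (MvPolynomial (Fin P.n) A) M := ⟨fun r p m => by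
    show P.φ (r • p) • m = r • P.φ p • m
    rw [map_smul, smul_assoc]⟩
  let π : V P.a P.n A →ₗ[MvPolynomial (Fin P.n) A] M :=
    { toFun := P.π, map_add' := map_add P.π, map_smul' := P.π_smul }
  have hker : LinearMap.ker π = KK P.K A := Submodule.ext fun v => P.ker_π v
  have hpt := ptFlat_of_forall_flatC' P.K P.J hC (q.comap P.φ.toRingHom)
    (Ideal.map_le_iff_le_comap.1 (P.map_J.le.trans hq))
  rw [flat_localized_iff q.primeCompl (LocalizedModule.mkLinearMap q.primeCompl M)]
  intro I y hy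
  obtain ⟨p, hp, hpy⟩ := (ptFlat_iff P.K _ π P.π_surj hker).1 hpt I y hy
  refine ⟨P.φ p, hp, ?_⟩
  rw [← hpy]
  clear hy hpy
  induction y using TensorProduct.induction_on with
  | zero => simp
  | tmul m j => rw [smul_tmul', smul_tmul']; rfl
  | add y z hy hz => rw [smul_add, smul_add, hy, hz]

end Groth.Agent.GrFlat5
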