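import Groth.Agent.MorLib.FlatBC

/-!
# Flatness at a point: isomorphic modules and composed base changes
-/

set_option backward.isDefEq.respectTransparency false
set_option backward.isDefEq.respectTransparency.types false
set_option linter.style.haveILetI false
set_option autoImplicit false

universe u

open CategoryTheory CategoryTheory.Limits AlgebraicGeometry TopologicalSpace Opposite

namespace Groth.Agent.GrFlat5

theorem isFlatOverAt_of_iso {X S : Scheme.{u}} (f : X ⟶ S) {M N : X.Modules} (e : M ≅ N) (x : X)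
    (h : FlatMod.IsFlatOverAt f M x) : FlatMod.IsFlatOverAt f N x := by
  let φ : M.presheaf.stalk x ⟶ N.presheaf.stalk x := (TopCat.Presheaf.stalkFunctor Ab x).map ((Scheme.Modules.toPresheaf X).map e.hom)
  letI := FlatMod.moduleStalkOver f M x
  letI := FlatMod.moduleStalkOver f N x
  have hlin : ∀ (r : X.presheaf.stalk x) (m : M.presheaf.stalk x), φ (r • m) = r • φ m := by
    intro r m
    obtain ⟨U, hxU, r, rfl⟩ := TopCat.Presheaf.exists_germ_eq X.presheaf r
    obtain ⟨V, hxV, m, rfl⟩ := TopCat.Presheaf.exists_germ_eq M.presheaf m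
    have hx : x ∈ U ⊓ V := ⟨hxU, hxV⟩
    rw [← X.presheaf.germ_res_apply (homOfLE (inf_le_left : U ⊓ V ≤ U)) x hx r,
      ← M.presheaf.germ_res_apply (homOfLE (inf_le_right : U ⊓ V ≤ V)) x hx m]
    generalize X.presheaf.map (homOfLE (inf_le_left : U ⊓ V ≤ U)).op r = r'
    generalize M.presheaf.map (homOfLE (inf_le_right : U ⊓ V ≤ V)).op m = m'
    have hg : ∀ m₀ : Γ(M, U ⊓ V), φ (M.presheaf.germ _ x hx m₀) =
        N.presheaf.germ _ x hx (e.hom.app (U ⊓ V) m₀) := fun m₀ =>
      TopCat.Presheaf.stalkFunctor_map_germ_apply _ x hx _ m₀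
    rw [← QCoh.germ_smul' M hx, hg, hg, ← QCoh.germ_smul' N hx, Scheme.Modules.Hom.app_smul]
  have hbij : Function.Bijective φ := ConcreteCategory.bijective_of_isIso φ
  let l : M.presheaf.stalk x →ₗ[S.presheaf.stalk (f.base x)] N.presheaf.stalk x :=
    { toFun := φ, map_add' := map_add φ.hom, map_smul' := fun r m => hlin (f.stalkMap x r) m }
  haveI : Module.Flat (S.presheaf.stalk (f.base x)) (M.presheaf.stalk x) := h
  exact Module.Flat.of_linearEquiv (LinearEquiv.ofBijective l hbij).symm

/-- Flatness on a base change passes to every further base change. -/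
theorem isFlatOverAt_baseChange_comp {X S T T' : Scheme.{u}} (f : X ⟶ S) (g : T ⟶ S) (g₂ : T' ⟶ S) (j : T' ⟶ T)
    (hj : j ≫ g = g₂) (F : X.Modules) (x : X) (t : T') (x'' : ↥(pullback f g₂))
    (hfst : pullback.fst f g₂ x'' = x) (hsnd : pullback.snd f g₂ x'' = t)
    (h : ∀ x' : ↥(pullback f g), pullback.fst f g x' = x → pullback.snd f g x' = j t →
      FlatMod.IsFlatOverAt (pullback.snd f g) ((Scheme.Modules.pullback (pullback.fst f g)).obj F) x') :
    FlatMod.IsFlatOverAt (pullback.snd f g₂) ((Scheme.Modules.pullback (pullback.fst f g₂)).obj F) x'' := by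
  let q : pullback f g₂ ⟶ pullback f g :=
    pullback.lift (pullback.fst f g₂) (pullback.snd f g₂ ≫ j) (by rw [Category.assoc, hj, pullback.condition])
  have hq₁ : q ≫ pullback.fst f g = pullback.fst f g₂ := pullback.lift_fst _ _ _
  have hq₂ : q ≫ pullback.snd f g = pullback.snd f g₂ ≫ j := pullback.lift_snd _ _ _
  have hc : IsPullback q (pullback.snd f g₂) (pullback.snd f g) j :=
    IsPullback.of_right (by rw [hq₁, hj]; exact IsPullback.of_hasPullback f g₂) hq₂
      (IsPullback.of_hasPullback f g)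
  have h1 := MorLib.FlatBC.isFlatOverAt_baseChange _ _ q j hc _ x''
    (h (q x'') (by rw [← Scheme.Hom.comp_apply, hq₁, hfst]) (by rw [← Scheme.Hom.comp_apply, hq₂, Scheme.Hom.comp_apply, hsnd]))
  exact isFlatOverAt_of_iso _ ((Scheme.Modules.pullbackComp q (pullback.fst f g)).app F ≪≫
    (Scheme.Modules.pullbackCongr hq₁).app F) x'' h1

end Groth.Agent.GrFlat5
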