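import Groth.Agent.GrFlat5.Uniform

/-!
# Descending a presentation together with an ideal to a Noetherian base
-/

set_option backward.isDefEq.respectTransparency false
set_option linter.style.haveILetI false

universe u

open MvPolynomial TensorProduct

namespace Groth.Agent.GrFlat5

open FlatModel FlatStrat

variable {A B : Type u} [CommRing A] [CommRing B] [Algebra A B] (I : Ideal B)
  (M : Type u) [AddCommGroup M] [Module B M] [Module A M] [IsScalarTower A B M]

/-- A presentation of `M` and `I` with coefficients in the subring `R₀`. -/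
structure Presentation (R₀ : Subalgebra ℤ A) where
  a : ℕ
  n : ℕ
  K : Submodule (MvPolynomial (Fin n) R₀) (V a n R₀)
  J : Ideal (MvPolynomial (Fin n) R₀)
  φ : MvPolynomial (Fin n) A →ₐ[A] B
  φ_surj : Function.Surjective φ
  π : V a n A →ₗ[A] M
  π_surj : Function.Surjective π
  π_smul : ∀ (p : MvPolynomial (Fin n) A) (v : V a n A), π (p • v) = φ p • π v
  ker_π : ∀ v, π v = 0 ↔ v ∈ KK K A
  map_J : (JR J A).map φ = I

variable {I M}

/-- `A ⊗ (M₀/J₀ᵏ M₀)` is `M/Iᵏ M`. -/
theorem Presentation.nonempty_equiv {R₀ : Subalgebra ℤ A} (P : Presentation I M R₀) (k : ℕ) :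
    Nonempty (A ⊗[R₀] Qk P.K P.J k ≃ₗ[A] M ⧸ (I ^ k • ⊤ : Submodule B M).restrictScalars A) := by
  let q : V P.a P.n A →ₗ[A] M ⧸ (I ^ k • ⊤ : Submodule B M).restrictScalars A := (Submodule.mkQ _).comp P.π
  have hq : Function.Surjective q := (Submodule.mkQ_surjective _).comp P.π_surj
  have hIk : I ^ k = Ideal.map P.φ (JR P.J A ^ k) := by
    rw [Ideal.map_pow]
    exact congrArg (· ^ k) P.map_J.symm
  have hker : (KK (L P.K P.J k) A).restrictScalars A = LinearMap.ker q := by
    ext v
    rw [Submodule.restrictScalars_mem, KK_L, LinearMap.mem_ker]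
    show _ ↔ Submodule.Quotient.mk (P.π v) = 0
    rw [Submodule.Quotient.mk_eq_zero, Submodule.restrictScalars_mem]
    constructor
    · intro hv
      obtain ⟨x, hx, y, hy, rfl⟩ := Submodule.mem_sup.1 hv
      rw [map_add, (P.ker_π x).2 hx, zero_add]
      clear hv
      refine Submodule.smul_induction_on hy (fun r hr v _ => ?_) fun s t hs ht => ?_
      · rw [P.π_smul, hIk]
        exact Submodule.smul_mem_smul (Ideal.mem_map_of_mem _ hr) Submodule.mem_top
      · rw [map_add]
        exact add_mem hs ht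
    · intro hv
      suffices h : ∃ y ∈ (JR P.J A ^ k • ⊤ : Submodule _ (V P.a P.n A)), P.π y = P.π v by
        obtain ⟨y, hy, hyv⟩ := h
        rw [← sub_add_cancel v y]
        exact Submodule.add_mem_sup ((P.ker_π _).1 (by rw [map_sub, hyv, sub_self])) hy
      generalize P.π v = m at hv
      refine Submodule.smul_induction_on hv (fun r hr m _ => ?_) fun s t hs ht => ?_
      · rw [hIk] at hr
        obtain ⟨r, hr', rfl⟩ := (Ideal.mem_map_iff_of_surjective _ P.φ_surj).1 hr
        obtain ⟨w, rfl⟩ := P.π_surj m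
        exact ⟨r • w, Submodule.smul_mem_smul hr' Submodule.mem_top, P.π_smul _ _⟩
      · obtain ⟨y, hy, rfl⟩ := hs
        obtain ⟨z, hz, rfl⟩ := ht
        exact ⟨y + z, add_mem hy hz, map_add _ _ _⟩
  obtain ⟨e⟩ := nonempty_quot_baseChange (R := R₀) (R' := A) (L P.K P.J k)
  exact ⟨e.trans ((Submodule.quotEquivOfEq _ _ hker).trans (q.quotKerEquivOfSurjective hq))⟩

/-- Every finitely presented situation descends to a Noetherian subring. -/
theorem exists_presentation [Algebra.FinitePresentation A B] [Module.FinitePresentation B M] (hI : I.FG) :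
    ∃ R₀ : Subalgebra ℤ A, R₀.FG ∧ Nonempty (Presentation I M R₀) := by
  classical
  obtain ⟨n, φ, hφ, hkerφ⟩ := Algebra.FinitePresentation.out (R := A) (A := B)
  let := φ.toRingHom.toAlgebra
  let := Module.compHom M φ.toRingHom
  have : IsScalarTower (MvPolynomial (Fin n) A) B M := ⟨fun p s m => mul_smul (φ p) s m⟩
  have : IsScalarTower A (MvPolynomial (Fin n) A) M := ⟨fun r p m => by
    show φ (r • p) • m = r • φ p • m
    rw [map_smul, smul_assoc]⟩
  have : Module.FinitePresentation (MvPolynomial (Fin n) A) B :=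
    Module.finitePresentation_of_surjective (Algebra.linearMap (MvPolynomial (Fin n) A) B) hφ hkerφ
  have : Module.FinitePresentation (MvPolynomial (Fin n) A) M := Module.FinitePresentation.trans _ M B
  obtain ⟨a, π, hπ⟩ := Module.Finite.exists_fin' (MvPolynomial (Fin n) A) M
  obtain ⟨S, hS⟩ := Module.FinitePresentation.fg_ker π hπ
  obtain ⟨T, hT⟩ := hI
  choose lj hlj using fun t : B => hφ t
  let c : Finset A := (S.biUnion fun v => Finset.univ.biUnion fun i => (v i).coeffs) ∪
    T.biUnion fun t => (lj t).coeffs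
  let R₀ : Subalgebra ℤ A := Algebra.adjoin ℤ (c : Set A)
  have hdesc : ∀ q : MvPolynomial (Fin n) A, ↑q.coeffs ⊆ (c : Set A) →
      ∃ q₀ : MvPolynomial (Fin n) R₀, MvPolynomial.map (algebraMap R₀ A) q₀ = q := fun q hq =>
    MvPolynomial.mem_range_map_iff_coeffs_subset.2 fun x hx => ⟨⟨x, Algebra.subset_adjoin (hq hx)⟩, rfl⟩
  have hSd : ∀ v ∈ S, ∃ w : V a n R₀, mapV (algebraMap R₀ A) w = v := by
    intro v hv
    choose w hw using fun i => hdesc (v i) fun x hx => Finset.mem_union_left _
      (Finset.mem_biUnion.2 ⟨v, hv, Finset.mem_biUnion.2 ⟨i, Finset.mem_univ _, hx⟩⟩)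
    exact ⟨w, funext hw⟩
  choose! lv hlv using hSd
  have hTd : ∀ t ∈ T, ∃ q₀ : MvPolynomial (Fin n) R₀, MvPolynomial.map (algebraMap R₀ A) q₀ = lj t :=
    fun t ht => hdesc _ fun x hx => Finset.mem_union_right _ (Finset.mem_biUnion.2 ⟨t, ht, hx⟩)
  choose! lt hlt using hTd
  refine ⟨R₀, Subalgebra.fg_adjoin_finset c, ⟨⟨a, n, Submodule.span _ (lv '' S), Ideal.span (lt '' T), φ, hφ,
    π.restrictScalars A, hπ, fun p v => map_smul π p v, fun v => ?_, ?_⟩⟩⟩
  · show v ∈ LinearMap.ker π ↔ _
    suffices h : LinearMap.ker π = KK (Submodule.span _ (lv '' S)) A by rw [h]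
    apply le_antisymm
    · rw [← hS, Submodule.span_le]
      intro v hv
      exact Submodule.subset_span ⟨lv v, Submodule.subset_span ⟨v, hv, rfl⟩, hlv v hv⟩
    · rw [KK, Submodule.span_le]
      rintro _ ⟨w, hw, rfl⟩
      refine Submodule.span_le.2 ?_ (mapV_mem_span (algebraMap R₀ A) hw)
      rintro _ ⟨w, ⟨v, hv, rfl⟩, rfl⟩
      rw [hlv v hv]
      exact hS.le (Submodule.subset_span hv)
  · rw [JR, Ideal.map_span, Ideal.map_span, ← hT, Set.image_image, Set.image_image]
    rw [Set.image_congr fun t ht => (congrArg φ (hlt t ht)).trans (hlj t), Set.image_id']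

/-- `A ⊗ (M/N)` is the cokernel of `A ⊗ N → A ⊗ M`. -/
theorem nonempty_quot_range_equiv {A₀ M₀ : Type u} [CommRing A₀] [AddCommGroup M₀] [Module A₀ M₀]
    (A : Type u) [CommRing A] [Algebra A₀ A] (N : Submodule A₀ M₀) :
    Nonempty (((A ⊗[A₀] M₀) ⧸ LinearMap.range (N.subtype.baseChange A)) ≃ₗ[A] A ⊗[A₀] (M₀ ⧸ N)) := by
  have hs : Function.Surjective (N.mkQ.baseChange A) := LinearMap.lTensor_surjective A (Submodule.mkQ_surjective N)
  refine ⟨(Submodule.quotEquivOfEq _ _ ?_).trans ((N.mkQ.baseChange A).quotKerEquivOfSurjective hs)⟩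
  ext x
  exact (lTensor_exact A (LinearMap.exact_subtype_mkQ N) (Submodule.mkQ_surjective N) x).symm

end Groth.Agent.GrFlat5
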