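import Groth.Agent.GrFlat5.Piece
import Groth.Agent.FlatStrat.Alg
import Mathlib.LinearAlgebra.Matrix.Charpoly.LinearMap

/-!
# Flatness of all `M / Jᵏ M` descends to a finitely generated subalgebra

For relations `K` and an ideal `J` over a Noetherian ring `R₀`: if all `A ⊗ (V / (K + Jᵏ V))` are flat over
`A`, then so are all of them over some finitely generated subalgebra of `A`.
-/

set_option backward.isDefEq.respectTransparency false
set_option linter.style.haveILetI false

universe u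

open MvPolynomial TensorProduct

namespace Groth.Agent.GrFlat5

open FlatModel FlatStrat

variable {a n : ℕ} {R₀ : Type u} [CommRing R₀] (K : Submodule (MvPolynomial (Fin n) R₀) (V a n R₀))
  (J : Ideal (MvPolynomial (Fin n) R₀))

/-- Relations of `M / Jᵏ M`. -/
noncomputable def L (k : ℕ) : Submodule (MvPolynomial (Fin n) R₀) (V a n R₀) := K ⊔ J ^ k • ⊤

/-- `M / Jᵏ M` over `R₀`. -/
abbrev Qk (k : ℕ) : Type u := Quot' (L K J k) R₀

variable (R : Type u) [CommRing R] [Algebra R₀ R]

/-- The ideal `J` with coefficients in `R`. -/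
noncomputable abbrev JR : Ideal (MvPolynomial (Fin n) R) := J.map (MvPolynomial.map (algebraMap R₀ R))

theorem KK_L (k : ℕ) : KK (L K J k) R = KK K R ⊔ JR J R ^ k • ⊤ := by
  apply le_antisymm
  · rw [KK, Submodule.span_le]
    rintro _ ⟨w, hw, rfl⟩
    obtain ⟨x, hx, y, hy, rfl⟩ := Submodule.mem_sup.1 hw
    rw [mapV_add]
    refine Submodule.add_mem_sup (Submodule.subset_span ⟨x, hx, rfl⟩) ?_
    clear hw
    refine Submodule.smul_induction_on hy (fun r hr v _ => ?_) fun p q hp hq => ?_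
    · rw [mapV_smul, JR, ← Ideal.map_pow]
      exact Submodule.smul_mem_smul (Ideal.mem_map_of_mem _ hr) Submodule.mem_top
    · rw [mapV_add]
      exact add_mem hp hq
  · refine sup_le (Submodule.span_mono (Set.image_mono fun x hx => Submodule.mem_sup_left hx)) ?_
    rw [JR, ← Ideal.map_pow, Ideal.map, Submodule.smul_le]
    intro r hr v _
    induction hr using Submodule.span_induction with
    | mem r hr =>
      obtain ⟨j, hj, rfl⟩ := hr
      rw [show v = ∑ i, v i • (Pi.single i 1 : V a n R) from pi_eq_sum_univ' v, Finset.smul_sum]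
      refine Submodule.sum_mem _ fun i _ => ?_
      rw [smul_comm]
      refine Submodule.smul_mem _ _ (Submodule.subset_span ⟨j • Pi.single i 1,
        Submodule.mem_sup_right (Submodule.smul_mem_smul hj Submodule.mem_top), ?_⟩)
      rw [mapV_smul]
      congr 1
      ext l
      by_cases hl : l = i
      · subst hl; simp
      · simp [hl]
    | zero => rw [zero_smul]; exact zero_mem _
    | add p q _ _ hp hq => rw [add_smul]; exact add_mem hp hq
    | smul c p _ hp => rw [smul_assoc]; exact Submodule.smul_mem _ _ hp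

theorem flat_Qk_iff (k : ℕ) : Module.Flat R (R ⊗[R₀] Qk K J k) ↔ FlatC (L K J k) R := by
  obtain ⟨e⟩ := nonempty_quot_baseChange (R := R₀) (R' := R) (L K J k)
  rw [flatC_iff_flat]
  exact ⟨fun _ => Module.Flat.of_linearEquiv
      ((Submodule.Quotient.restrictScalarsEquiv R (KK (L K J k) R)).symm.trans e.symm),
    fun _ => Module.Flat.of_linearEquiv (e.trans (Submodule.Quotient.restrictScalarsEquiv R (KK (L K J k) R)))⟩

variable [IsNoetherianRing R₀]

/-- Each prime has a piece on which all `Qk` are projective. -/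
theorem exists_piece (p : Ideal R₀) [p.IsPrime] : ∃ f ∉ p, Piece (fun k => Qk K J k) p f := by
  let R' := R₀ ⧸ p
  obtain ⟨fb, hfb, hproj⟩ := exists_projective_quot (R := R') (B := MvPolynomial (Fin n) R')
    (M := V a n R' ⧸ KK K R') (JR J R')
  obtain ⟨f, rfl⟩ := Ideal.Quotient.mk_surjective fb
  refine ⟨f, fun h => hfb (Ideal.Quotient.eq_zero_iff_mem.2 h), fun T _ _ hp hu k => ?_⟩
  letI : Algebra R' T := (Ideal.Quotient.lift p (algebraMap R₀ T) fun x hx =>
    Ideal.mem_bot.1 (hp ▸ Ideal.mem_map_of_mem _ hx)).toAlgebra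
  haveI : IsScalarTower R₀ R' T := .of_algebraMap_eq fun _ => rfl
  haveI := hproj T hu k
  let π : V a n R' →ₗ[R'] (V a n R' ⧸ KK K R') ⧸ (JR J R' ^ k • ⊤ : Submodule _ (V a n R' ⧸ KK K R')) :=
    ((Submodule.mkQ _).comp (KK K R').mkQ).restrictScalars R'
  have hπ : Function.Surjective π := (Submodule.mkQ_surjective _).comp (Submodule.mkQ_surjective _)
  have hker : (KK (L K J k) R').restrictScalars R' = LinearMap.ker π := by
    ext x
    rw [Submodule.restrictScalars_mem, KK_L, sup_comm, LinearMap.mem_ker]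
    show _ ↔ ((JR J R' ^ k • ⊤ : Submodule _ (V a n R' ⧸ KK K R')).mkQ ((KK K R').mkQ x)) = 0
    rw [Submodule.mkQ_apply, Submodule.Quotient.mk_eq_zero, ← Submodule.range_mkQ (KK K R'), LinearMap.range_eq_map,
      ← Submodule.map_smul'', ← Submodule.mem_comap, Submodule.comap_map_eq, Submodule.ker_mkQ]
  obtain ⟨e₁⟩ := nonempty_quot_baseChange (R := R') (R' := T) (L K J k)
  obtain ⟨e₂⟩ := nonempty_quot_baseChange (R := R₀) (R' := T) (L K J k)
  exact Module.Projective.of_equiv (((((Submodule.quotEquivOfEq _ _ hker).trans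
    (π.quotKerEquivOfSurjective hπ)).symm.baseChange R' T _ _).trans e₁).trans e₂.symm)

/-- Finitely many pieces cover the primes. -/
theorem exists_pieces (I : Ideal R₀) :
    ∃ S : Finset (Ideal R₀ × R₀), (∀ x ∈ S, Piece (fun k => Qk K J k) x.1 x.2) ∧
      ∀ q : Ideal R₀, q.IsPrime → I ≤ q → ∃ x ∈ S, x.1 ≤ q ∧ x.2 ∉ q := by
  classical
  induction I using WellFoundedGT.induction with
  | _ I ih =>
    by_cases hI : I = ⊤
    · exact ⟨∅, by simp, fun q hq h => absurd (top_le_iff.1 (hI ▸ h)) hq.ne_top⟩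
    by_cases hp : I.IsPrime
    · obtain ⟨f, hf, hg⟩ := exists_piece K J I
      obtain ⟨S, hS, hS'⟩ := ih (I ⊔ Ideal.span {f})
        (lt_of_le_of_ne le_sup_left fun h => hf (h ▸ Ideal.mem_sup_right (Ideal.mem_span_singleton_self f)))
      refine ⟨insert (I, f) S, by simp [hg]; exact fun x y h => hS (x, y) h, fun q hq hle => ?_⟩
      by_cases hfq : f ∈ q
      · obtain ⟨x, hx, h⟩ := hS' q hq (sup_le hle ((Ideal.span_singleton_le_iff_mem _).2 hfq))
        exact ⟨x, Finset.mem_insert_of_mem hx, h⟩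
      · exact ⟨(I, f), Finset.mem_insert_self _ _, hle, hfq⟩
    · obtain ⟨x, hx, y, hy, hxy⟩ := (Ideal.not_isPrime_iff.1 hp).resolve_left hI
      have hlt : ∀ z ∉ I, I < I ⊔ Ideal.span {z} := fun z hz =>
        lt_of_le_of_ne le_sup_left fun h => hz (h ▸ Ideal.mem_sup_right (Ideal.mem_span_singleton_self z))
      obtain ⟨S, hS, hS'⟩ := ih _ (hlt x hx)
      obtain ⟨T, hT, hT'⟩ := ih _ (hlt y hy)
      refine ⟨S ∪ T, fun z hz => (Finset.mem_union.1 hz).elim (hS z) (hT z), fun q hq hle => ?_⟩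
      rcases hq.mem_or_mem (hle hxy) with h | h
      · obtain ⟨z, hz, h'⟩ := hS' q hq (sup_le hle ((Ideal.span_singleton_le_iff_mem _).2 h))
        exact ⟨z, Finset.mem_union_left _ hz, h'⟩
      · obtain ⟨z, hz, h'⟩ := hT' q hq (sup_le hle ((Ideal.span_singleton_le_iff_mem _).2 h))
        exact ⟨z, Finset.mem_union_right _ hz, h'⟩

omit [IsNoetherianRing R₀] in
theorem mem_smul_top_of_forall_coord {S : Type u} [CommRing S] {I : Ideal (MvPolynomial (Fin n) S)} {v : V a n S}
    (h : ∀ i, v i ∈ I) : v ∈ I • (⊤ : Submodule (MvPolynomial (Fin n) S) (V a n S)) := by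
  rw [show v = ∑ i, v i • (Pi.single i 1 : V a n S) from pi_eq_sum_univ' v]
  exact Submodule.sum_mem _ fun i _ => Submodule.smul_mem_smul (h i) Submodule.mem_top

/-- Flatness after reduction modulo all powers of `p` gives flatness near primes over `V(p) ∩ D(f)`. -/
theorem exists_smul_mem_of_adic {R' : Type u} [CommRing R'] [IsNoetherianRing R'] [Algebra R₀ R'] (q : Ideal R') (g : R')
    (K' : Submodule (MvPolynomial (Fin n) R₀) (V a n R₀))
    (hflat : ∀ m : ℕ, FlatC K' (Localization.Away (Ideal.Quotient.mk (q ^ m) g)))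
    (I : Ideal R') {x : V a n R'} (hx : x ∈ KK K' R') (hxI : x ∈ CJ a n I)
    (P : Ideal (MvPolynomial (Fin n) R')) [P.IsPrime] (hqP : ∀ c ∈ q, C c ∈ P) (hgP : C g ∉ P) :
    ∃ s ∉ P, s • x ∈ (I.map C : Ideal (MvPolynomial (Fin n) R')) • KK K' R' := by
  classical
  let PR := MvPolynomial (Fin n) R'
  let W : Submodule PR (V a n R') := KK K' R' ⊓ CJ a n I
  let IK : Submodule PR (V a n R') := (I.map C : Ideal PR) • KK K' R'
  let qC : Ideal PR := q.map C
  obtain ⟨c, hc⟩ := Ideal.exists_pow_inf_eq_pow_smul qC W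
  have key : ∀ y ∈ W, ∃ m : ℕ, (C g : PR) ^ m • y ∈ IK ⊔ qC • W := by
    intro y hy
    let m₀ := c + 1
    let T := Localization.Away (Ideal.Quotient.mk (q ^ m₀) g)
    let β : R' →+* T := (algebraMap (R' ⧸ q ^ m₀) T).comp (Ideal.Quotient.mk (q ^ m₀))
    have hαβ : β.comp (algebraMap R₀ R') = algebraMap R₀ T := by
      refine RingHom.ext fun r => ?_
      show algebraMap (R' ⧸ q ^ m₀) T (algebraMap R₀ (R' ⧸ q ^ m₀) r) = _
      rw [← IsScalarTower.algebraMap_apply]
    have h1 : mapV β y ∈ KK K' T := by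
      refine Submodule.span_le.2 ?_ (mapV_mem_span β hy.1)
      rintro _ ⟨_, ⟨w, hw, rfl⟩, rfl⟩
      rw [mapV_mapV, hαβ]
      exact mapL_mem_KK K' hw
    have h2 : mapV β y ∈ CJ a n (I.map β) := mem_CJ.2 fun i => MvPolynomial.mem_map_C_iff.2 fun d => by
      rw [mapV_apply, MvPolynomial.coeff_map]
      exact Ideal.mem_map_of_mem _ (MvPolynomial.mem_map_C_iff.1 (mem_CJ.1 hy.2 i) d)
    have hlift : ∀ z, z ∈ ((I.map β).map C : Ideal (MvPolynomial (Fin n) T)) • KK K' T →
        ∃ (m : ℕ), ∃ z' ∈ IK, β g ^ m • z = mapV β z' := by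
      intro z hz
      have hz' := smul_KK_le_closure K' _ hz
      clear hz
      induction hz' using AddSubmonoid.closure_induction with
      | zero => exact ⟨0, 0, zero_mem _, by simp⟩
      | mem z hz =>
        obtain ⟨r, hr, w, hw, rfl⟩ := hz
        obtain ⟨m, i, hi, him⟩ : ∃ (m : ℕ), ∃ i ∈ I, β g ^ m * r = β i := by
          induction hr using Submodule.span_induction with
          | mem r hr => obtain ⟨i, hi, rfl⟩ := hr; exact ⟨0, i, hi, by simp⟩
          | zero => exact ⟨0, 0, zero_mem _, by simp⟩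
          | add r s _ _ hr hs =>
            obtain ⟨m, i, hi, him⟩ := hr
            obtain ⟨m', i', hi', him'⟩ := hs
            refine ⟨m + m', g ^ m' * i + g ^ m * i', add_mem (I.mul_mem_left _ hi) (I.mul_mem_left _ hi'), ?_⟩
            simp only [map_add, map_mul, map_pow]
            linear_combination β g ^ m' * him + β g ^ m * him'
          | smul t r _ hr =>
            obtain ⟨m, i, hi, him⟩ := hr
            obtain ⟨m', u, hu⟩ := IsLocalization.Away.surj (Ideal.Quotient.mk (q ^ m₀) g) t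
            obtain ⟨u, rfl⟩ := Ideal.Quotient.mk_surjective u
            refine ⟨m + m', u * i, I.mul_mem_left _ hi, ?_⟩
            have hu' : t * β g ^ m' = β u := hu
            simp only [map_mul, smul_eq_mul]
            linear_combination t * β g ^ m' * him + β i * hu'
        refine ⟨m, (C i : PR) • mapL R' w, Submodule.smul_mem_smul (Ideal.mem_map_of_mem _ hi) (mapL_mem_KK K' hw), ?_⟩
        rw [smul_smul, him, mapV_smul, MvPolynomial.map_C, C_smul]
        congr 1
        show mapV (algebraMap R₀ T) w = mapV β (mapV (algebraMap R₀ R') w)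
        rw [mapV_mapV, hαβ]
      | add z z' _ _ hz hz' =>
        obtain ⟨m, w, hw, hwz⟩ := hz
        obtain ⟨m', w', hw', hwz'⟩ := hz'
        refine ⟨m + m', (C g : PR) ^ m' • w + (C g : PR) ^ m • w', add_mem (IK.smul_mem _ hw) (IK.smul_mem _ hw'), ?_⟩
        rw [mapV_add, mapV_smul, mapV_smul, ← hwz, ← hwz', map_pow, map_pow, MvPolynomial.map_C,
          ← map_pow (C : T →+* MvPolynomial (Fin n) T), ← map_pow (C : T →+* MvPolynomial (Fin n) T), C_smul, C_smul, smul_smul, smul_smul, ← pow_add, ← pow_add, smul_add, add_comm m' m]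
    obtain ⟨m, z', hz', hzy⟩ := hlift _ (hflat m₀ (I.map β) _ h1 h2)
    -- the difference is killed modulo `q ^ m₀` by a power of `g`
    let v : V a n R' := (C g : PR) ^ m • y - z'
    have hv : mapV β v = 0 := by
      simp only [v]
      rw [mapV_sub, mapV_smul, ← hzy, map_pow, MvPolynomial.map_C, ← map_pow, C_smul, sub_self]
    have hco : ∀ i d, ∃ l : ℕ, g ^ l * (v i).coeff d ∈ q ^ m₀ := by
      intro i d
      have h3 : β ((v i).coeff d) = 0 := by
        rw [← MvPolynomial.coeff_map]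
        show MvPolynomial.coeff d (mapV β v i) = 0
        rw [hv]; simp
      obtain ⟨⟨_, l, rfl⟩, hl⟩ := (IsLocalization.map_eq_zero_iff (Submonoid.powers (Ideal.Quotient.mk (q ^ m₀) g)) T _).1 h3
      exact ⟨l, Ideal.Quotient.eq_zero_iff_mem.1 (by rw [map_mul, map_pow]; exact hl)⟩
    choose l hl using hco
    let N := Finset.univ.sup fun i => (v i).support.sup (l i)
    have hvq : (C g : PR) ^ N • v ∈ qC ^ m₀ • (⊤ : Submodule PR (V a n R')) := by
      refine mem_smul_top_of_forall_coord fun i => ?_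
      rw [← Ideal.map_pow, MvPolynomial.mem_map_C_iff]
      intro d
      rw [Pi.smul_apply, smul_eq_mul, ← map_pow, MvPolynomial.coeff_C_mul]
      by_cases hd : d ∈ (v i).support
      · obtain ⟨e, he⟩ := Nat.exists_eq_add_of_le
          ((Finset.le_sup (f := l i) hd).trans (Finset.le_sup (f := fun i => (v i).support.sup (l i)) (Finset.mem_univ i)))
        rw [show N = l i d + e from he, show g ^ (l i d + e) * (v i).coeff d = g ^ e * (g ^ l i d * (v i).coeff d) by ring]
        exact Ideal.mul_mem_left _ _ (hl i d)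
      · rw [MvPolynomial.notMem_support_iff.1 hd, mul_zero]
        exact zero_mem _
    have hvW : (C g : PR) ^ N • v ∈ W := by
      refine W.smul_mem _ (sub_mem (W.smul_mem _ hy) ⟨?_, smul_le_CJ I _ hz'⟩)
      exact Submodule.smul_le_right hz'
    have h4 : (C g : PR) ^ N • v ∈ qC ^ m₀ • ⊤ ⊓ W := ⟨hvq, hvW⟩
    rw [hc m₀ (Nat.le_succ c), show m₀ - c = 1 from Nat.add_sub_cancel_left c 1, pow_one] at h4
    refine ⟨N + m, ?_⟩
    rw [pow_add, mul_smul, show (C g : PR) ^ m • y = z' + v from (add_sub_cancel z' _).symm, smul_add]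
    exact Submodule.add_mem_sup (IK.smul_mem _ hz') (Submodule.smul_mono le_rfl inf_le_right h4)
  -- uniform exponent and the determinant trick
  obtain ⟨G, hG⟩ : W.FG := IsNoetherian.noetherian W
  choose! e he using key
  let E := G.sup e
  have hGE : ∀ y ∈ W, (C g : PR) ^ E • y ∈ IK ⊔ qC • W := by
    intro y hy
    refine (show W ≤ (IK ⊔ qC • W).comap (LinearMap.lsmul PR (V a n R') ((C g : PR) ^ E)) from ?_) hy
    nth_rewrite 1 [← hG]
    rw [Submodule.span_le]
    intro z hz
    obtain ⟨d, hd⟩ := Nat.exists_eq_add_of_le (Finset.le_sup (f := e) hz)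
    show (C g : PR) ^ E • z ∈ IK ⊔ qC • W
    rw [show E = e z + d from hd, add_comm, pow_add, mul_smul]
    exact Submodule.smul_mem _ _ (he z (hG ▸ Submodule.subset_span hz))
  let Wq : Submodule PR (V a n R' ⧸ IK) := W.map IK.mkQ
  haveI : Module.Finite PR Wq := Module.Finite.iff_fg.2 (IsNoetherian.noetherian Wq)
  let φ : Module.End PR Wq := algebraMap PR (Module.End PR Wq) ((C g : PR) ^ E)
  have hφ : LinearMap.range φ ≤ qC • ⊤ := by
    rintro _ ⟨⟨w, y, hy, rfl⟩, rfl⟩
    obtain ⟨i, hi, z, hz, hiz⟩ := Submodule.mem_sup.1 (hGE y hy)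
    have h5 : IK.mkQ z ∈ (qC • (⊤ : Submodule PR Wq)).map Wq.subtype := by
      rw [Submodule.map_smul'', Submodule.map_subtype_top, ← Submodule.map_smul'']
      exact Submodule.mem_map_of_mem hz
    obtain ⟨z₁, hz₁, hz₁z⟩ := h5
    have h6 : φ ⟨IK.mkQ y, y, hy, rfl⟩ = z₁ := by
      apply Subtype.ext
      show (C g : PR) ^ E • IK.mkQ y = Wq.subtype z₁
      rw [hz₁z, ← map_smul, ← hiz, map_add, show IK.mkQ i = 0 from (Submodule.Quotient.mk_eq_zero _).2 hi, zero_add]
    rw [h6]
    exact hz₁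
  obtain ⟨p, hp, -, hpc, hp0⟩ := LinearMap.exists_monic_and_natDegree_eq_and_coeff_mem_pow_and_aeval_eq_zero PR φ qC hφ
  refine ⟨p.eval ((C g : PR) ^ E), fun hP => ?_, ?_⟩
  · have hqP' : qC ≤ P := Ideal.map_le_iff_le_comap.2 hqP
    have h7 : ((C g : PR) ^ E) ^ p.natDegree ∈ P := by
      rw [Polynomial.eval_eq_sum_range, Finset.sum_range_succ, hp.coeff_natDegree, one_mul] at hP
      refine (Submodule.add_mem_iff_right P (Submodule.sum_mem _ fun k hk => ?_)).1 hP
      exact Ideal.mul_mem_right _ _ (hqP' (Ideal.pow_le_self (by have := Finset.mem_range.1 hk; omega) (hpc k)))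
    exact hgP (‹P.IsPrime›.mem_of_pow_mem _ (‹P.IsPrime›.mem_of_pow_mem _ h7))
  · have h8 := LinearMap.congr_fun hp0 ⟨IK.mkQ x, x, ⟨hx, hxI⟩, rfl⟩
    simp only [φ, Polynomial.aeval_algebraMap_apply, Polynomial.coe_aeval_eq_eval, Module.algebraMap_end_apply,
      LinearMap.zero_apply] at h8
    rw [← Submodule.Quotient.mk_eq_zero, ← Submodule.mkQ_apply, map_smul]
    exact congrArg Subtype.val h8

omit [IsNoetherianRing R₀] in
theorem flat_Qk_mono {R' : Type u} [CommRing R'] [Algebra R₀ R'] [Algebra R R'] [IsScalarTower R₀ R R'] (k : ℕ)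
    (h : Module.Flat R (R ⊗[R₀] Qk K J k)) : Module.Flat R' (R' ⊗[R₀] Qk K J k) :=
  haveI := h
  Module.Flat.of_linearEquiv (AlgebraTensorModule.cancelBaseChange R₀ R R' R' (Qk K J k)).symm

/-- **Uniform descent.** -/
theorem exists_fg_uniform {A : Type u} [CommRing A] [Algebra R₀ A] (h : ∀ k, FlatC (L K J k) A) :
    ∃ R₁ : Subalgebra R₀ A, R₁.FG ∧ ∀ k, FlatC (L K J k) R₁ := by
  classical
  obtain ⟨S, hS, hcover⟩ := exists_pieces K J ⊥
  choose! D hD using fun x hx => exists_bound (fun k => Qk K J k) (hS x hx)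
  let N := S.sup D
  choose R hR hRflat using fun k => exists_fg_flatC (L K J k) (h k)
  let R₁ := (Finset.range (N + 1)).sup R
  have hR₁ : R₁.FG := Finset.sup_induction (p := fun S : Subalgebra R₀ A => S.FG) Subalgebra.fg_bot
    (fun a ha b hb => ha.sup hb) fun k _ => hR k
  have hlow : ∀ k ≤ N, Module.Flat R₁ (R₁ ⊗[R₀] Qk K J k) := fun k hk => by
    have hle : R k ≤ R₁ := Finset.le_sup (Finset.mem_range.2 (Nat.lt_succ_of_le hk))
    letI := (Subalgebra.inclusion hle).toRingHom.toAlgebra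
    haveI : IsScalarTower R₀ (R k) R₁ := .of_algebraMap_eq fun _ => rfl
    exact flat_Qk_mono K J (R k) k ((flat_Qk_iff K J (R k) k).2 (hRflat k))
  refine ⟨R₁, hR₁, fun k => ?_⟩
  have : Algebra.FiniteType R₀ R₁ := (Subalgebra.fg_iff_finiteType R₁).1 hR₁
  have : IsNoetherianRing R₁ := Algebra.FiniteType.isNoetherianRing R₀ R₁
  intro I x hx hxI
  by_contra hnot
  let c : Ideal (MvPolynomial (Fin n) R₁) :=
    ((I.map C : Ideal (MvPolynomial (Fin n) R₁)) • KK (L K J k) R₁).comap (LinearMap.toSpanSingleton _ _ x)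
  have hc : c ≠ ⊤ := fun htop => hnot (by
    have h1 : (1 : MvPolynomial (Fin n) R₁) ∈ c := htop ▸ Submodule.mem_top
    simpa [c, LinearMap.toSpanSingleton_apply] using h1)
  obtain ⟨P, hP, hle⟩ := Ideal.exists_le_maximal c hc
  obtain ⟨⟨p, f⟩, hpf, hpP, hfP⟩ :=
    hcover (P.comap ((C : R₁ →+* MvPolynomial (Fin n) R₁).comp (algebraMap R₀ R₁))) (Ideal.IsPrime.comap _) bot_le
  obtain ⟨s, hs, hsx⟩ := exists_smul_mem_of_adic (p.map (algebraMap R₀ R₁)) (algebraMap R₀ R₁ f) (L K J k) (fun m => by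
    rw [← flat_Qk_iff]
    let T := Localization.Away (Ideal.Quotient.mk ((p.map (algebraMap R₀ R₁)) ^ m) (algebraMap R₀ R₁ f))
    refine hD (p, f) hpf m T (IsLocalization.Away.algebraMap_isUnit
      (Ideal.Quotient.mk ((p.map (algebraMap R₀ R₁)) ^ m) (algebraMap R₀ R₁ f))) ?_
      (fun j hj => flat_Qk_mono K J R₁ j (hlow j (hj.trans (Finset.le_sup (f := D) hpf)))) k
    rw [IsScalarTower.algebraMap_eq R₀ (R₁ ⧸ (p.map (algebraMap R₀ R₁)) ^ m) T, ← Ideal.map_map,
      IsScalarTower.algebraMap_eq R₀ R₁ (R₁ ⧸ (p.map (algebraMap R₀ R₁)) ^ m), ← Ideal.map_map, Ideal.map_pow,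
      Ideal.Quotient.algebraMap_eq]
    exact (congrArg _ (Ideal.map_quotient_self _)).trans Ideal.map_bot) I hx hxI P (fun c hc => by
      exact (Ideal.map_le_iff_le_comap (K := P.comap C)).2 (fun y hy => hpP hy) hc) hfP
  exact hs (hle hsx)

end Groth.Agent.GrFlat5
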