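import Groth.Agent.QCoh.FlatOver
import Groth.Agent.QCoh.PullbackBC
import Mathlib.RingTheory.Flat.Stability
import Mathlib.AlgebraicGeometry.PullbackCarrier
import Mathlib.AlgebraicGeometry.Morphisms.Flat

/-!
# Flatness of an inverse image in terms of a flat base change of sections
-/

set_option backward.isDefEq.respectTransparency false
set_option backward.isDefEq.respectTransparency.types false
set_option linter.style.haveILetI false
set_option autoImplicit false

universe u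

open CategoryTheory CategoryTheory.Limits AlgebraicGeometry TopologicalSpace Opposite TensorProduct

namespace Groth.Agent.GrFlat5

/-- Flatness of a base change is insensitive to isomorphisms of the two rings. -/
theorem flat_tensor_congr {A A₁ A' A₁' M : Type u} [CommRing A] [CommRing A₁] [CommRing A'] [CommRing A₁']
    [Algebra A A₁] [Algebra A A'] [Algebra A' A₁'] [Algebra A₁ A₁'] [Algebra A A₁']
    [IsScalarTower A A₁ A₁'] [IsScalarTower A A' A₁'] [AddCommGroup M] [Module A M] [Module A₁ M]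
    [IsScalarTower A A₁ M] (h : Function.Bijective (algebraMap A A₁))
    (h' : Function.Bijective (algebraMap A' A₁')) :
    Module.Flat A₁' (A₁' ⊗[A₁] M) ↔ Module.Flat A' (A' ⊗[A] M) := by
  let hiso : (A' ⊗[A] M) ≃ₗ[A'] A₁' ⊗[A] M :=
    AlgebraTensorModule.congr (LinearEquiv.ofBijective (Algebra.linearMap A' A₁') h') (LinearEquiv.refl A M)
  have hsurj : ∀ a₁ : A₁, ∀ (x : A₁') (m : M), (a₁ • x) ⊗ₜ[A] m = x ⊗ₜ[A] (a₁ • m) := by
    intro a₁ x m
    obtain ⟨a, rfl⟩ := h.2 a₁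
    rw [algebraMap_smul, algebraMap_smul, TensorProduct.smul_tmul]
  haveI : TensorProduct.CompatibleSMul A A₁ A₁' M := ⟨hsurj⟩
  let e₂ : A₁' ⊗[A₁] M ≃ₗ[A₁'] A₁' ⊗[A] M :=
    TensorProduct.equivOfCompatibleSMul A A₁ A₁' A₁' M
  have hflat : Module.Flat A' A₁' :=
    Module.Flat.of_linearEquiv (LinearEquiv.ofBijective (Algebra.linearMap A' A₁') h').symm
  refine (show Module.Flat A₁' (A₁' ⊗[A₁] M) ↔ Module.Flat A₁' (A₁' ⊗[A] M) from
    ⟨fun _ => Module.Flat.of_linearEquiv e₂.symm, fun _ => Module.Flat.of_linearEquiv e₂⟩).trans ⟨fun _ => ?_, fun _ => ?_⟩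
  · haveI := Module.Flat.trans A' A₁' (A₁' ⊗[A] M)
    exact Module.Flat.of_linearEquiv hiso
  · exact Module.Flat.of_linearEquiv (AlgebraTensorModule.cancelBaseChange A A' A₁' A₁' M).symm

variable {X S X' T : Scheme.{u}} {u : X ⟶ S} {u' : X' ⟶ T} {g' : X' ⟶ X} {h : T ⟶ S}

/-- Flatness of an inverse image over an affine piece of a base change. -/
theorem flat_pullback_iff (hc : IsPullback g' u' u h) {F : X.Modules} (hF : Coh.IsQCoh F) {V : S.Opens}
    (hV : IsAffineOpen V) {U : X.Opens} (hU : IsAffineOpen U) (hUV : U ≤ u ⁻¹ᵁ V) {O : T.Opens}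
    (hO : IsAffineOpen O) (hOV : O ≤ h ⁻¹ᵁ V) :
    (letI : Algebra Γ(S, V) Γ(T, O) := (h.appLE V O hOV).hom.toAlgebra
     letI : Module Γ(S, V) Γ(F, U) := Module.compHom _ (u.appLE V U hUV).hom
     Module.Flat Γ(T, O) (Γ(T, O) ⊗[Γ(S, V)] Γ(F, U))) ↔
      ∀ x' : X', g' x' ∈ U → u' x' ∈ O →
        FlatMod.IsFlatOverAt u' ((Scheme.Modules.pullback g').obj F) x' := by
  let W : X'.Opens := g' ⁻¹ᵁ U ⊓ u' ⁻¹ᵁ O
  have hW : IsAffineOpen W := by
    haveI : IsAffine _ := hV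
    haveI : IsAffine _ := hO
    haveI : IsAffine _ := hU
    exact .of_isIso (Scheme.Hom.isPullback_resLE hc hOV hUV (UY := W) rfl).isoPullback.hom
  have hpo := (isIso_pushoutSection_iff hc hOV hUV (UY := W) rfl).mp
    (isIso_pushoutSection_of_isAffineOpen hc hOV hUV rfl hV hO hU)
  let N := (Scheme.Modules.pullback g').obj F
  letI : Algebra Γ(S, V) Γ(X, U) := (u.appLE V U hUV).hom.toAlgebra
  letI : Algebra Γ(S, V) Γ(T, O) := (h.appLE V O hOV).hom.toAlgebra
  letI : Module Γ(S, V) Γ(F, U) := Module.compHom _ (u.appLE V U hUV).hom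
  haveI : IsScalarTower Γ(S, V) Γ(X, U) Γ(F, U) := .of_algebraMap_smul fun _ _ => rfl
  letI : Algebra Γ(X, U) Γ(X', W) := (g'.appLE U W inf_le_left).hom.toAlgebra
  letI : Algebra Γ(T, O) Γ(X', W) := (u'.appLE O W inf_le_right).hom.toAlgebra
  letI : Algebra Γ(S, V) Γ(X', W) := (u.appLE V U hUV ≫ g'.appLE U W inf_le_left).hom.toAlgebra
  haveI : IsScalarTower Γ(S, V) Γ(X, U) Γ(X', W) := .of_algebraMap_eq fun _ => rfl
  haveI : IsScalarTower Γ(S, V) Γ(T, O) Γ(X', W) := .of_algebraMap_eq fun r => congr($(hpo.w).hom r)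
  haveI : Algebra.IsPushout Γ(S, V) Γ(T, O) Γ(X, U) Γ(X', W) :=
    CommRingCat.isPushout_iff_isPushout.mp hpo.flip
  letI : Module Γ(X, U) Γ(N, W) := Module.compHom _ (g'.appLE U W inf_le_left).hom
  haveI : IsScalarTower Γ(X, U) Γ(X', W) Γ(N, W) := .of_algebraMap_smul fun _ _ => rfl
  let l : Γ(F, U) →ₗ[Γ(X, U)] Γ(N, W) :=
    { toFun := QCoh.pullSec g' F inf_le_left
      map_add' := QCoh.pullSec_add g' F inf_le_left
      map_smul' := fun r m => QCoh.pullSec_smul g' F inf_le_left r m }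
  have hb : IsBaseChange Γ(X', W) l :=
    QCoh.isBaseChange_pullback hU g' hW hF inf_le_left (fun _ => rfl) l fun _ => rfl
  letI : Module Γ(T, O) Γ(N, W) := Module.compHom _ (u'.appLE O W inf_le_right).hom
  haveI : IsScalarTower Γ(T, O) Γ(X', W) Γ(N, W) := .of_algebraMap_smul fun _ _ => rfl
  let e : Γ(T, O) ⊗[Γ(S, V)] Γ(F, U) ≃ₗ[Γ(T, O)] Γ(N, W) :=
    (Algebra.IsPushout.cancelBaseChange Γ(S, V) Γ(T, O) Γ(X, U) Γ(X', W) Γ(F, U)).symm.trans
      (hb.equiv.restrictScalars Γ(T, O))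
  rw [show (Module.Flat Γ(T, O) (Γ(T, O) ⊗[Γ(S, V)] Γ(F, U)) ↔ Module.Flat Γ(T, O) Γ(N, W)) from
    ⟨fun _ => Module.Flat.of_linearEquiv e.symm, fun _ => Module.Flat.of_linearEquiv e⟩]
  rw [QCoh.flat_appLE_iff u' (QCoh.isQCoh_pullback g' hF) hW hO inf_le_right]
  exact ⟨fun H x' h₁ h₂ => H x' ⟨h₁, h₂⟩, fun H x' hx => H x' hx.1 hx.2⟩

open CategoryTheory.Limits in
/-- Flatness of an inverse image along a morphism of affine schemes, with coefficients in the rings. -/
theorem flat_pullback_spec_iff {A A' : Type u} [CommRing A] [CommRing A'] [Algebra A A'] {X : Scheme.{u}}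
    (f : X ⟶ Spec (CommRingCat.of A)) {F : X.Modules} (hF : Coh.IsQCoh F) {U : X.Opens} (hU : IsAffineOpen U)
    [Algebra A Γ(X, U)] [Module A Γ(F, U)] [IsScalarTower A Γ(X, U) Γ(F, U)]
    (halg : algebraMap A Γ(X, U) =
      ((Scheme.ΓSpecIso (CommRingCat.of A)).inv ≫ f.appLE ⊤ U (le_top : U ≤ f ⁻¹ᵁ ⊤)).hom)
    (g : Spec (CommRingCat.of A') ⟶ Spec (CommRingCat.of A))
    (hg : g = Spec.map (CommRingCat.ofHom (algebraMap A A'))) :
    Module.Flat A' (A' ⊗[A] Γ(F, U)) ↔ ∀ x' : ↥(pullback f g), pullback.fst f g x' ∈ U →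
      FlatMod.IsFlatOverAt (pullback.snd f g) ((Scheme.Modules.pullback (pullback.fst f g)).obj F) x' := by
  subst hg
  let g := Spec.map (CommRingCat.ofHom (algebraMap A A'))
  let V : (Spec (CommRingCat.of A)).Opens := ⊤
  let O : (Spec (CommRingCat.of A')).Opens := ⊤
  have hUV : U ≤ f ⁻¹ᵁ V := le_top
  have hOV : O ≤ g ⁻¹ᵁ V := le_top
  letI : Algebra Γ(Spec (CommRingCat.of A), V) Γ(Spec (CommRingCat.of A'), O) := (g.appLE V O hOV).hom.toAlgebra
  letI : Module Γ(Spec (CommRingCat.of A), V) Γ(F, U) := Module.compHom _ (f.appLE V U hUV).hom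
  letI : Algebra A Γ(Spec (CommRingCat.of A), V) := (Scheme.ΓSpecIso (CommRingCat.of A)).inv.hom.toAlgebra
  letI : Algebra A' Γ(Spec (CommRingCat.of A'), O) := (Scheme.ΓSpecIso (CommRingCat.of A')).inv.hom.toAlgebra
  letI : Algebra A Γ(Spec (CommRingCat.of A'), O) :=
    ((Scheme.ΓSpecIso (CommRingCat.of A')).inv.hom.comp (algebraMap A A')).toAlgebra
  haveI : IsScalarTower A A' Γ(Spec (CommRingCat.of A'), O) := .of_algebraMap_eq fun _ => rfl
  haveI : IsScalarTower A Γ(Spec (CommRingCat.of A), V) Γ(Spec (CommRingCat.of A'), O) :=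
    .of_algebraMap_eq fun r => by
      show (Scheme.ΓSpecIso (CommRingCat.of A')).inv (algebraMap A A' r) =
        g.appLE V O hOV ((Scheme.ΓSpecIso (CommRingCat.of A)).inv r)
      have h := congr($(Scheme.ΓSpecIso_inv_naturality (CommRingCat.ofHom (algebraMap A A'))) r)
      rw [CommRingCat.comp_apply, CommRingCat.comp_apply] at h
      rw [Scheme.Hom.appLE, CommRingCat.comp_apply]
      exact h.trans (by simp [g, V, O])
  haveI : IsScalarTower A Γ(Spec (CommRingCat.of A), V) Γ(F, U) := .of_algebraMap_smul fun r m => by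
    rw [← IsScalarTower.algebraMap_smul Γ(X, U) r m, halg]
    rfl
  rw [← flat_tensor_congr (A₁ := Γ(Spec (CommRingCat.of A), V)) (A₁' := Γ(Spec (CommRingCat.of A'), O))
      (ConcreteCategory.bijective_of_isIso (Scheme.ΓSpecIso (CommRingCat.of A)).inv)
      (ConcreteCategory.bijective_of_isIso (Scheme.ΓSpecIso (CommRingCat.of A')).inv),
    flat_pullback_iff (IsPullback.of_hasPullback f g) hF (isAffineOpen_top _) hU hUV (isAffineOpen_top _) hOV]
  exact ⟨fun H x' hx => H x' hx trivial, fun H x' hx _ => H x' hx⟩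

end Groth.Agent.GrFlat5
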