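import Groth.Agent.GrFlat5.ArtinFamily
import Groth.Agent.GrFlat5.FlatPullback
import Groth.Agent.QCoh.FT
import Mathlib.RingTheory.HopkinsLevitzki

/-!
# Flatness of a sheaf at a point descends along jointly injective families out of an Artinian local ring
-/

set_option backward.isDefEq.respectTransparency false
set_option backward.isDefEq.respectTransparency.types false
set_option linter.style.haveILetI false
set_option autoImplicit false

universe u w

open CategoryTheory CategoryTheory.Limits AlgebraicGeometry TopologicalSpace Opposite TensorProduct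

namespace Groth.Agent.GrFlat5

/-- The prime of a point of a spectrum. -/
theorem comap_primeIdealOf_top {R : Type u} [CommRing R] (t : ↥(Spec (CommRingCat.of R))) :
    ((isAffineOpen_top (Spec (CommRingCat.of R))).primeIdealOf ⟨t, trivial⟩).asIdeal.comap
      (Scheme.ΓSpecIso (CommRingCat.of R)).inv.hom = t.asIdeal := by
  let hT := isAffineOpen_top (Spec (CommRingCat.of R))
  suffices h : (hT.primeIdealOf ⟨t, trivial⟩).comap (Scheme.ΓSpecIso (CommRingCat.of R)).inv.hom = t from
    congrArg PrimeSpectrum.asIdeal h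
  have h1 := hT.fromSpec_primeIdealOf ⟨t, trivial⟩
  rw [IsAffineOpen.fromSpec_top, Scheme.isoSpec_Spec_inv] at h1
  exact h1

/-- Flatness at a point in terms of flatness over a ring isomorphic to that of sections. -/
theorem flatAt_iff_flat_localized {X S : Scheme.{u}} (f : X ⟶ S) {M : X.Modules} (hM : Coh.IsQCoh M)
    {U : X.Opens} (hU : IsAffineOpen U) {V : S.Opens} (hV : IsAffineOpen V) (hle : U ≤ f ⁻¹ᵁ V)
    {A : Type u} [CommRing A] (e : CommRingCat.of A ≅ Γ(S, V)) [Algebra A Γ(X, U)]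
    (halg : algebraMap A Γ(X, U) = (e.hom ≫ f.appLE V U hle).hom)
    (Q : Ideal Γ(X, U)) [Q.IsPrime] {x : X} (hx : x ∈ U) (hQ : (hU.primeIdealOf ⟨x, hx⟩).asIdeal = Q)
    {N : Type u} [AddCommGroup N] [Module Γ(X, U) N] [Module A N] [IsScalarTower A Γ(X, U) N] (j : N ≃ₗ[Γ(X, U)] Γ(M, U)) :
    FlatMod.IsFlatOverAt f M x ↔ Module.Flat A (LocalizedModule Q.primeCompl N) := by
  subst hQ
  letI := QCoh.stalkModule M hx
  letI : Module Γ(S, V) (M.presheaf.stalk x) :=
    Module.compHom _ ((f.appLE V U hle) ≫ X.presheaf.germ U x hx).hom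
  letI : Algebra A Γ(S, V) := e.hom.hom.toAlgebra
  letI : Module A (M.presheaf.stalk x) :=
    Module.compHom _ ((e.hom ≫ f.appLE V U hle) ≫ X.presheaf.germ U x hx).hom
  haveI : IsScalarTower A Γ(S, V) (M.presheaf.stalk x) := .of_algebraMap_smul fun _ _ => rfl
  haveI : IsScalarTower A Γ(X, U) (M.presheaf.stalk x) := .of_algebraMap_smul fun a m => by rw [halg]; rfl
  have hb : Function.Bijective (algebraMap A Γ(S, V)) := ConcreteCategory.bijective_of_isIso e.hom
  haveI : IsLocalization (⊥ : Submonoid A) Γ(S, V) :=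
    haveI : IsLocalization (⊥ : Submonoid A) A := IsLocalization.self (by simp)
    IsLocalization.isLocalization_of_algEquiv ⊥ (AlgEquiv.ofBijective (Algebra.ofId A Γ(S, V)) hb)
  haveI := QCoh.isLocalizedModule_germLin hM hU hx
  let φ := (QCoh.germLin M hx) ∘ₗ j.toLinearMap
  haveI : IsLocalizedModule (hU.primeIdealOf ⟨x, hx⟩).asIdeal.primeCompl φ :=
    IsLocalizedModule.of_linearEquiv_right _ _ j
  let e' := (IsLocalizedModule.iso (hU.primeIdealOf ⟨x, hx⟩).asIdeal.primeCompl φ).restrictScalars A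
  rw [QCoh.isFlatOverAt_iff f hV hle hx, Module.flat_iff_of_isLocalization Γ(S, V) (⊥ : Submonoid A) _]
  exact ⟨fun _ => Module.Flat.of_linearEquiv e', fun _ => Module.Flat.of_linearEquiv e'.symm⟩

/-- **Flatness descends along the family, at a point of a scheme.** -/
theorem flatAt_of_family {A : Type u} [CommRing A] [IsArtinianRing A] [IsLocalRing A] {X : Scheme.{u}}
    (f : X ⟶ Spec (CommRingCat.of A)) [LocallyOfFiniteType f] (F : X.Modules) (hF : Coh.IsCoh F) (x : X)
    {ι : Type w} (A' : ι → Type u) [∀ i, CommRing (A' i)] [∀ i, IsLocalRing (A' i)] (v : ∀ i, A →+* A' i)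
    (hv : ∀ a : A, (∀ i, v i a = 0) → a = 0)
    (hflat : ∀ (i : ι) (x' : ↥(pullback f (Spec.map (CommRingCat.ofHom (v i))))),
      pullback.fst f (Spec.map (CommRingCat.ofHom (v i))) x' = x →
      pullback.snd f (Spec.map (CommRingCat.ofHom (v i))) x' = IsLocalRing.closedPoint (A' i) →
      FlatMod.IsFlatOverAt (pullback.snd f (Spec.map (CommRingCat.ofHom (v i))))
        ((Scheme.Modules.pullback (pullback.fst f (Spec.map (CommRingCat.ofHom (v i))))).obj F) x') :
    FlatMod.IsFlatOverAt f F x := by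
  obtain ⟨_, ⟨U, hU, rfl⟩, hxU, -⟩ :=
    X.isBasis_affineOpens.exists_subset_of_mem_open (Set.mem_univ x) isOpen_univ
  have hU : IsAffineOpen U := hU
  let S := Spec (CommRingCat.of A)
  let V : S.Opens := ⊤
  let eA : CommRingCat.of A ≅ Γ(S, V) := (Scheme.ΓSpecIso (CommRingCat.of A)).symm
  have hUV : U ≤ f ⁻¹ᵁ V := le_top
  letI : Algebra A Γ(X, U) := (eA.hom ≫ f.appLE V U hUV).hom.toAlgebra
  letI : Module A Γ(F, U) := Module.compHom _ (algebraMap A Γ(X, U))
  haveI : IsScalarTower A Γ(X, U) Γ(F, U) := .of_algebraMap_smul fun _ _ => rfl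
  haveI : Algebra.FiniteType A Γ(X, U) :=
    RingHom.FiniteType.comp (f.finiteType_appLE (isAffineOpen_top _) hU hUV)
      (RingHom.FiniteType.of_surjective _ (ConcreteCategory.bijective_of_isIso eA.hom).2)
  haveI : IsNoetherianRing Γ(X, U) := Algebra.FiniteType.isNoetherianRing A Γ(X, U)
  haveI : Module.Finite Γ(X, U) Γ(F, U) := QCoh.finite_of_isFT hF.1 hF.2 hU
  letI : ∀ i, Algebra A (A' i) := fun i => (v i).toAlgebra
  let g := fun i => Spec.map (CommRingCat.ofHom (v i))
  let X' := fun i => pullback f (g i)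
  let W : ∀ i, (X' i).Opens := fun i => pullback.fst f (g i) ⁻¹ᵁ U ⊓ pullback.snd f (g i) ⁻¹ᵁ ⊤
  let eA' : ∀ i, CommRingCat.of (A' i) ≅ Γ(Spec (CommRingCat.of (A' i)), ⊤) :=
    fun i => (Scheme.ΓSpecIso (CommRingCat.of (A' i))).symm
  letI : ∀ i, Algebra Γ(X, U) Γ(X' i, W i) := fun i =>
    ((pullback.fst f (g i)).appLE U (W i) inf_le_left).hom.toAlgebra
  letI : ∀ i, Algebra (A' i) Γ(X' i, W i) := fun i =>
    ((eA' i).hom ≫ (pullback.snd f (g i)).appLE ⊤ (W i) inf_le_right).hom.toAlgebra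
  letI : ∀ i, Algebra A Γ(X' i, W i) := fun i =>
    ((algebraMap (A' i) Γ(X' i, W i)).comp (v i)).toAlgebra
  haveI : ∀ i, IsScalarTower A (A' i) Γ(X' i, W i) := fun i => .of_algebraMap_eq fun _ => rfl
  have hgV : ∀ i, (⊤ : (Spec (CommRingCat.of (A' i))).Opens) ≤ g i ⁻¹ᵁ V := fun i => le_top
  have hpo : ∀ i, CategoryTheory.IsPushout (CommRingCat.ofHom (v i)) (eA.hom ≫ f.appLE V U hUV)
      ((eA' i).hom ≫ (pullback.snd f (g i)).appLE ⊤ (W i) inf_le_right)
      ((pullback.fst f (g i)).appLE U (W i) inf_le_left) := fun i => by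
    have h := ((isIso_pushoutSection_iff (IsPullback.of_hasPullback f (g i)) (hgV i) hUV (UY := W i) rfl).mp
      (isIso_pushoutSection_of_isAffineOpen (IsPullback.of_hasPullback f (g i)) (hgV i) hUV rfl
        (isAffineOpen_top _) (isAffineOpen_top _) hU)).flip
    refine h.of_iso eA.symm (eA' i).symm (Iso.refl _) (Iso.refl _) ?_ (by simp) (by simp) (by simp)
    refine Eq.trans ?_ (Scheme.ΓSpecIso_naturality (CommRingCat.ofHom (v i)))
    refine congrArg (· ≫ (Scheme.ΓSpecIso (CommRingCat.of (A' i))).hom) ?_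
    simp [g, Scheme.Hom.appLE]
    rfl
  haveI : ∀ i, IsScalarTower A Γ(X, U) Γ(X' i, W i) := fun i => .of_algebraMap_eq fun r =>
    congr($((hpo i).w).hom r)
  haveI : ∀ i, Algebra.IsPushout A (A' i) Γ(X, U) Γ(X' i, W i) := fun i =>
    CommRingCat.isPushout_iff_isPushout.mp (hpo i)
  haveI : (hU.primeIdealOf ⟨x, hxU⟩).asIdeal.IsPrime := inferInstance
  rw [flatAt_iff_flat_localized f hF.1 hU (isAffineOpen_top _) hUV eA rfl _ hxU rfl (LinearEquiv.refl _ _)]
  refine ArtinFamily.flat_of_family (IsLocalRing.maximalIdeal A) ?_ _ _ A' (fun i => Γ(X' i, W i)) hv ?_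
  · have h := IsArtinianRing.isNilpotent_jacobson_bot (R := A)
    rwa [IsLocalRing.jacobson_eq_maximalIdeal ⊥ bot_ne_top] at h
  intro i Q hQ hQP hQm
  have hW : IsAffineOpen (W i) := by
    haveI : IsAffine _ := hU
    haveI : IsAffine _ := isAffineOpen_top (Spec (CommRingCat.of (A' i)))
    haveI : IsAffine _ := isAffineOpen_top (Spec (CommRingCat.of A))
    exact .of_isIso (Scheme.Hom.isPullback_resLE (IsPullback.of_hasPullback f (g i)) (hgV i) hUV
      (UY := W i) rfl).isoPullback.hom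
  obtain ⟨y, hy, hyQ⟩ := QCoh.exists_point hW ⟨Q, hQ⟩
  have h₁ : pullback.fst f (g i) y = x := by
    have e := IsAffineOpen.comap_primeIdealOf_appLE (f := pullback.fst f (g i)) U hU (W i) hW inf_le_left hy
    rw [hyQ] at e
    have e' : hU.primeIdealOf ⟨pullback.fst f (g i) y, hy.1⟩ = hU.primeIdealOf ⟨x, hxU⟩ :=
      e.symm.trans (PrimeSpectrum.ext hQP)
    have := congrArg hU.fromSpec e'
    rwa [hU.fromSpec_primeIdealOf, hU.fromSpec_primeIdealOf] at this
  have h₂ : pullback.snd f (g i) y = IsLocalRing.closedPoint (A' i) := by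
    have e := IsAffineOpen.comap_primeIdealOf_appLE (f := pullback.snd f (g i)) ⊤ (isAffineOpen_top _) (W i) hW
      inf_le_right hy
    rw [hyQ] at e
    refine PrimeSpectrum.ext ?_
    rw [← comap_primeIdealOf_top, ← e]
    exact hQm
  let N := (Scheme.Modules.pullback (pullback.fst f (g i))).obj F
  letI : Module Γ(X, U) Γ(N, W i) := Module.compHom _ ((pullback.fst f (g i)).appLE U (W i) inf_le_left).hom
  haveI : IsScalarTower Γ(X, U) Γ(X' i, W i) Γ(N, W i) := .of_algebraMap_smul fun _ _ => rfl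
  let l : Γ(F, U) →ₗ[Γ(X, U)] Γ(N, W i) :=
    { toFun := QCoh.pullSec (pullback.fst f (g i)) F inf_le_left
      map_add' := QCoh.pullSec_add (pullback.fst f (g i)) F inf_le_left
      map_smul' := fun r m => QCoh.pullSec_smul (pullback.fst f (g i)) F inf_le_left r m }
  have hb : IsBaseChange Γ(X' i, W i) l :=
    QCoh.isBaseChange_pullback hU (pullback.fst f (g i)) hW hF.1 inf_le_left (fun _ => rfl) l fun _ => rfl
  exact (flatAt_iff_flat_localized (pullback.snd f (g i)) (QCoh.isQCoh_pullback _ hF.1) hW (isAffineOpen_top _)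
    inf_le_right (eA' i) rfl Q hy (congrArg PrimeSpectrum.asIdeal hyQ) hb.equiv).1 (hflat i y h₁ h₂)

end Groth.Agent.GrFlat5
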