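import Groth.Agent.GrFlat5.FlatAtLocal

/-!
# Flatness at a point tested on families of local morphisms: the two criteria
-/

set_option backward.isDefEq.respectTransparency false
set_option backward.isDefEq.respectTransparency.types false
set_option linter.style.haveILetI false
set_option autoImplicit false

universe u w

open CategoryTheory CategoryTheory.Limits AlgebraicGeometry TopologicalSpace Opposite IsLocalRing

namespace Groth.Agent.GrFlat5

/-- A base change of a base change. -/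
theorem exists_paste {X S T T' Y : Scheme.{u}} (f : X ⟶ Y) (g : S ⟶ Y) (v : T ⟶ S) (g' : T' ⟶ Y) (j : T ⟶ T')
    (hj : j ≫ g' = v ≫ g) (F : X.Modules) :
    ∃ q : pullback (pullback.snd f g) v ⟶ pullback f g',
      q ≫ pullback.fst f g' = pullback.fst (pullback.snd f g) v ≫ pullback.fst f g ∧
      q ≫ pullback.snd f g' = pullback.snd (pullback.snd f g) v ≫ j ∧
      IsPullback q (pullback.snd (pullback.snd f g) v) (pullback.snd f g') j ∧
      ∀ x'', FlatMod.IsFlatOverAt (pullback.snd f g') ((Scheme.Modules.pullback (pullback.fst f g')).obj F) (q x'') →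
        FlatMod.IsFlatOverAt (pullback.snd (pullback.snd f g) v)
          ((Scheme.Modules.pullback (pullback.fst (pullback.snd f g) v)).obj
            ((Scheme.Modules.pullback (pullback.fst f g)).obj F)) x'' := by
  let q : pullback (pullback.snd f g) v ⟶ pullback f g' :=
    pullback.lift (pullback.fst (pullback.snd f g) v ≫ pullback.fst f g) (pullback.snd (pullback.snd f g) v ≫ j) (by
      rw [Category.assoc, Category.assoc, hj, pullback.condition, ← Category.assoc, pullback.condition, Category.assoc])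
  have hq₁ : q ≫ pullback.fst f g' = pullback.fst (pullback.snd f g) v ≫ pullback.fst f g := pullback.lift_fst _ _ _
  have hq₂ : q ≫ pullback.snd f g' = pullback.snd (pullback.snd f g) v ≫ j := pullback.lift_snd _ _ _
  have hc : IsPullback q (pullback.snd (pullback.snd f g) v) (pullback.snd f g') j :=
    IsPullback.of_right (by
        rw [hq₁, hj]
        exact (IsPullback.of_hasPullback (pullback.snd f g) v).paste_horiz (IsPullback.of_hasPullback f g))
      hq₂ (IsPullback.of_hasPullback f g')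
  refine ⟨q, hq₁, hq₂, hc, fun x'' h => isFlatOverAt_of_iso _ ?_ x''
    (MorLib.FlatBC.isFlatOverAt_baseChange _ _ q j hc _ x'' h)⟩
  exact (Scheme.Modules.pullbackComp q (pullback.fst f g')).app F ≪≫
    (Scheme.Modules.pullbackCongr hq₁).app F ≪≫
    ((Scheme.Modules.pullbackComp (pullback.fst (pullback.snd f g) v) (pullback.fst f g)).app F).symm

theorem specMap_closedPoint {A B : Type u} [CommRing A] [CommRing B] [IsLocalRing A] [IsLocalRing B] (g : A →+* B)
    [IsLocalHom g] : Spec.map (CommRingCat.ofHom g) (closedPoint B) = closedPoint A :=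
  comap_closedPoint g

/-- `Spec (O_{Y,y}/I) ⟶ Y`. -/
noncomputable abbrev idealPt {Y : Scheme.{u}} (y : Y) (I : Ideal (Y.presheaf.stalk y)) :
    Spec (CommRingCat.of (Y.presheaf.stalk y ⧸ I)) ⟶ Y :=
  Spec.map (CommRingCat.ofHom (Ideal.Quotient.mk I)) ≫ Y.fromSpecStalk y

instance {Y : Scheme.{u}} (y : Y) (I : Ideal (Y.presheaf.stalk y)) : IsPreimmersion (idealPt y I) :=
  haveI : IsClosedImmersion (Spec.map (CommRingCat.ofHom (Ideal.Quotient.mk I))) :=
    IsClosedImmersion.spec_of_surjective _ Ideal.Quotient.mk_surjective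
  inferInstance

/-- The statement to be proved at each open ideal of the family. -/
theorem flatAt_of_open_ideals {X Y : Scheme.{u}} [IsLocallyNoetherian Y] (f : X ⟶ Y) [LocallyOfFiniteType f]
    (F : X.Modules) (hF : Coh.IsCoh F) (x : X) {ι : Type w} (A : ι → Type u) [∀ i, CommRing (A i)]
    [∀ i, IsLocalRing (A i)] (φ : ∀ i, (Y.presheaf.stalk (f x) : Type u) →+* A i) [∀ i, IsLocalHom (φ i)]
    (htop : ∀ N : ℕ, ∃ s : Finset (ι × ℕ),
      ⨅ p ∈ s, Ideal.comap (φ p.1) (maximalIdeal (A p.1) ^ p.2) ≤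
        maximalIdeal ↑(Y.presheaf.stalk (f x)) ^ N)
    (hart : ∀ (I : Ideal (Y.presheaf.stalk (f x))) (_ : IsLocalRing (Y.presheaf.stalk (f x) ⧸ I))
      (_ : IsArtinianRing (Y.presheaf.stalk (f x) ⧸ I)) (s : Finset (ι × ℕ))
      (v : ∀ p : {p : ι × ℕ // p ∈ s}, (Y.presheaf.stalk (f x) ⧸ I) →+* A p.1.1 ⧸ maximalIdeal (A p.1.1) ^ p.1.2),
      (∀ p : {p : ι × ℕ // p ∈ s}, 0 < p.1.2) →
      (∀ p a, v p (Ideal.Quotient.mk I a) = Ideal.Quotient.mk _ (φ p.1.1 a)) → (∀ a, (∀ p, v p a = 0) → a = 0) →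
      ∀ xI : ↥(pullback f (idealPt (f x) I)), pullback.fst f (idealPt (f x) I) xI = x →
        FlatMod.IsFlatOverAt (pullback.snd f (idealPt (f x) I))
          ((Scheme.Modules.pullback (pullback.fst f (idealPt (f x) I))).obj F) xI) :
    FlatMod.IsFlatOverAt f F x := by
  refine flatAt_of_forall_thickPt f F hF x fun N => ?_
  let O := Y.presheaf.stalk (f x)
  obtain ⟨I, K, s, hI, hK, hs, hIeq⟩ := exists_thick_family f x A φ htop N
  let AN := O ⧸ maximalIdeal O ^ (N + 1)
  haveI : Nontrivial AN := Ideal.Quotient.nontrivial_iff.2 fun h =>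
    (maximalIdeal.isMaximal O).ne_top (top_le_iff.1 (h ▸ Ideal.pow_le_self (Nat.succ_ne_zero N)))
  haveI : IsLocalRing AN := IsLocalRing.of_surjective' (Ideal.Quotient.mk _) Ideal.Quotient.mk_surjective
  have hloc : IsLocalHom (Ideal.Quotient.mk (maximalIdeal O ^ (N + 1))) :=
    IsLocalHom.of_surjective _ Ideal.Quotient.mk_surjective
  obtain ⟨x'', hx₁, hx₂⟩ := Scheme.Pullback.exists_preimage_pullback (f := f) (g := thickPt (f x) N) x
    (closedPoint AN) (by
      rw [thickPt, Scheme.Hom.comp_apply]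
      erw [specMap_closedPoint (Ideal.Quotient.mk (maximalIdeal O ^ (N + 1)))]
      exact Scheme.fromSpecStalk_closedPoint.symm)
  refine ⟨x'', hx₁, ?_⟩
  haveI : Nontrivial (O ⧸ I) := Ideal.Quotient.nontrivial_iff.2 fun h =>
    (maximalIdeal.isMaximal O).ne_top (top_le_iff.1 ((h ▸ hI).trans (Ideal.pow_le_self (Nat.succ_ne_zero N))))
  haveI hl : IsLocalRing (O ⧸ I) := IsLocalRing.of_surjective' (Ideal.Quotient.mk _) Ideal.Quotient.mk_surjective
  have ha : IsArtinianRing (O ⧸ I) := (isArtinianRing_iff_isNilpotent_maximalIdeal (O ⧸ I)).2 ⟨K, by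
    have : maximalIdeal (O ⧸ I) = (maximalIdeal O).map (Ideal.Quotient.mk I) :=
      (IsLocalRing.map_maximalIdeal_of_surjective _ Ideal.Quotient.mk_surjective).symm
    rw [this, ← Ideal.map_pow, Ideal.zero_eq_bot, Ideal.map_eq_bot_iff_le_ker, Ideal.mk_ker]
    exact hK⟩
  refine isFlatOverAt_baseChange_comp f (idealPt (f x) I) (thickPt (f x) N)
    (Spec.map (CommRingCat.ofHom (Ideal.Quotient.factor hI))) ?_ F x (closedPoint AN) x'' hx₁ hx₂ fun xI hxI _ =>
      hart I hl ha s (fun p => Ideal.quotientMap _ (φ p.1.1) (hIeq.le.trans (iInf₂_le p.1 p.2)))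
        (fun p => hs p.1 p.2) (fun _ _ => rfl) (fun a ha' => ?_) xI hxI
  · rw [thickPt, idealPt, ← Category.assoc, ← Spec.map_comp, ← CommRingCat.ofHom_comp]
    rw [show (Ideal.Quotient.factor hI).comp (Ideal.Quotient.mk I) = Ideal.Quotient.mk _ from Ideal.Quotient.factor_comp_mk hI]
  · obtain ⟨a, rfl⟩ := Ideal.Quotient.mk_surjective a
    rw [Ideal.Quotient.eq_zero_iff_mem]
    refine hIeq.ge ?_
    simp only [Ideal.mem_iInf, Ideal.mem_comap]
    intro p hp
    exact Ideal.Quotient.eq_zero_iff_mem.1 (ha' ⟨p, hp⟩)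

variable {X Y : Scheme.{u}} [IsLocallyNoetherian Y] (f : X ⟶ Y) [LocallyOfFiniteType f] (F : X.Modules)
  (hF : Coh.IsCoh F) (x : X) {ι : Type w} (A : ι → Type u) [∀ i, CommRing (A i)] [∀ i, IsLocalRing (A i)]
  (φ : ∀ i, (Y.presheaf.stalk (f x) : Type u) →+* A i) [∀ i, IsLocalHom (φ i)]

include hF

/-- Flatness on all members at all points over `x` and the closed point gives flatness at `x`. -/
theorem flatAt_of_local_family
    (htop : ∀ N : ℕ, ∃ s : Finset (ι × ℕ),
      ⨅ p ∈ s, Ideal.comap (φ p.1) (maximalIdeal (A p.1) ^ p.2) ≤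
        maximalIdeal ↑(Y.presheaf.stalk (f x)) ^ N)
    (h : ∀ (i : ι) (x' : ↥(pullback f (Spec.map (CommRingCat.ofHom (φ i)) ≫ Y.fromSpecStalk (f x)))),
      pullback.fst f (Spec.map (CommRingCat.ofHom (φ i)) ≫ Y.fromSpecStalk (f x)) x' = x →
      pullback.snd f (Spec.map (CommRingCat.ofHom (φ i)) ≫ Y.fromSpecStalk (f x)) x' = closedPoint (A i) →
      FlatMod.IsFlatOverAt (pullback.snd f (Spec.map (CommRingCat.ofHom (φ i)) ≫ Y.fromSpecStalk (f x)))
        ((Scheme.Modules.pullback (pullback.fst f (Spec.map (CommRingCat.ofHom (φ i)) ≫ Y.fromSpecStalk (f x)))).obj F) x') :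
    FlatMod.IsFlatOverAt f F x := by
  refine flatAt_of_open_ideals f F hF x A φ htop fun I _ _ s v hs hv hinj xI hxI => ?_
  haveI : ∀ p : {p : ι × ℕ // p ∈ s}, Nontrivial (A p.1.1 ⧸ maximalIdeal (A p.1.1) ^ p.1.2) := fun p =>
    Ideal.Quotient.nontrivial_iff.2 fun h' =>
      (maximalIdeal.isMaximal (A p.1.1)).ne_top (top_le_iff.1 (h' ▸ Ideal.pow_le_self (hs p).ne'))
  haveI : ∀ p : {p : ι × ℕ // p ∈ s}, IsLocalRing (A p.1.1 ⧸ maximalIdeal (A p.1.1) ^ p.1.2) := fun p =>
    IsLocalRing.of_surjective' (Ideal.Quotient.mk _) Ideal.Quotient.mk_surjective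
  refine flatAt_of_family _ _ (ZClosLib.isCoh_pullback _ hF) xI
    (fun p : {p : ι × ℕ // p ∈ s} => A p.1.1 ⧸ maximalIdeal (A p.1.1) ^ p.1.2) v hinj fun p x'' h₁ h₂ => ?_
  obtain ⟨q, hq₁, hq₂, -, hq⟩ := exists_paste f (idealPt (f x) I) (Spec.map (CommRingCat.ofHom (v p)))
    (Spec.map (CommRingCat.ofHom (φ p.1.1)) ≫ Y.fromSpecStalk (f x))
    (Spec.map (CommRingCat.ofHom (Ideal.Quotient.mk _))) (by
      simp only [idealPt, ← Category.assoc, ← Spec.map_comp, ← CommRingCat.ofHom_comp]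
      rw [show (v p).comp (Ideal.Quotient.mk I) = (Ideal.Quotient.mk _).comp (φ p.1.1) from RingHom.ext (hv p)]) F
  haveI : IsLocalHom (Ideal.Quotient.mk (maximalIdeal (A p.1.1) ^ p.1.2)) :=
    IsLocalHom.of_surjective _ Ideal.Quotient.mk_surjective
  refine hq x'' (h p.1.1 _ ?_ ?_)
  · rw [← Scheme.Hom.comp_apply, hq₁, Scheme.Hom.comp_apply, h₁, hxI]
  · rw [← Scheme.Hom.comp_apply, hq₂, Scheme.Hom.comp_apply, h₂]
    exact specMap_closedPoint (Ideal.Quotient.mk (maximalIdeal (A p.1.1) ^ p.1.2))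

/-- For a primary residue extension, flatness at one point of each member suffices. -/
theorem flatAt_of_local_family_primary (hprim : Prim f x)
    (htop : ∀ N : ℕ, ∃ s : Finset (ι × ℕ),
      ⨅ p ∈ s, Ideal.comap (φ p.1) (maximalIdeal (A p.1) ^ p.2) ≤
        maximalIdeal ↑(Y.presheaf.stalk (f x)) ^ N)
    (h : ∀ i : ι, ∃ x' : ↥(pullback f (Spec.map (CommRingCat.ofHom (φ i)) ≫ Y.fromSpecStalk (f x))),
      pullback.fst f (Spec.map (CommRingCat.ofHom (φ i)) ≫ Y.fromSpecStalk (f x)) x' = x ∧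
      pullback.snd f (Spec.map (CommRingCat.ofHom (φ i)) ≫ Y.fromSpecStalk (f x)) x' = closedPoint (A i) ∧
      FlatMod.IsFlatOverAt (pullback.snd f (Spec.map (CommRingCat.ofHom (φ i)) ≫ Y.fromSpecStalk (f x)))
        ((Scheme.Modules.pullback (pullback.fst f (Spec.map (CommRingCat.ofHom (φ i)) ≫ Y.fromSpecStalk (f x)))).obj F) x') :
    FlatMod.IsFlatOverAt f F x := by
  refine flatAt_of_open_ideals f F hF x A φ htop fun I _ _ s v hs hv hinj xI hxI => ?_
  haveI : ∀ p : {p : ι × ℕ // p ∈ s}, Nontrivial (A p.1.1 ⧸ maximalIdeal (A p.1.1) ^ p.1.2) := fun p =>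
    Ideal.Quotient.nontrivial_iff.2 fun h' =>
      (maximalIdeal.isMaximal (A p.1.1)).ne_top (top_le_iff.1 (h' ▸ Ideal.pow_le_self (hs p).ne'))
  haveI : ∀ p : {p : ι × ℕ // p ∈ s}, IsLocalRing (A p.1.1 ⧸ maximalIdeal (A p.1.1) ^ p.1.2) := fun p =>
    IsLocalRing.of_surjective' (Ideal.Quotient.mk _) Ideal.Quotient.mk_surjective
  refine flatAt_of_family_primary _ _ (ZClosLib.isCoh_pullback _ hF) xI
    (prim_of_square (pullback.fst f (idealPt (f x) I)) _ f (idealPt (f x) I) pullback.condition xI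
      (hxI.symm ▸ hprim))
    (fun p : {p : ι × ℕ // p ∈ s} => A p.1.1 ⧸ maximalIdeal (A p.1.1) ^ p.1.2) v hinj fun p => ?_
  let j := Spec.map (CommRingCat.ofHom (Ideal.Quotient.mk (maximalIdeal (A p.1.1) ^ p.1.2)))
  haveI : IsClosedImmersion j := IsClosedImmersion.spec_of_surjective _ Ideal.Quotient.mk_surjective
  obtain ⟨q, hq₁, hq₂, hc, hq⟩ := exists_paste f (idealPt (f x) I) (Spec.map (CommRingCat.ofHom (v p)))
    (Spec.map (CommRingCat.ofHom (φ p.1.1)) ≫ Y.fromSpecStalk (f x)) j (by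
      simp only [j, idealPt, ← Category.assoc, ← Spec.map_comp, ← CommRingCat.ofHom_comp]
      rw [show (v p).comp (Ideal.Quotient.mk I) = (Ideal.Quotient.mk _).comp (φ p.1.1) from RingHom.ext (hv p)]) F
  haveI : IsLocalHom (Ideal.Quotient.mk (maximalIdeal (A p.1.1) ^ p.1.2)) :=
    IsLocalHom.of_surjective _ Ideal.Quotient.mk_surjective
  have hjc : j (closedPoint (A p.1.1 ⧸ maximalIdeal (A p.1.1) ^ p.1.2)) = closedPoint (A p.1.1) :=
    specMap_closedPoint (Ideal.Quotient.mk (maximalIdeal (A p.1.1) ^ p.1.2))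
  obtain ⟨x', hx'₁, hx'₂, hx'F⟩ := h p.1.1
  obtain ⟨w, hw₁, hw₂⟩ := Scheme.Pullback.exists_preimage_pullback (f := pullback.snd f
    (Spec.map (CommRingCat.ofHom (φ p.1.1)) ≫ Y.fromSpecStalk (f x))) (g := j) x'
    (closedPoint _) (hx'₂.trans hjc.symm)
  have hqw : q (hc.isoPullback.inv w) = x' := by
    rw [← Scheme.Hom.comp_apply, hc.isoPullback_inv_fst, hw₁]
  have hsw : pullback.snd (pullback.snd f (idealPt (f x) I)) _ (hc.isoPullback.inv w) = closedPoint _ := by
    rw [← Scheme.Hom.comp_apply, hc.isoPullback_inv_snd, hw₂]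
  refine ⟨hc.isoPullback.inv w, ?_, hsw, hq _ (hqw.symm ▸ hx'F)⟩
  apply (pullback.fst f (idealPt (f x) I)).isEmbedding.injective
  rw [← Scheme.Hom.comp_apply, ← hq₁, Scheme.Hom.comp_apply, hqw, hx'₁, hxI]

end Groth.Agent.GrFlat5
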