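import Groth.Agent.GrFlat5.ArtinFamily
import Groth.Agent.AssLib.NoEmbTensor
import Mathlib.RingTheory.Nilpotent.Lemmas
import Mathlib.RingTheory.TensorProduct.Free
import Mathlib.RingTheory.TensorProduct.Maps

/-!
# One point suffices when the residue extension is primary

If `κ(P) ⊗ₖ k'` has irreducible spectrum then an element of `A' ⊗ B` outside one prime over `(P, m')` is a
nonzerodivisor on `(A' ⊗ M_P)/m'`, so that flatness at one such prime suffices (EGA IV 11.4.9).
-/

set_option backward.isDefEq.respectTransparency false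
set_option linter.style.haveILetI false

universe u v w

open TensorProduct

namespace Groth.Agent.GrFlat5.ArtinPrimary

theorem regular_iff {S M : Type*} [Ring S] [AddCommGroup M] [Module S M] {s : S} :
    IsSMulRegular M s ↔ ∀ x : M, s • x = 0 → x = 0 :=
  ⟨fun h x hx => h (show s • x = s • (0 : M) by rw [hx, smul_zero]),
    fun h x y hxy => sub_eq_zero.1 (h _ (by rw [smul_sub]; exact sub_eq_zero.2 hxy))⟩

/-- A non-nilpotent element of a flat integral algebra over a domain with one minimal prime is regular. -/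
theorem isSMulRegular_of_flat_integral {A C : Type u} [CommRing A] [IsDomain A] [CommRing C] [Algebra A C]
    [Module.Flat A C] [Algebra.IsIntegral A C] (hC : (nilradical C).IsPrime) {s : C} (hs : ¬IsNilpotent s) :
    IsSMulRegular C s := by
  haveI : Nontrivial C := nontrivial_of_ne s 0 fun h => hs (h ▸ IsNilpotent.zero)
  refine (regular_iff (S := C) (M := C)).2 fun z hz => ?_
  by_contra hz0
  let Z : Ideal C := LinearMap.ker (LinearMap.toSpanSingleton C C z)
  let S : Submonoid C := (nonZeroDivisors A).map (algebraMap A C)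
  have hdis : Disjoint (Z : Set C) (S : Set C) := by
    rw [Set.disjoint_right]
    rintro _ ⟨a, ha, rfl⟩ h
    have h' : a • z = a • (0 : C) := by rw [smul_zero, Algebra.smul_def]; exact h
    exact hz0 (Module.Flat.isSMulRegular_of_nonZeroDivisors ha h')
  obtain ⟨q, hq, hZq, hqS⟩ := Ideal.exists_le_prime_disjoint Z S hdis
  haveI := hq
  have hle : nilradical C ≤ q := nilradical_le_prime q
  have hcomap : q.comap (algebraMap A C) = ⊥ := le_bot_iff.1 fun a ha => by
    by_contra h0
    exact Set.disjoint_left.1 hqS ha ⟨a, mem_nonZeroDivisors_of_ne_zero h0, rfl⟩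
  rcases hle.eq_or_lt with heq | hlt
  · exact hs (mem_nilradical.1 (heq ▸ hZq hz))
  · haveI := hC
    exact absurd (hcomap ▸ Ideal.IsIntegral.comap_lt_comap (R := A) hlt) not_lt_bot

theorem isSMulRegular_tensor_fields_aux {k K L E : Type u} [Field k] [Field K] [Field L] [Field E] [Algebra k K]
    [Algebra k L] [Algebra k E] [Algebra E L] [IsScalarTower k E L] [Algebra.IsIntegral E L] [IsDomain (E ⊗[k] K)]
    (hp : (nilradical (L ⊗[k] K)).IsPrime) {s : L ⊗[k] K} (hs : ¬IsNilpotent s) : IsSMulRegular (L ⊗[k] K) s := by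
  let e : ((E ⊗[k] K) ⊗[E] L) ≃+* L ⊗[k] K := (Algebra.TensorProduct.comm E (E ⊗[k] K) L).toRingEquiv.trans
      (Algebra.TensorProduct.cancelBaseChange k E L L K).toRingEquiv
  haveI : Module.Flat (E ⊗[k] K) ((E ⊗[k] K) ⊗[E] L) := inferInstance
  haveI : Algebra.IsIntegral (E ⊗[k] K) ((E ⊗[k] K) ⊗[E] L) := inferInstance
  have hn : nilradical ((E ⊗[k] K) ⊗[E] L) = (nilradical (L ⊗[k] K)).comap e.toRingHom := by
    ext x
    simp only [mem_nilradical, Ideal.mem_comap]
    exact (IsNilpotent.map_iff (f := e) e.injective).symm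
  have := isSMulRegular_of_flat_integral (A := E ⊗[k] K) (C := (E ⊗[k] K) ⊗[E] L) (hn ▸ hp.comap _)
    (s := e.symm s) fun h => hs (by simpa using h.map e)
  refine (regular_iff (S := L ⊗[k] K) (M := L ⊗[k] K)).2 fun z hz => ?_
  have h0 := (regular_iff (S := (E ⊗[k] K) ⊗[E] L) (M := (E ⊗[k] K) ⊗[E] L)).1 this (e.symm z) (by rw [smul_eq_mul, ← map_mul, ← smul_eq_mul, hz, map_zero])
  simpa using congrArg e h0

/-- A non-nilpotent element of a tensor product of fields with irreducible spectrum is regular. -/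
theorem isSMulRegular_tensor_fields {k K L : Type u} [Field k] [Field K] [Field L] [Algebra k K] [Algebra k L]
    (hp : (nilradical (L ⊗[k] K)).IsPrime) {s : L ⊗[k] K} (hs : ¬IsNilpotent s) : IsSMulRegular (L ⊗[k] K) s := by
  obtain ⟨σ, x, hx⟩ := exists_isTranscendenceBasis' k L
  let E := IntermediateField.adjoin k (Set.range x)
  haveI : Algebra.IsAlgebraic ↥E L := hx.isAlgebraic_field
  haveI := AssLib.isDomain_tensor_adjoin (K := K) hx.1
  haveI : Algebra.IsIntegral ↥E L := inferInstance
  exact isSMulRegular_tensor_fields_aux (E := ↥E) hp hs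

/-- Regularity modulo the maximal ideal gives regularity on every finite module after a free base change. -/
theorem isSMulRegular_tensor_of_residue {R S : Type u} [CommRing R] [IsNoetherianRing R] [IsLocalRing R]
    [CommRing S] [Algebra R S] [Module.Free R S] {K : Type u} [Field K] [Algebra R K]
    (hK : Function.Surjective (algebraMap R K)) {s : S} (hs : IsSMulRegular (S ⊗[R] K) s)
    (U : Type u) [AddCommGroup U] [Module R U] [Module.Finite R U] : IsSMulRegular (S ⊗[R] U) s := by
  classical
  have hker : RingHom.ker (algebraMap R K) = IsLocalRing.maximalIdeal R :=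
    IsLocalRing.eq_maximalIdeal (RingHom.ker_isMaximal_of_surjective _ hK)
  set 𝔪 := IsLocalRing.maximalIdeal R with h𝔪
  -- regular on vector spaces
  have hV : ∀ (V : Type u) [AddCommGroup V] [Module R V] [Module K V] [IsScalarTower R K V],
      IsSMulRegular (S ⊗[R] V) s := by
    intro V _ _ _ _
    let b := Module.Free.chooseBasis K V
    let e : S ⊗[R] V ≃ₗ[S] _ →₀ S ⊗[R] K := (AlgebraTensorModule.congr (LinearEquiv.refl S S) (b.repr.restrictScalars R)).trans
      (TensorProduct.finsuppRight R S S K _)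
    intro x y hxy
    apply e.injective
    ext i
    refine hs ?_
    have := DFunLike.congr_fun (congrArg e hxy) i
    simpa only [map_smul, Finsupp.smul_apply] using this
  refine (regular_iff (S := S) (M := S ⊗[R] U)).2 fun w hw => ?_
  let sub : ∀ N : ℕ, Submodule R U := fun N => 𝔪 ^ N • ⊤
  have hmem : ∀ N, ∃ w' : S ⊗[R] sub N, (sub N).subtype.baseChange S w' = w ∧ s • w' = 0 := by
    intro N
    induction N with
    | zero =>
      have htop : sub 0 = ⊤ := by simp [sub]
      let e0 : sub 0 ≃ₗ[R] U := LinearEquiv.ofTop _ htop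
      refine ⟨(e0.symm.toLinearMap.baseChange S) w, ?_, by rw [← map_smul, hw, map_zero]⟩
      rw [← LinearMap.comp_apply, ← LinearMap.baseChange_comp]
      have : (sub 0).subtype ∘ₗ e0.symm.toLinearMap = LinearMap.id := LinearMap.ext fun _ => rfl
      rw [this, LinearMap.baseChange_id]
      rfl
    | succ N ih =>
      obtain ⟨w', hw', hsw'⟩ := ih
      let N' : Submodule R (sub N) := 𝔪 • ⊤
      let V := (sub N) ⧸ N'
      have htor : Module.IsTorsionBySet R V (RingHom.ker (algebraMap R K)) := by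
        rw [hker]
        exact Module.isTorsionBySet_quotient_ideal_smul _ _
      letI : Module (R ⧸ RingHom.ker (algebraMap R K)) V := htor.module
      let eK : R ⧸ RingHom.ker (algebraMap R K) ≃+* K := RingHom.quotientKerEquivOfSurjective hK
      letI : Module K V := Module.compHom V eK.symm.toRingHom
      haveI : IsScalarTower R K V := .of_algebraMap_smul fun r v => by
        show eK.symm (algebraMap R K r) • v = r • v
        rw [show eK.symm (algebraMap R K r) = Ideal.Quotient.mk _ r from eK.symm_apply_eq.2 rfl]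
        rfl
      have h0 : N'.mkQ.baseChange S w' = 0 :=
        hV V (show s • N'.mkQ.baseChange S w' = s • (0 : S ⊗[R] V) by rw [← map_smul, hsw', map_zero, smul_zero])
      obtain ⟨y, hy⟩ := ((lTensor_exact S (LinearMap.exact_subtype_mkQ N') (Submodule.mkQ_surjective N')) w').1 h0
      have hle : ∀ u : N', ((sub N).subtype ((N').subtype u)) ∈ sub (N + 1) := fun u => by
        show ((u : sub N) : U) ∈ sub (N + 1)
        refine Submodule.smul_induction_on u.2 (fun a ha v _ => ?_) fun p q hp hq => ?_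
        · show a • (v : U) ∈ 𝔪 ^ (N + 1) • (⊤ : Submodule R U)
          rw [pow_succ', Submodule.mul_smul]
          exact Submodule.smul_mem_smul ha v.2
        · exact add_mem hp hq
      let incl : N' →ₗ[R] sub (N + 1) := LinearMap.codRestrict _ ((sub N).subtype ∘ₗ N'.subtype) hle
      refine ⟨incl.baseChange S y, ?_, ?_⟩
      · rw [← LinearMap.comp_apply, ← LinearMap.baseChange_comp,
          show (sub (N + 1)).subtype ∘ₗ incl = (sub N).subtype ∘ₗ N'.subtype from LinearMap.ext fun _ => rfl,
          LinearMap.baseChange_comp, LinearMap.comp_apply, show N'.subtype.baseChange S y = w' from hy, hw']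
      · have hinj : Function.Injective ((sub (N + 1)).subtype.baseChange S) :=
          Module.Flat.lTensor_preserves_injective_linearMap _ (sub (N + 1)).injective_subtype
        refine hinj ?_
        rw [map_smul, map_zero, ← LinearMap.comp_apply, ← LinearMap.baseChange_comp,
          show (sub (N + 1)).subtype ∘ₗ incl = (sub N).subtype ∘ₗ N'.subtype from LinearMap.ext fun _ => rfl,
          LinearMap.baseChange_comp, LinearMap.comp_apply, show N'.subtype.baseChange S y = w' from hy, hw', hw]
  -- coordinates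
  let b := Module.Free.chooseBasis R S
  let e := TensorProduct.equivFinsuppOfBasisLeft (N := U) b
  apply e.injective
  rw [map_zero]
  ext i
  rw [Finsupp.zero_apply, ← Submodule.mem_bot R,
    ← Ideal.iInf_pow_smul_eq_bot_of_isLocalRing (M := U) 𝔪 (IsLocalRing.maximalIdeal.isMaximal R).ne_top,
    Submodule.mem_iInf]
  intro N
  obtain ⟨w', hw', -⟩ := hmem N
  rw [← hw']
  clear hw'
  induction w' using TensorProduct.induction_on with
  | zero => simp
  | add p q hp hq => simp only [map_add, Finsupp.add_apply]; exact add_mem hp hq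
  | tmul a u =>
    rw [LinearMap.baseChange_tmul]
    show e (a ⊗ₜ[R] (u : U)) i ∈ _
    rw [TensorProduct.equivFinsuppOfBasisLeft_apply_tmul_apply]
    exact Submodule.smul_mem _ _ u.2

/-- Transport of `s • ∑ tⱼ ⊗ nⱼ ∈ I • (T ⊗ M)` along a change of rings killing `I`. -/
theorem smul_sum_eq_zero {B T R S M U : Type*} [CommRing B] [CommRing T] [CommRing R] [CommRing S] [Algebra B T]
    [Algebra R S] [AddCommGroup M] [Module B M] [AddCommGroup U] [Module R U] (f : B →+* R) (ψ : T →+* S)
    (hψ : ∀ b, ψ (algebraMap B T b) = algebraMap R S (f b)) (ev : M →+ U) (hev : ∀ b x, ev (b • x) = f b • ev x)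
    (I : Ideal T) (hI : ∀ a ∈ I, ψ a = 0) (s : T) {ι : Type*} (J : Finset ι) (t : ι → T) (n : ι → M)
    (h : s • (∑ j ∈ J, t j ⊗ₜ[B] n j) ∈ I • (⊤ : Submodule T (T ⊗[B] M))) :
    ψ s • (∑ j ∈ J, ψ (t j) ⊗ₜ[R] ev (n j)) = 0 := by
  let Φ : T ⊗[B] M →+ S ⊗[R] U := TensorProduct.liftAddHom
    { toFun := fun t =>
        { toFun := fun x => ψ t ⊗ₜ[R] ev x
          map_zero' := by simp
          map_add' := fun x y => by simp only [map_add, tmul_add] }
      map_zero' := by ext; simp
      map_add' := fun t t' => by ext; simp [add_tmul] }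
    (fun b t x => by
      show ψ (b • t) ⊗ₜ[R] ev x = ψ t ⊗ₜ[R] ev (b • x)
      rw [hev, ← smul_tmul, Algebra.smul_def, map_mul, hψ, ← Algebra.smul_def])
  have Φsmul : ∀ (t : T) z, Φ (t • z) = ψ t • Φ z := fun t z => by
    induction z with
    | zero => simp
    | add x y hx hy => simp only [smul_add, map_add, hx, hy]
    | tmul t' x =>
      show ψ (t * t') ⊗ₜ[R] ev x = ψ t • (ψ t' ⊗ₜ[R] ev x)
      rw [map_mul, smul_tmul', smul_eq_mul]
  have h0 : Φ (s • ∑ j ∈ J, t j ⊗ₜ[B] n j) = 0 := by
    refine Submodule.smul_induction_on h (fun a ha y _ => ?_) fun p q hp hq => ?_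
    · rw [Φsmul, hI a ha, zero_smul]
    · rw [map_add, hp, hq, add_zero]
  rw [Φsmul, map_sum] at h0
  exact h0

/-- An element outside the nilradical of `κ ⊗ k'` kills no combination with nonzero coordinates. -/
theorem coord_sum_eq_zero {k R κ k' : Type u} [Field k] [CommRing R] [IsNoetherianRing R] [IsLocalRing R]
    [Algebra k R] [Field κ] [Algebra R κ] [Algebra k κ] [IsScalarTower k R κ] [Field k'] [Algebra k k']
    (hK : Function.Surjective (algebraMap R κ)) (hp : (nilradical (κ ⊗[k] k')).IsPrime) (σ : R ⊗[k] k')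
    (hσ : ¬IsNilpotent (Algebra.TensorProduct.map (IsScalarTower.toAlgHom k R κ) (AlgHom.id k k') σ))
    (U : Type u) [AddCommGroup U] [Module R U] [Module.Finite R U] {ι : Type u} (bk : Module.Basis ι k k')
    {r : ℕ} (x : Fin r → k') (u : Fin r → U)
    (h : σ • (∑ j, ((1 : R) ⊗ₜ[k] x j) ⊗ₜ[R] u j : (R ⊗[k] k') ⊗[R] U) = 0) (i : ι) :
    ∑ j, algebraMap k R (bk.repr (x j) i) • u j = 0 := by
  classical
  let Ψ := Algebra.TensorProduct.map (IsScalarTower.toAlgHom k R κ) (AlgHom.id k k')
  have hreg : IsSMulRegular ((R ⊗[k] k') ⊗[R] κ) σ := by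
    let e : (R ⊗[k] k') ⊗[R] κ ≃+* κ ⊗[k] k' :=
      (Algebra.TensorProduct.comm R (R ⊗[k] k') κ).toRingEquiv.trans
        (Algebra.TensorProduct.cancelBaseChange k R κ κ k').toRingEquiv
    have he : ∀ y : R ⊗[k] k', e (y ⊗ₜ[R] 1) = Ψ y := fun y => by
      induction y using TensorProduct.induction_on with
      | zero => simp
      | add a b ha hb => simp only [add_tmul, map_add, ha, hb]
      | tmul a b =>
        show Algebra.TensorProduct.cancelBaseChange k R κ κ k' ((1 : κ) ⊗ₜ[R] (a ⊗ₜ[k] b)) = _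
        rw [Algebra.TensorProduct.cancelBaseChange_tmul, Algebra.smul_def, mul_one]
        rfl
    have h' := isSMulRegular_tensor_fields hp hσ
    refine (regular_iff (S := R ⊗[k] k') (M := (R ⊗[k] k') ⊗[R] κ)).2 fun z hz => ?_
    apply e.injective
    rw [map_zero]
    refine (regular_iff (S := κ ⊗[k] k') (M := κ ⊗[k] k')).1 h' _ ?_
    rw [smul_eq_mul, ← he, ← map_mul, show (σ ⊗ₜ[R] (1 : κ)) * z = σ • z from ?_, hz, map_zero]
    clear hz
    induction z using TensorProduct.induction_on with
    | zero => rw [mul_zero, smul_zero]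
    | add a b ha hb => rw [mul_add, smul_add, ha, hb]
    | tmul a b => rw [Algebra.TensorProduct.tmul_mul_tmul, one_mul, smul_tmul', smul_eq_mul]
  haveI : Module.Free R (R ⊗[k] k') := Module.Free.of_basis (Algebra.TensorProduct.basis R bk)
  have hw := (regular_iff (S := R ⊗[k] k') (M := (R ⊗[k] k') ⊗[R] U)).1
    (isSMulRegular_tensor_of_residue (S := R ⊗[k] k') hK hreg U) _ h
  have h2 := DFunLike.congr_fun (congrArg
    (TensorProduct.equivFinsuppOfBasisLeft (N := U) (Algebra.TensorProduct.basis R bk)) hw) i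
  rw [map_zero, Finsupp.zero_apply, map_sum, Finsupp.finsetSum_apply] at h2
  rw [← h2]
  refine Finset.sum_congr rfl fun j _ => ?_
  rw [TensorProduct.equivFinsuppOfBasisLeft_apply_tmul_apply, Algebra.TensorProduct.basis_repr_tmul]
  simp only [Finsupp.smul_apply, Finsupp.mapRange_apply, smul_eq_mul, one_mul]

open GrFlat5.ArtinFamily

/-- **One point detects combinations** when `κ(P) ⊗ₖ k'` is irreducible. -/
theorem forall_theta_eq_zero_of_point {A A' B : Type u} [CommRing A] [CommRing A'] [Algebra A A'] [CommRing B]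
    [Algebra A B] [IsNoetherianRing B] (m : Ideal A) [m.IsMaximal] (T : Type u) [CommRing T] [Algebra A' T]
    [Algebra B T] [Algebra A T] [IsScalarTower A A' T] [IsScalarTower A B T] [Algebra.IsPushout A A' B T]
    (P : Ideal B) [P.IsPrime] (hPm : m ≤ P.comap (algebraMap A B))
    {k' : Type u} [Field k'] [Algebra A k'] (θ : A' →ₐ[A] k') (hθ : Function.Surjective θ)
    (hm : m ≤ RingHom.ker (algebraMap A k'))
    (hprim : letI : Field (A ⧸ m) := Ideal.Quotient.field m
      ∀ (κ : Type u) [Field κ] [Algebra (A ⧸ m) κ] [Algebra A κ] [IsScalarTower A (A ⧸ m) κ] [Algebra B κ]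
        [IsScalarTower A B κ] [Algebra (A ⧸ m) k'] [IsScalarTower A (A ⧸ m) k'],
        RingHom.ker (algebraMap B κ) = P → (∀ x : κ, ∃ b, ∃ t ∉ P, x * algebraMap B κ t = algebraMap B κ b) →
        (nilradical (κ ⊗[A ⧸ m] k')).IsPrime)
    (M : Type u) [AddCommGroup M] [Module A M] [Module B M] [IsScalarTower A B M] [Module.Finite B M]
    {r : ℕ} (n : Fin r → M)
    (hn : ∀ a : Fin r → A, (∑ j, a j • LocalizedModule.mkLinearMap P.primeCompl M (n j)) ∈
      (m • ⊤ : Submodule A (LocalizedModule P.primeCompl M)) → ∀ j, a j ∈ m)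
    (c : Fin r → A') (Q₀ : Ideal T) [Q₀.IsPrime] (hQ₀P : Q₀.comap (algebraMap B T) = P)
    (hQ₀m : Q₀.comap (algebraMap A' T) = RingHom.ker θ)
    (hc : ∃ s ∉ Q₀, s • (∑ j, algebraMap A' T (c j) ⊗ₜ[B] n j : T ⊗[B] M) ∈
        (RingHom.ker θ).map (algebraMap A' T) • (⊤ : Submodule T (T ⊗[B] M))) :
    ∀ j, θ (c j) = 0 := by
  classical
  letI : Field (A ⧸ m) := Ideal.Quotient.field m
  let k := A ⧸ m
  let R₀ := Localization.AtPrime P
  let X := LocalizedModule P.primeCompl M
  let ξ : Fin r → X := fun j => LocalizedModule.mkLinearMap P.primeCompl M (n j)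
  -- reduction modulo `m`
  let J : Ideal R₀ := m.map (algebraMap A R₀)
  let Rb := R₀ ⧸ J
  letI : Algebra k Rb := (Ideal.Quotient.lift m (algebraMap A Rb) fun a ha => by
    rw [IsScalarTower.algebraMap_apply A R₀ Rb]
    exact Ideal.Quotient.eq_zero_iff_mem.2 (Ideal.mem_map_of_mem _ ha)).toAlgebra
  haveI : IsScalarTower A k Rb := .of_algebraMap_eq fun _ => rfl
  have hJ : J ≤ IsLocalRing.maximalIdeal R₀ := Ideal.map_le_iff_le_comap.2 fun a ha => by
    rw [Ideal.mem_comap, IsScalarTower.algebraMap_apply A B R₀, IsLocalization.AtPrime.to_map_mem_maximal_iff _ P]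
    exact hPm ha
  haveI : Nontrivial Rb := Ideal.Quotient.nontrivial_iff.2
    fun h => (IsLocalRing.maximalIdeal.isMaximal R₀).ne_top (top_le_iff.1 (h ▸ hJ))
  haveI : IsNoetherianRing R₀ := IsLocalization.isNoetherianRing P.primeCompl R₀ inferInstance
  haveI : IsLocalRing Rb := IsLocalRing.of_surjective' (Ideal.Quotient.mk J) Ideal.Quotient.mk_surjective
  let κ := IsLocalRing.ResidueField R₀
  letI : Algebra Rb κ := (Ideal.Quotient.lift J (IsLocalRing.residue R₀) fun a ha =>
    (IsLocalRing.residue_eq_zero_iff a).2 (hJ ha)).toAlgebra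
  letI : Algebra k κ := ((algebraMap Rb κ).comp (algebraMap k Rb)).toAlgebra
  haveI : IsScalarTower k Rb κ := .of_algebraMap_eq fun _ => rfl
  haveI : IsScalarTower A k κ := .of_algebraMap_eq fun a => by
    show algebraMap A κ a = algebraMap Rb κ (algebraMap k Rb (algebraMap A k a))
    rw [← IsScalarTower.algebraMap_apply A k Rb, IsScalarTower.algebraMap_apply A R₀ Rb,
]
    exact IsScalarTower.algebraMap_apply A R₀ κ a
  letI : Algebra k k' := (Ideal.Quotient.lift m (algebraMap A k') hm).toAlgebra
  haveI : IsScalarTower A k k' := .of_algebraMap_eq fun _ => rfl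
  have hκ : RingHom.ker (algebraMap B κ) = P := by
    ext b
    rw [RingHom.mem_ker, IsScalarTower.algebraMap_apply B R₀ κ]
    exact (IsLocalRing.residue_eq_zero_iff _).trans (IsLocalization.AtPrime.to_map_mem_maximal_iff R₀ P b)
  have hκfrac : ∀ x : κ, ∃ b, ∃ t ∉ P, x * algebraMap B κ t = algebraMap B κ b := fun x => by
    obtain ⟨y, rfl⟩ := IsLocalRing.residue_surjective x
    obtain ⟨⟨b, t⟩, hbt⟩ := IsLocalization.surj P.primeCompl y
    refine ⟨b, t, t.2, ?_⟩
    rw [IsScalarTower.algebraMap_apply B R₀ κ, IsScalarTower.algebraMap_apply B R₀ κ b, ← hbt, map_mul]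
    rfl
  have hp := hprim κ hκ hκfrac
  -- the map to `(Rb ⊗[k] k')`
  let fA : A' →ₐ[A] (Rb ⊗[k] k') := ((Algebra.TensorProduct.includeRight : k' →ₐ[k] (Rb ⊗[k] k')).restrictScalars A).comp θ
  let fB : B →ₐ[A] (Rb ⊗[k] k') := ((Algebra.TensorProduct.includeLeft : Rb →ₐ[k] (Rb ⊗[k] k')).restrictScalars A).comp (IsScalarTower.toAlgHom A B Rb)
  let ψ : T →ₐ[A] (Rb ⊗[k] k') := Algebra.pushoutDesc T fA fB fun x y => mul_comm (fA x) (fB y)
  have hψA : ∀ a, ψ (algebraMap A' T a) = (1 : Rb) ⊗ₜ[k] θ a := fun a => Algebra.pushoutDesc_left _ _ _ _ _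
  have hψB : ∀ b, ψ (algebraMap B T b) = algebraMap B Rb b ⊗ₜ[k] (1 : k') := fun b => Algebra.pushoutDesc_right _ _ _ _ _
  -- the module
  let U := X ⧸ (J • ⊤ : Submodule R₀ X)
  haveI : Module.Finite R₀ X := Module.Finite.of_isLocalizedModule P.primeCompl (LocalizedModule.mkLinearMap P.primeCompl M)
  haveI : Module.Finite Rb U := Module.Finite.of_restrictScalars_finite R₀ Rb U
  let ev : M →+ U := (Submodule.mkQ _).toAddMonoidHom.comp (LocalizedModule.mkLinearMap P.primeCompl M).toAddMonoidHom
  have hev : ∀ b x, ev (b • x) = algebraMap B Rb b • ev x := fun b x => by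
    show Submodule.Quotient.mk (LocalizedModule.mkLinearMap P.primeCompl M (b • x)) = _
    rw [map_smul, Submodule.Quotient.mk_smul, algebraMap_smul]
    rfl
  obtain ⟨s, hs, hsz⟩ := hc
  have hsw : ψ s • (∑ j, ((1 : Rb) ⊗ₜ[k] θ (c j)) ⊗ₜ[Rb] ev (n j)) = 0 := by
    have hψI : ∀ a ∈ (RingHom.ker θ).map (algebraMap A' T), ψ.toRingHom a = 0 := by
      intro a ha
      show ψ a = 0
      induction ha using Submodule.span_induction with
      | mem y hy =>
        obtain ⟨a', ha', rfl⟩ := hy
        rw [hψA, show θ a' = 0 from ha', tmul_zero]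
      | zero => rw [map_zero]
      | add y z _ _ hy hz => rw [map_add, hy, hz, add_zero]
      | smul y z _ hz => rw [smul_eq_mul, map_mul, hz]; exact mul_zero (ψ y)
    have h0 := smul_sum_eq_zero (T := T) (R := Rb) (S := Rb ⊗[k] k') (algebraMap B Rb) ψ.toRingHom hψB ev hev _
      hψI s Finset.univ _ n hsz
    simp only [AlgHom.toRingHom_eq_coe, RingHom.coe_coe, hψA] at h0
    exact h0
  -- `ψ s` is regular modulo the maximal ideal
  let Ψ : (Rb ⊗[k] k') →ₐ[k] (κ ⊗[k] k') := Algebra.TensorProduct.map (IsScalarTower.toAlgHom k Rb κ) (AlgHom.id k k')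
  have hΨs : ¬ IsNilpotent (Ψ (ψ s)) := by
    intro hnil
    haveI : IsDomain (T ⧸ Q₀) := Ideal.Quotient.isDomain Q₀
    let L := FractionRing (T ⧸ Q₀)
    let toL : T →+* L := (algebraMap (T ⧸ Q₀) L).comp (Ideal.Quotient.mk Q₀)
    have htoL : ∀ t, toL t = 0 ↔ t ∈ Q₀ := fun t =>
      (map_eq_zero_iff _ (IsFractionRing.injective (T ⧸ Q₀) L)).trans Ideal.Quotient.eq_zero_iff_mem
    let γ : R₀ →+* L := IsLocalization.lift (M := P.primeCompl) (g := toL.comp (algebraMap B T)) fun t => by
      refine isUnit_iff_ne_zero.2 fun h => t.2 ?_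
      exact hQ₀P.le ((htoL _).1 h)
    let γκ : κ →+* L := Ideal.Quotient.lift _ γ fun y hy => by
      obtain ⟨⟨b, t⟩, hbt⟩ := IsLocalization.surj P.primeCompl y
      have hbP : b ∈ P := by
        rw [← IsLocalization.AtPrime.to_map_mem_maximal_iff R₀ P b, ← hbt]
        exact Ideal.mul_mem_right _ _ hy
      have h1 : γ y * γ (algebraMap B R₀ t) = 0 := by
        rw [← map_mul, hbt, IsLocalization.lift_eq]
        exact (htoL _).2 (hQ₀P.ge hbP)
      refine (mul_eq_zero.1 h1).resolve_right ?_
      rw [IsLocalization.lift_eq]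
      intro h
      exact t.2 (hQ₀P.le ((htoL _).1 h))
    have hγκ : ∀ y, γκ (IsLocalRing.residue R₀ y) = γ y := fun _ => rfl
    let ωA : k' →+* L := (Ideal.Quotient.lift (RingHom.ker θ.toRingHom) (toL.comp (algebraMap A' T)) fun a ha =>
      (htoL _).2 (hQ₀m.ge ha)).comp (RingHom.quotientKerEquivOfSurjective (f := θ.toRingHom) hθ).symm.toRingHom
    have hωA : ∀ a, ωA (θ a) = toL (algebraMap A' T a) := fun a => by
      have he : (RingHom.quotientKerEquivOfSurjective (f := θ.toRingHom) hθ).symm (θ.toRingHom a) =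
          Ideal.Quotient.mk _ a := (RingEquiv.symm_apply_eq _).2 rfl
      simp only [ωA, RingHom.comp_apply]
      erw [he, Ideal.Quotient.lift_mk]
    letI : Algebra k L := (Ideal.Quotient.lift m (toL.comp (algebraMap A T)) fun a ha => (htoL _).2 (by
      rw [IsScalarTower.algebraMap_apply A B T]
      exact hQ₀P.ge (hPm ha))).toAlgebra
    let gκ : κ →ₐ[k] L := { γκ with
      commutes' := fun x => by
        obtain ⟨a, rfl⟩ := Ideal.Quotient.mk_surjective x
        show γκ (algebraMap k κ (algebraMap A k a)) = toL (algebraMap A T a)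
        rw [← IsScalarTower.algebraMap_apply A k κ, IsScalarTower.algebraMap_apply A R₀ κ]
        show γ (algebraMap A R₀ a) = _
        rw [IsScalarTower.algebraMap_apply A B R₀, IsLocalization.lift_eq, IsScalarTower.algebraMap_apply A B T]
        rfl }
    let gk' : k' →ₐ[k] L := { ωA with
      commutes' := fun x => by
        obtain ⟨a, rfl⟩ := Ideal.Quotient.mk_surjective x
        show ωA (algebraMap k k' (algebraMap A k a)) = toL (algebraMap A T a)
        rw [← IsScalarTower.algebraMap_apply A k k', ← AlgHom.commutes θ a, hωA, ← IsScalarTower.algebraMap_apply] }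
    let χ : (κ ⊗[k] k') →ₐ[k] L := Algebra.TensorProduct.lift gκ gk' fun _ _ => Commute.all _ _
    have hcomp : ∀ t : T, χ (Ψ (ψ t)) = toL t := by
      intro t
      obtain ⟨z, rfl⟩ := (Algebra.IsPushout.equiv A A' B T).surjective t
      induction z using TensorProduct.induction_on with
      | zero => simp
      | add x y hx hy => simp only [map_add, hx, hy]
      | tmul a b =>
        rw [Algebra.IsPushout.equiv_tmul, map_mul, map_mul, map_mul, map_mul, hψA, hψB]
        congr 1
        · rw [Algebra.TensorProduct.map_tmul, Algebra.TensorProduct.lift_tmul, map_one, map_one, one_mul]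
          exact hωA a
        · rw [Algebra.TensorProduct.map_tmul, Algebra.TensorProduct.lift_tmul, AlgHom.id_apply, map_one, mul_one,
            IsScalarTower.toAlgHom_apply, IsScalarTower.algebraMap_apply B R₀ Rb]
          exact IsLocalization.lift_eq _ _
    refine hs ((htoL s).1 ?_)
    rw [← hcomp]
    exact (hnil.map χ).eq_zero
  let bk := Module.Free.chooseBasis k k'
  -- read off the coefficients
  intro j
  refine bk.repr.injective (Finsupp.ext fun i => ?_)
  rw [map_zero, Finsupp.zero_apply]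
  choose a ha using fun j => Ideal.Quotient.mk_surjective (bk.repr (θ (c j)) i)
  rw [← ha j, Ideal.Quotient.eq_zero_iff_mem]
  refine hn a ?_ j
  have h2 := coord_sum_eq_zero (κ := κ) (fun x => by
      obtain ⟨y, rfl⟩ := IsLocalRing.residue_surjective x
      exact ⟨Ideal.Quotient.mk J y, rfl⟩) hp (ψ s) hΨs U bk (fun j => θ (c j)) (fun j => ev (n j)) hsw i
  have h3 : Submodule.Quotient.mk (p := (J • ⊤ : Submodule R₀ X)) (∑ j, a j • ξ j) = 0 := by
    rw [← h2, ← Submodule.mkQ_apply, map_sum]
    refine Finset.sum_congr rfl fun j _ => ?_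
    rw [← ha j, LinearMap.map_smul_of_tower]
    show a j • ev (n j) = algebraMap k Rb (algebraMap A k (a j)) • ev (n j)
    rw [← IsScalarTower.algebraMap_apply A k Rb, algebraMap_smul]
  rw [Submodule.Quotient.mk_eq_zero] at h3
  refine Submodule.smul_induction_on h3 (fun y hy x _ => ?_) fun _ _ => add_mem
  refine Submodule.span_induction (p := fun y _ => ∀ x : X, y • x ∈ m • (⊤ : Submodule A X)) ?_ ?_ ?_ ?_ hy x
  · rintro _ ⟨a, ha, rfl⟩ x
    rw [algebraMap_smul]
    exact Submodule.smul_mem_smul ha Submodule.mem_top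
  · intro x; rw [zero_smul]; exact zero_mem _
  · intro y z _ _ hy hz x; rw [add_smul]; exact add_mem (hy x) (hz x)
  · intro y z _ hz x
    rw [smul_eq_mul, mul_comm, mul_smul]
    exact hz _

end Groth.Agent.GrFlat5.ArtinPrimary
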