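import Mathlib.RingTheory.Flat.EquationalCriterion
import Mathlib.RingTheory.LocalRing.Module
import Mathlib.RingTheory.Filtration
import Mathlib.RingTheory.TensorProduct.Basic
import Mathlib.LinearAlgebra.Dual.Lemmas
import Mathlib.LinearAlgebra.DirectSum.Finsupp

/-!
# Flatness at a point descends along a jointly injective family out of an Artinian local ring

Let `A` have a nilpotent maximal ideal `m`, let `(A → A'ᵢ)` be jointly injective with `A'ᵢ` local, `M` a finite
module over a Noetherian `A`-algebra `B` and `P` a prime of `B`.  If `(A'ᵢ ⊗ M)_Q` is `A'ᵢ`-flat at all `Q` lying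
over `P` and the closed point, then `M_P` is `A`-flat (EGA IV 11.4.4).
-/

set_option backward.isDefEq.respectTransparency false
set_option linter.style.haveILetI false

universe u v w

open TensorProduct

namespace Groth.Agent.GrFlat5.ArtinFamily

variable {A : Type u} [CommRing A] {A' : Type u} [CommRing A'] [Algebra A A']
  {B : Type u} [CommRing B] [Algebra A B]

attribute [local instance] Algebra.TensorProduct.rightAlgebra

/-- An element of `I • N_S` becomes an element of `I • N` after multiplying by an element of `S`. -/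
theorem exists_smul_mem_smul_top {T N N' : Type*} [CommRing T] [AddCommGroup N] [Module T N] [AddCommGroup N']
    [Module T N'] (S : Submonoid T) (f : N →ₗ[T] N') [IsLocalizedModule S f] (I : Ideal T) (z : N)
    (hz : f z ∈ I • (⊤ : Submodule T N')) : ∃ s ∈ S, s • z ∈ I • (⊤ : Submodule T N) := by
  have key : ∀ w ∈ I • (⊤ : Submodule T N'), ∃ s ∈ S, ∃ y ∈ I • (⊤ : Submodule T N), s • w = f y := by
    intro w hw
    refine Submodule.smul_induction_on hw (fun c hc n _ => ?_) ?_
    · obtain ⟨⟨n₀, s⟩, hs⟩ := IsLocalizedModule.surj S f n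
      exact ⟨s, s.2, c • n₀, Submodule.smul_mem_smul hc trivial, by rw [map_smul, ← hs, smul_comm]; rfl⟩
    · rintro p q ⟨s, hs, y, hy, e⟩ ⟨s', hs', y', hy', e'⟩
      refine ⟨s * s', mul_mem hs hs', s' • y + s • y',
        add_mem (Submodule.smul_mem _ _ hy) (Submodule.smul_mem _ _ hy'), ?_⟩
      rw [map_add, map_smul, map_smul, ← e, ← e', smul_smul, smul_smul, smul_add, mul_comm s' s]
  obtain ⟨s, hs, y, hy, e⟩ := key _ hz
  rw [← map_smul] at e
  obtain ⟨t, ht⟩ := IsLocalizedModule.exists_of_eq (S := S) e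
  refine ⟨t * s, mul_mem t.2 hs, ?_⟩
  rw [mul_smul]
  exact (show (t : T) • s • z = (t : T) • y from ht) ▸ Submodule.smul_mem _ _ hy

variable (m : Ideal A) [m.IsMaximal]

/-- **Points detecting combinations.** If `ξ` is independent modulo `m`, then a combination of the `1 ⊗ nⱼ`
lying in `m' • (A' ⊗ M)` locally at all points over `P` and the closed point has coefficients in `m'`. -/
theorem forall_theta_eq_zero [IsNoetherianRing B] (T : Type u) [CommRing T] [Algebra A' T] [Algebra B T] [Algebra A T]
    [IsScalarTower A A' T] [IsScalarTower A B T] [Algebra.IsPushout A A' B T] (P : Ideal B) [P.IsPrime]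
    {k' : Type u} [Field k'] [Algebra A k'] (θ : A' →ₐ[A] k') (hθ : Function.Surjective θ)
    (hm : m ≤ RingHom.ker (algebraMap A k'))
    (M : Type u) [AddCommGroup M] [Module A M] [Module B M] [IsScalarTower A B M] [Module.Finite B M]
    {r : ℕ} (n : Fin r → M)
    (hn : ∀ a : Fin r → A, (∑ j, a j • LocalizedModule.mkLinearMap P.primeCompl M (n j)) ∈
      (m • ⊤ : Submodule A (LocalizedModule P.primeCompl M)) → ∀ j, a j ∈ m)
    (c : Fin r → A')
    (hc : ∀ Q : Ideal T, Q.IsPrime → Q.comap (algebraMap B T) = P →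
      Q.comap (algebraMap A' T) = RingHom.ker θ →
      ∃ s ∉ Q, s • (∑ j, algebraMap A' T (c j) ⊗ₜ[B] n j : T ⊗[B] M) ∈
        (RingHom.ker θ).map (algebraMap A' T) • (⊤ : Submodule T (T ⊗[B] M))) :
    ∀ j, θ (c j) = 0 := by
  classical
  let R := Localization.AtPrime P
  let X := LocalizedModule P.primeCompl M
  let ξ : Fin r → X := fun j => LocalizedModule.mkLinearMap P.primeCompl M (n j)
  let W := X ⊗[A] k'
  let J : Ideal R := P.map (algebraMap B R)
  haveI : Module.Finite R X := Module.Finite.of_isLocalizedModule P.primeCompl (LocalizedModule.mkLinearMap P.primeCompl M)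
  haveI : IsNoetherianRing R := IsLocalization.isNoetherianRing P.primeCompl R inferInstance
  -- the actions
  let mulR : k' → Module.End R W := fun x => AlgebraTensorModule.lTensor R X (LinearMap.mulLeft A x)
  have mulR_tmul : ∀ x (y : X) (x' : k'), mulR x (y ⊗ₜ[A] x') = y ⊗ₜ[A] (x * x') := fun _ _ _ => rfl
  let f₁ : A' →ₐ[A] Module.End R W := AlgHom.ofLinearMap
    { toFun := fun a => mulR (θ a)
      map_add' := fun a b => TensorProduct.AlgebraTensorModule.ext fun y x' => by
        show y ⊗ₜ[A] (θ (a + b) * x') = y ⊗ₜ[A] (θ a * x') + y ⊗ₜ[A] (θ b * x')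
        rw [map_add, add_mul, tmul_add]
      map_smul' := fun a b => TensorProduct.AlgebraTensorModule.ext fun y x' => by
        show y ⊗ₜ[A] (θ (a • b) * x') = a • (y ⊗ₜ[A] (θ b * x'))
        rw [map_smul, smul_mul_assoc, tmul_smul] }
    (TensorProduct.AlgebraTensorModule.ext fun y x' => by
      show y ⊗ₜ[A] (θ 1 * x') = y ⊗ₜ[A] x'
      rw [map_one, one_mul])
    (fun a b => TensorProduct.AlgebraTensorModule.ext fun y x' => by
      show y ⊗ₜ[A] (θ (a * b) * x') = y ⊗ₜ[A] (θ a * (θ b * x'))
      rw [map_mul, mul_assoc])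
  let f₂ : B →ₐ[A] Module.End R W :=
    { (algebraMap R (Module.End R W)).comp (algebraMap B R) with
      commutes' := fun a => by
        refine LinearMap.ext fun w => ?_
        show algebraMap B R (algebraMap A B a) • w = a • w
        rw [← IsScalarTower.algebraMap_apply, algebraMap_smul] }
  let ρ₀ : A' ⊗[A] B →ₐ[A] Module.End R W := Algebra.TensorProduct.lift f₁ f₂ fun a b => LinearMap.ext fun w => by
    show f₁ a (algebraMap B R b • w) = algebraMap B R b • f₁ a w
    exact map_smul _ _ _
  let ρ : T →ₐ[A] Module.End R W := ρ₀.comp ((Algebra.IsPushout.equiv A A' B T).symm.toAlgHom.restrictScalars A)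
  have ρB : ∀ (b : B) (w : W), ρ (algebraMap B T b) w = algebraMap B R b • w := fun b w => by
    show ρ₀ ((Algebra.IsPushout.equiv A A' B T).symm (algebraMap B T b)) w = _
    rw [Algebra.IsPushout.equiv_symm_algebraMap_right, Algebra.TensorProduct.lift_tmul, map_one, one_mul]
    rfl
  have ρA : ∀ (a : A') (w : W), ρ (algebraMap A' T a) w = mulR (θ a) w := fun a w => by
    show ρ₀ ((Algebra.IsPushout.equiv A A' B T).symm (algebraMap A' T a)) w = _
    rw [Algebra.IsPushout.equiv_symm_algebraMap_left, Algebra.TensorProduct.lift_tmul, map_one, mul_one]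
    rfl
  -- the comparison
  let ev : M → W := fun x => LocalizedModule.mkLinearMap P.primeCompl M x ⊗ₜ[A] 1
  let Φ : T ⊗[B] M →+ W := TensorProduct.liftAddHom
    { toFun := fun t =>
        { toFun := fun x => ρ t (ev x)
          map_zero' := by simp [ev]
          map_add' := fun x y => by
            rw [← map_add (ρ t)]
            simp only [ev, map_add, add_tmul] }
      map_zero' := by ext; simp
      map_add' := fun t t' => by ext; simp }
    (fun b t x => by
      show ρ (b • t) (ev x) = ρ t (ev (b • x))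
      rw [Algebra.smul_def, mul_comm, map_mul, Module.End.mul_apply, ρB]
      congr 1
      show _ = LocalizedModule.mkLinearMap P.primeCompl M (b • x) ⊗ₜ[A] (1 : k')
      rw [map_smul, ← algebraMap_smul R b (LocalizedModule.mkLinearMap P.primeCompl M x), ← smul_tmul']) 
  have Φsmul : ∀ (s : T) z, Φ (s • z) = ρ s (Φ z) := fun s z => by
    induction z with
    | zero => simp
    | add x y hx hy => simp only [smul_add, map_add, hx, hy]
    | tmul t x =>
      show ρ (s * t) (ev x) = ρ s (ρ t (ev x))
      rw [map_mul, Module.End.mul_apply]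
  let z : T ⊗[B] M := ∑ j, algebraMap A' T (c j) ⊗ₜ[B] n j
  let w : W := Φ z
  have hw : w = ∑ j, ξ j ⊗ₜ[A] θ (c j) := by
    show Φ z = _
    rw [map_sum]
    refine Finset.sum_congr rfl fun j _ => ?_
    show ρ (algebraMap A' T (c j)) (ev (n j)) = _
    rw [ρA, mulR_tmul, mul_one]
  -- the vanishing of `w`
  let Xb := X ⊗[A] (A ⧸ m)
  haveI : Module.Finite R Xb := Module.Finite.of_surjective
    (AlgebraTensorModule.lTensor R X (Algebra.linearMap A (A ⧸ m)) ∘ₗ (AlgebraTensorModule.rid A R X).symm.toLinearMap)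
    ((LinearMap.lTensor_surjective X (g := Algebra.linearMap A (A ⧸ m)) Ideal.Quotient.mk_surjective).comp
      (AlgebraTensorModule.rid A R X).symm.surjective)
  letI : Field (A ⧸ m) := Ideal.Quotient.field m
  letI : Algebra (A ⧸ m) k' := (Ideal.Quotient.lift m (algebraMap A k') hm).toAlgebra
  haveI : IsScalarTower A (A ⧸ m) k' := .of_algebraMap_eq fun _ => rfl
  let e := Module.Free.chooseBasis (A ⧸ m) k'
  let Θ : _ → W →ₗ[R] Xb := fun i => AlgebraTensorModule.lTensor R X ((e.coord i).restrictScalars A)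
  have hΘ : ∀ v : W, (∀ i, Θ i v = 0) → v = 0 := by
    intro v hv
    apply (LinearEquiv.lTensor X (e.repr.restrictScalars A)).injective
    rw [map_zero]
    apply (TensorProduct.finsuppRight A A X (A ⧸ m) _).injective
    rw [map_zero]
    ext i
    rw [Finsupp.zero_apply, ← hv i]
    clear hv hw
    induction v using TensorProduct.induction_on with
    | zero => simp
    | add x y hx hy => simp only [map_add, Finsupp.add_apply, hx, hy]
    | tmul y x => simp [Θ, LinearEquiv.lTensor_tmul]; rfl
  have hzero : ∀ v : W, (∀ N : ℕ, v ∈ J ^ N • (⊤ : Submodule R W)) → v = 0 := by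
    intro v hv
    refine hΘ v fun i => ?_
    have hJ : J ≠ ⊤ := by
      rw [show J = IsLocalRing.maximalIdeal R from Localization.AtPrime.map_eq_maximalIdeal]
      exact (IsLocalRing.maximalIdeal.isMaximal R).ne_top
    have h0 := Ideal.iInf_pow_smul_eq_bot_of_isLocalRing (M := Xb) J hJ
    rw [← Submodule.mem_bot R, ← h0, Submodule.mem_iInf]
    intro N
    have := Submodule.mem_map_of_mem (f := Θ i) (hv N)
    rw [Submodule.map_smul''] at this
    exact Submodule.smul_mono le_rfl le_top this
  have hw0 : w = 0 := by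
    let I : Ideal T :=
      { carrier := {s | ρ s w = 0}
        add_mem' := fun {x y} hx hy => by
          show ρ (x + y) w = 0
          rw [map_add, LinearMap.add_apply, show ρ x w = 0 from hx, show ρ y w = 0 from hy, add_zero]
        zero_mem' := by simp
        smul_mem' := fun x y hy => by
          show ρ (x * y) w = 0
          rw [map_mul, Module.End.mul_apply, show ρ y w = 0 from hy, map_zero] }
    let mT : Ideal T := (RingHom.ker θ).map (algebraMap A' T)
    have hmT : ∀ s ∈ mT, ρ s = 0 := by
      intro s hs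
      refine (Ideal.map_le_iff_le_comap (K := RingHom.ker ρ.toRingHom)).2 (fun a ha => ?_) hs
      refine LinearMap.ext fun v => ?_
      show ρ (algebraMap A' T a) v = 0
      rw [ρA, show θ a = 0 from ha]
      simp [mulR]
      rfl
    let S : Submonoid T := P.primeCompl.map (algebraMap B T)
    by_cases hdis : Disjoint ((I ⊔ P.map (algebraMap B T) ⊔ mT : Ideal T) : Set T) (S : Set T)
    · exfalso
      obtain ⟨Q, hQ, hle, hQS⟩ := Ideal.exists_le_prime_disjoint _ S hdis
      haveI := hQ
      have hQP : Q.comap (algebraMap B T) = P := le_antisymm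
        (fun b hb => by
          by_contra hbP
          exact Set.disjoint_left.1 hQS hb ⟨b, hbP, rfl⟩)
        (Ideal.map_le_iff_le_comap.1 ((le_sup_right.trans le_sup_left).trans hle))
      have hQm : Q.comap (algebraMap A' T) = RingHom.ker θ :=
        (((RingHom.ker_isMaximal_of_surjective θ hθ).eq_of_le (Ideal.comap_ne_top _ hQ.ne_top)
          (Ideal.map_le_iff_le_comap.1 (le_sup_right.trans hle)))).symm
      obtain ⟨s, hs, hsz⟩ := hc Q hQ hQP hQm
      refine hs (hle (Ideal.mem_sup_left (Ideal.mem_sup_left ?_)))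
      show ρ s w = 0
      rw [← Φsmul]
      refine Submodule.smul_induction_on hsz (fun a ha y _ => ?_) fun p q hp hq => ?_
      · rw [Φsmul, hmT a ha, LinearMap.zero_apply]
      · rw [map_add, hp, hq, add_zero]
    · obtain ⟨s, hs, ⟨b, hbP, hbs⟩⟩ := Set.not_disjoint_iff.1 hdis
      obtain ⟨s₁, hs₁, q, hq, rfl⟩ := Submodule.mem_sup.1 hs
      obtain ⟨s₀, hs₀, p, hp, rfl⟩ := Submodule.mem_sup.1 hs₁
      have heq : algebraMap B R b • w = ρ p w := by
        rw [← ρB, hbs, map_add, map_add, LinearMap.add_apply, LinearMap.add_apply, show ρ s₀ w = 0 from hs₀,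
          hmT q hq, LinearMap.zero_apply, zero_add, add_zero]
      have hraise : ∀ t ∈ P.map (algebraMap B T), ∀ N, ∀ v ∈ J ^ N • (⊤ : Submodule R W),
          ρ t v ∈ J ^ (N + 1) • (⊤ : Submodule R W) := by
        intro t ht N
        refine Submodule.span_induction (p := fun t _ => ∀ v ∈ J ^ N • (⊤ : Submodule R W),
          ρ t v ∈ J ^ (N + 1) • (⊤ : Submodule R W)) ?_ (fun v _ => by simp) ?_ ?_ ht
        · rintro _ ⟨π, hπ, rfl⟩ v hv
          rw [ρB, pow_succ', Submodule.mul_smul]
          exact Submodule.smul_mem_smul (Ideal.mem_map_of_mem _ hπ) hv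
        · intro x y _ _ hx hy v hv
          rw [map_add, LinearMap.add_apply]
          exact add_mem (hx v hv) (hy v hv)
        · intro a x _ hx v hv
          rw [smul_eq_mul, map_mul, Module.End.mul_apply]
          have := Submodule.mem_map_of_mem (f := ρ a) (hx v hv)
          rw [Submodule.map_smul''] at this
          exact Submodule.smul_mono le_rfl le_top this
      have hu : IsUnit (algebraMap B R b) := IsLocalization.map_units R ⟨b, hbP⟩
      refine hzero w fun N => ?_
      induction N with
      | zero => simp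
      | succ N ih =>
        obtain ⟨u, hu⟩ := hu
        have := Submodule.smul_mem _ (↑u⁻¹ : R) (heq.symm ▸ hraise p hp N w ih :
          algebraMap B R b • w ∈ J ^ (N + 1) • (⊤ : Submodule R W))
        rwa [← hu, smul_smul, Units.inv_mul, one_smul] at this
  -- read off the coefficients
  rw [hw] at hw0
  intro j
  refine e.repr.injective (Finsupp.ext fun i => ?_)
  rw [map_zero, Finsupp.zero_apply]
  have h2 := congrArg (Θ i) hw0
  rw [map_zero, map_sum] at h2
  choose a ha using fun j => Ideal.Quotient.mk_surjective (e.repr (θ (c j)) i)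
  rw [← ha j, Ideal.Quotient.eq_zero_iff_mem]
  refine hn a ?_ j
  have h3 : (∑ j, a j • ξ j) ⊗ₜ[A] (1 : A ⧸ m) = 0 := by
    rw [← h2, sum_tmul]
    refine Finset.sum_congr rfl fun j _ => ?_
    show (a j • ξ j) ⊗ₜ[A] (1 : A ⧸ m) = ξ j ⊗ₜ[A] (e.repr (θ (c j)) i)
    rw [smul_tmul, ← ha j, Algebra.smul_def, mul_one]
    rfl
  have h4 := congrArg (TensorProduct.tensorQuotEquivQuotSMul X m) h3
  rw [map_zero, show (1 : A ⧸ m) = Ideal.Quotient.mk m 1 from rfl, TensorProduct.tensorQuotEquivQuotSMul_tmul_mk,
    one_smul, Submodule.Quotient.mk_eq_zero] at h4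
  exact h4

/-- Relations among elements that are jointly independent modulo `m'` over a family of flat modules vanish. -/
theorem relation_eq_zero [IsLocalRing A'] {k' : Type u} [Field k'] (θ : A' →+* k') (hθ : Function.Surjective θ)
    {r : ℕ} {ι : Type*} (Nq : ι → Type u) [∀ q, AddCommGroup (Nq q)] [∀ q, Module A' (Nq q)]
    [∀ q, Module.Flat A' (Nq q)] (x : ∀ q, Fin r → Nq q)
    (hx : ∀ c : Fin r → A', (∀ q, ∑ j, c j • x q j ∈ RingHom.ker θ • (⊤ : Submodule A' (Nq q))) → ∀ j, θ (c j) = 0)
    (a : Fin r → A') (ha : ∀ q, ∑ j, a j • x q j = 0) : a = 0 := by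
  classical
  letI : Algebra A' k' := θ.toAlgebra
  have hker : RingHom.ker θ = IsLocalRing.maximalIdeal A' :=
    IsLocalRing.eq_maximalIdeal (RingHom.ker_isMaximal_of_surjective θ hθ)
  let V : Submodule A' (Fin r → A') := LinearMap.ker (Fintype.linearCombination A' a)
  let V' : Submodule k' (Fin r → k') := Submodule.span k' ((fun (v : Fin r → A') j => θ (v j)) '' (V : Set (Fin r → A')))
  have hV' : V' = ⊤ := by
    by_contra hne
    obtain ⟨l, hl0, hl⟩ := Submodule.exists_le_ker_of_lt_top V' (lt_top_iff_ne_top.2 hne)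
    choose c hc using fun j : Fin r => hθ (l (Pi.single j 1))
    have hlv : ∀ v ∈ V, ∑ j, θ (c j) * θ (v j) = 0 := fun v hv => by
      have := hl (Submodule.subset_span ⟨v, hv, rfl⟩)
      dsimp only at this
      rw [LinearMap.mem_ker, pi_eq_sum_univ' (fun j => θ (v j)), map_sum] at this
      rw [← this]
      refine Finset.sum_congr rfl fun j _ => ?_
      rw [map_smul, hc, smul_eq_mul, mul_comm]
    have h0 := hx c fun q => by
      obtain ⟨L, C, y, hy, hC⟩ := Module.Flat.isTrivialRelation_of_sum_smul_eq_zero (ha q)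
      simp_rw [hy, Finset.smul_sum, smul_smul]
      rw [Finset.sum_comm]
      refine Submodule.sum_mem _ fun l' _ => ?_
      rw [← Finset.sum_smul]
      refine Submodule.smul_mem_smul ?_ trivial
      rw [RingHom.mem_ker, map_sum]
      simp_rw [map_mul]
      refine hlv (fun j => C j l') ?_
      show Fintype.linearCombination A' a (fun j => C j l') = 0
      rw [Fintype.linearCombination_apply, ← hC l']
      exact Finset.sum_congr rfl fun j _ => by rw [smul_eq_mul, mul_comm]
    refine hl0 (LinearMap.ext fun v => ?_)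
    rw [pi_eq_sum_univ' v, map_sum, LinearMap.zero_apply]
    refine Finset.sum_eq_zero fun j _ => ?_
    rw [map_smul, ← hc j, h0 j, smul_zero]
  -- `V` surjects onto the residual space
  have hsurj : ∀ w : Fin r → k', ∃ v ∈ V, (fun j => θ (v j)) = w := fun w => by
    have hw : w ∈ V' := hV' ▸ trivial
    refine Submodule.span_induction (fun _ h => h) ⟨0, zero_mem _, by ext; simp⟩ ?_ ?_ hw
    · rintro _ _ _ _ ⟨v, hv, rfl⟩ ⟨v', hv', rfl⟩
      exact ⟨v + v', add_mem hv hv', by ext; simp⟩
    · rintro x _ _ ⟨v, hv, rfl⟩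
      obtain ⟨x, rfl⟩ := hθ x
      exact ⟨x • v, Submodule.smul_mem _ _ hv, by ext; simp⟩
  let I : Ideal A' := Ideal.span (Set.range a)
  suffices hI : I = ⊥ by
    funext j
    exact Ideal.mem_bot.1 (hI ▸ Ideal.subset_span ⟨j, rfl⟩)
  refine Submodule.eq_bot_of_le_smul_of_le_jacobson_bot (RingHom.ker θ) I
    ⟨Finset.univ.image a, by simp [I, Ideal.submodule_span_eq]⟩ ?_
    (hker.le.trans (IsLocalRing.maximalIdeal_le_jacobson _))
  rw [Ideal.span_le]
  rintro _ ⟨j, rfl⟩
  obtain ⟨v, hv, hvj⟩ := hsurj (Pi.single j 1)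
  have h1 : ∀ i, θ (v i) = (Pi.single j 1 : Fin r → k') i := congrFun hvj
  have h2 : ∑ i, v i • a i = 0 := by
    rw [← Fintype.linearCombination_apply]; exact hv
  have h3 : a j = ∑ i, ((Pi.single j 1 : Fin r → A') i - v i) • a i := by
    simp_rw [sub_smul]
    rw [Finset.sum_sub_distrib, h2, sub_zero]
    simp [Pi.single_apply]
  show a j ∈ RingHom.ker θ • I
  rw [h3]
  refine Submodule.sum_mem _ fun i _ => Submodule.smul_mem_smul ?_ (Ideal.subset_span ⟨i, rfl⟩)
  rw [RingHom.mem_ker, map_sub, h1]
  rcases eq_or_ne i j with rfl | h <;> simp [*]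

/-- Flatness descends along the family, given sets of primes over `P` detecting combinations. -/
theorem flat_of_detect [IsNoetherianRing B] (hmN : IsNilpotent m) (P : Ideal B) [P.IsPrime]
    (M : Type u) [AddCommGroup M] [Module A M] [Module B M] [IsScalarTower A B M] [Module.Finite B M]
    {I : Type w} (A₁ : I → Type u) [∀ i, CommRing (A₁ i)] [∀ i, IsLocalRing (A₁ i)] [∀ i, Algebra A (A₁ i)]
    (T : I → Type u) [∀ i, CommRing (T i)] [∀ i, Algebra (A₁ i) (T i)] [∀ i, Algebra B (T i)]
    [∀ i, Algebra A (T i)] [∀ i, IsScalarTower A (A₁ i) (T i)] [∀ i, IsScalarTower A B (T i)]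
    [∀ i, Algebra.IsPushout A (A₁ i) B (T i)]
    (hinj : ∀ a : A, (∀ i, algebraMap A (A₁ i) a = 0) → a = 0)
    (Qset : ∀ i, Set (PrimeSpectrum (T i)))
    (hQP : ∀ i, ∀ q ∈ Qset i, q.asIdeal.comap (algebraMap B (T i)) = P)
    (hflat : ∀ i, ∀ q ∈ Qset i, Module.Flat (A₁ i) (LocalizedModule q.asIdeal.primeCompl ((T i) ⊗[B] M)))
    (hdet : ∀ (i : I) {r : ℕ} (n : Fin r → M),
      (∀ a : Fin r → A, (∑ j, a j • LocalizedModule.mkLinearMap P.primeCompl M (n j)) ∈
        (m • ⊤ : Submodule A (LocalizedModule P.primeCompl M)) → ∀ j, a j ∈ m) →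
      ∀ c : Fin r → A₁ i, (∀ q ∈ Qset i, ∃ s ∉ q.asIdeal,
        s • (∑ j, algebraMap (A₁ i) (T i) (c j) ⊗ₜ[B] n j : (T i) ⊗[B] M) ∈
          (IsLocalRing.maximalIdeal (A₁ i)).map (algebraMap (A₁ i) (T i)) • (⊤ : Submodule (T i) ((T i) ⊗[B] M))) →
        ∀ j, c j ∈ IsLocalRing.maximalIdeal (A₁ i)) :
    Module.Flat A (LocalizedModule P.primeCompl M) := by
  classical
  obtain ⟨N₀, hN⟩ := hmN
  let X := LocalizedModule P.primeCompl M
  let mk := LocalizedModule.mkLinearMap P.primeCompl M
  letI : Field (A ⧸ m) := Ideal.Quotient.field m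
  let b := Module.Free.chooseBasis (A ⧸ m) (X ⧸ (m • ⊤ : Submodule A X))
  let ι := Module.Free.ChooseBasisIndex (A ⧸ m) (X ⧸ (m • ⊤ : Submodule A X))
  choose x hx using fun i => Submodule.Quotient.mk_surjective (m • ⊤ : Submodule A X) (b i)
  let f : (ι →₀ A) →ₗ[A] X := Finsupp.linearCombination A x
  have hfs : Function.Surjective f := by
    rw [← LinearMap.range_eq_top]
    have h1 : LinearMap.range f ⊔ m • (⊤ : Submodule A X) = ⊤ := eq_top_iff.2 fun y _ => by
      have hy : Submodule.Quotient.mk (p := (m • ⊤ : Submodule A X)) y ∈ (LinearMap.range f).map (m • ⊤ : Submodule A X).mkQ := by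
        rw [← b.linearCombination_repr (Submodule.Quotient.mk y), Finsupp.linearCombination_apply]
        refine Submodule.sum_mem _ fun i _ => ?_
        obtain ⟨a, ha⟩ := Ideal.Quotient.mk_surjective (b.repr (Submodule.Quotient.mk y) i)
        refine ⟨a • x i, ⟨Finsupp.single i a, by simp [f]⟩, ?_⟩
        show Submodule.Quotient.mk (a • x i) = _
        dsimp only
        rw [← ha, Submodule.Quotient.mk_smul, hx]
        exact (algebraMap_smul (A ⧸ m) a (b i)).symm
      obtain ⟨v, hv, hvy⟩ := hy
      exact Submodule.mem_sup.2 ⟨v, hv, y - v, (Submodule.Quotient.eq _).1 hvy.symm, by abel⟩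
    have htop : ∀ k, LinearMap.range f ⊔ m ^ k • (⊤ : Submodule A X) = ⊤ := by
      intro k
      induction k with
      | zero => simp
      | succ k ih =>
        refine le_antisymm le_top (ih.ge.trans (sup_le le_sup_left ?_))
        conv_lhs => rw [← h1]
        rw [Submodule.smul_sup, ← Submodule.mul_smul, ← pow_succ]
        exact sup_le_sup_right Submodule.smul_le_right _
    simpa [hN] using htop N₀
  have hfi : Function.Injective f := by
    rw [injective_iff_map_eq_zero]
    intro v hv
    let σ := v.support.equivFin.symm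
    let xs : Fin v.support.card → X := fun j => x (σ j)
    let as : Fin v.support.card → A := fun j => v (σ j)
    obtain ⟨s, hs⟩ := IsLocalizedModule.exist_integer_multiples P.primeCompl mk Finset.univ xs
    choose n hn using fun j => hs j (Finset.mem_univ j)
    have hrel : ∑ j, as j • xs j = 0 := by
      rw [← hv, Finsupp.linearCombination_apply, Finsupp.sum]
      exact (σ.sum_comp (fun i : v.support => v i • x i)).trans (Finset.sum_coe_sort v.support fun i => v i • x i)
    have hn' : ∀ j, mk (n j) = (s : B) • xs j := fun j => hn j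
    have hrel' : mk (∑ j, as j • n j) = 0 := by
      rw [map_sum]
      simp_rw [LinearMap.map_smul_of_tower, hn', smul_comm _ (s : B)]
      rw [← Finset.smul_sum, hrel, smul_zero]
    obtain ⟨t, ht⟩ := IsLocalizedModule.exists_of_eq (S := P.primeCompl) (hrel'.trans (map_zero mk).symm)
    rw [smul_zero] at ht
    have hindep : ∀ a : Fin v.support.card → A, (∑ j, a j • mk (n j)) ∈ (m • ⊤ : Submodule A X) → ∀ j, a j ∈ m := by
      intro a h
      simp_rw [hn', smul_comm _ (s : B), ← Finset.smul_sum] at h
      have hsum : ∑ j, a j • xs j ∈ (m • ⊤ : Submodule A X) := by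
        obtain ⟨u, hu⟩ := IsLocalization.map_units (Localization.AtPrime P) s
        let g : X →ₗ[A] X := (LinearMap.lsmul (Localization.AtPrime P) X (↑u⁻¹ : Localization.AtPrime P)).restrictScalars A
        have := Submodule.mem_map_of_mem (f := g) h
        rw [Submodule.map_smul''] at this
        have h' := Submodule.smul_mono le_rfl le_top this
        rwa [show g ((s : B) • ∑ j, a j • xs j) = ∑ j, a j • xs j by
          show (↑u⁻¹ : Localization.AtPrime P) • (s : B) • (∑ j, a j • xs j) = _
          rw [← algebraMap_smul (Localization.AtPrime P) (s : B), ← hu, smul_smul, Units.inv_mul, one_smul]] at h'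
      have h2 := (Submodule.Quotient.mk_eq_zero _).2 hsum
      rw [← Submodule.mkQ_apply, map_sum] at h2
      have h3 : ∑ j, Ideal.Quotient.mk m (a j) • b (σ j) = 0 := by
        rw [← h2]
        refine Finset.sum_congr rfl fun j _ => ?_
        rw [map_smul, Submodule.mkQ_apply, hx]
        exact algebraMap_smul (A ⧸ m) (a j) (b (σ j))
      intro j
      exact Ideal.Quotient.eq_zero_iff_mem.1 (Fintype.linearIndependent_iff.1
        (b.linearIndependent.comp _ (Subtype.val_injective.comp σ.injective)) _ h3 j)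
    have hzero : as = 0 := by
      funext j
      refine hinj _ fun i => ?_
      let T := T i
      let Qs := {Q : PrimeSpectrum T // Q ∈ Qset i}
      haveI : ∀ q : Qs, Module.Flat (A₁ i) (LocalizedModule q.1.asIdeal.primeCompl (T ⊗[B] M)) :=
        fun q => hflat i q.1 q.2
      let loc := fun q : Qs => LocalizedModule.mkLinearMap q.1.asIdeal.primeCompl (T ⊗[B] M)
      have hrz := relation_eq_zero (IsLocalRing.residue (A₁ i)) IsLocalRing.residue_surjective
        (fun q : Qs => LocalizedModule q.1.asIdeal.primeCompl (T ⊗[B] M))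
        (fun q j => loc q ((1 : T) ⊗ₜ[B] n j)) ?_ (fun j => algebraMap A (A₁ i) (as j)) ?_
      · exact congrFun hrz j
      · intro c hc
        refine fun j => (IsLocalRing.residue_eq_zero_iff _).2 (hdet i n hindep c (fun q hq => ?_) j)
        have h := hc ⟨q, hq⟩
        rw [show RingHom.ker (IsLocalRing.residue (A₁ i)) = IsLocalRing.maximalIdeal (A₁ i) from IsLocalRing.ker_residue] at h
        refine exists_smul_mem_smul_top (N' := LocalizedModule q.asIdeal.primeCompl (T ⊗[B] M)) q.asIdeal.primeCompl
          (loc ⟨q, hq⟩) _ _ ?_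
        rw [map_sum]
        have e : ∀ j, loc ⟨q, hq⟩ (algebraMap (A₁ i) T (c j) ⊗ₜ[B] n j) =
            c j • loc ⟨q, hq⟩ ((1 : T) ⊗ₜ[B] n j) := fun j => by
          rw [← algebraMap_smul T (c j), ← map_smul, smul_tmul', smul_eq_mul, mul_one]
        erw [Finset.sum_congr rfl fun j _ => e j]
        refine Submodule.smul_induction_on h (fun c hc w _ => ?_) fun _ _ => add_mem
        rw [← algebraMap_smul T c w]
        exact Submodule.smul_mem_smul (Ideal.mem_map_of_mem _ hc) Submodule.mem_top
      · intro q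
        have e : ∑ j, algebraMap A (A₁ i) (as j) • loc q ((1 : T) ⊗ₜ[B] n j) =
            loc q ((1 : T) ⊗ₜ[B] ∑ j, as j • n j) := by
          rw [tmul_sum, map_sum]
          refine Finset.sum_congr rfl fun j _ => ?_
          rw [← algebraMap_smul T (algebraMap A (A₁ i) (as j)), ← map_smul, smul_tmul', ← algebraMap_smul B (as j) (n j),
            ← smul_tmul]
          congr 2
          rw [smul_eq_mul, mul_one, Algebra.smul_def, mul_one, ← IsScalarTower.algebraMap_apply,
            ← IsScalarTower.algebraMap_apply]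
        rw [e]
        refine IsLocalizedModule.smul_injective (loc q) ⟨algebraMap B T t, show algebraMap B T (t : B) ∈ q.1.asIdeal.primeCompl from fun h => t.2 ((SetLike.ext_iff.1 (hQP i q.1 q.2) (t : B)).1 h)⟩ ?_
        show (algebraMap B T (t : B)) • loc q _ = (algebraMap B T (t : B)) • 0
        rw [smul_zero, ← map_smul, algebraMap_smul, ← tmul_smul,
          show (t : B) • (∑ j, as j • n j) = 0 from ht, tmul_zero, map_zero]
    ext k
    by_cases hk : k ∈ v.support
    · have := congrFun hzero (σ.symm ⟨k, hk⟩)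
      simpa [as] using this
    · simpa using Finsupp.notMem_support_iff.1 hk
  exact Module.Flat.of_linearEquiv (LinearEquiv.ofBijective f ⟨hfi, hfs⟩).symm

/-- **Flatness descends along the family.** -/
theorem flat_of_family [IsNoetherianRing B] (hmN : IsNilpotent m) (P : Ideal B) [P.IsPrime]
    (M : Type u) [AddCommGroup M] [Module A M] [Module B M] [IsScalarTower A B M] [Module.Finite B M]
    {I : Type w} (A₁ : I → Type u) [∀ i, CommRing (A₁ i)] [∀ i, IsLocalRing (A₁ i)] [∀ i, Algebra A (A₁ i)]
    (T : I → Type u) [∀ i, CommRing (T i)] [∀ i, Algebra (A₁ i) (T i)] [∀ i, Algebra B (T i)]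
    [∀ i, Algebra A (T i)] [∀ i, IsScalarTower A (A₁ i) (T i)] [∀ i, IsScalarTower A B (T i)]
    [∀ i, Algebra.IsPushout A (A₁ i) B (T i)]
    (hinj : ∀ a : A, (∀ i, algebraMap A (A₁ i) a = 0) → a = 0)
    (hflat : ∀ (i : I) (Q : Ideal (T i)) [Q.IsPrime], Q.comap (algebraMap B (T i)) = P →
      Q.comap (algebraMap (A₁ i) (T i)) = IsLocalRing.maximalIdeal (A₁ i) →
      Module.Flat (A₁ i) (LocalizedModule Q.primeCompl ((T i) ⊗[B] M))) :
    Module.Flat A (LocalizedModule P.primeCompl M) := by
  refine flat_of_detect m hmN P M A₁ T hinj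
    (fun i => {q | q.asIdeal.comap (algebraMap B (T i)) = P ∧
      q.asIdeal.comap (algebraMap (A₁ i) (T i)) = IsLocalRing.maximalIdeal (A₁ i)})
    (fun i q hq => hq.1) (fun i q hq => hflat i q.asIdeal hq.1 hq.2) fun i r n hn c hc j => ?_
  obtain ⟨N₀, hN⟩ := hmN
  have hma : m ≤ RingHom.ker (algebraMap A (IsLocalRing.ResidueField (A₁ i))) := fun a ha => by
    have : IsNilpotent a := ⟨N₀, by rw [← Ideal.mem_bot, ← Ideal.zero_eq_bot, ← hN]; exact Ideal.pow_mem_pow ha _⟩
    exact (this.map (algebraMap A (IsLocalRing.ResidueField (A₁ i)))).eq_zero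
  have hk : RingHom.ker (IsScalarTower.toAlgHom A (A₁ i) (IsLocalRing.ResidueField (A₁ i))) =
      IsLocalRing.maximalIdeal (A₁ i) := IsLocalRing.ker_residue
  refine (IsLocalRing.residue_eq_zero_iff _).1 (forall_theta_eq_zero m (T i) P
    (IsScalarTower.toAlgHom A (A₁ i) (IsLocalRing.ResidueField (A₁ i))) IsLocalRing.residue_surjective hma M n hn c
    (fun Q hQ h1 h2 => ?_) j)
  rw [hk]
  exact hc ⟨Q, hQ⟩ ⟨h1, h2.trans hk⟩

end Groth.Agent.GrFlat5.ArtinFamily
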