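import Groth.Agent.GrFlat5.FlatAtArtin
import Groth.Agent.GrFlat5.ArtinPrimary
import Groth.Agent.CAlgOdd.GeomIrrField

/-!
# Flatness at a point from one point over each member of a family, for a primary residue extension
-/

set_option backward.isDefEq.respectTransparency false
set_option backward.isDefEq.respectTransparency.types false
set_option linter.style.haveILetI false
set_option autoImplicit false

universe u w

open CategoryTheory CategoryTheory.Limits AlgebraicGeometry TopologicalSpace Opposite TensorProduct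

namespace Groth.Agent.GrFlat5

/-- A primary residue extension gives irreducible tensor products. -/
theorem isPrime_nilradical_residue {A : Type u} [CommRing A] [IsArtinianRing A] [IsLocalRing A] {X : Scheme.{u}}
    (f : X ⟶ Spec (CommRingCat.of A)) {U : X.Opens} (hU : IsAffineOpen U) {x : X} {hxU : x ∈ U}
    (hprim : letI := (f.residueFieldMap x).hom.toAlgebra
      ∀ a : ↑(X.residueField x), IsSeparable ↑((Spec (CommRingCat.of A)).residueField (f x)) a →
        a ∈ (f.residueFieldMap x).hom.range)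
    [Algebra A Γ(X, U)] (κ : Type u) [Field κ]
    (halg : algebraMap A Γ(X, U) =
      ((Scheme.ΓSpecIso (CommRingCat.of A)).inv ≫ f.appLE ⊤ U (le_top : U ≤ f ⁻¹ᵁ ⊤)).hom)
    [Algebra (A ⧸ IsLocalRing.maximalIdeal A) κ] [Algebra A κ]
    [IsScalarTower A (A ⧸ IsLocalRing.maximalIdeal A) κ] [Algebra Γ(X, U) κ] [IsScalarTower A Γ(X, U) κ]
    (hker : RingHom.ker (algebraMap Γ(X, U) κ) = (hU.primeIdealOf ⟨x, hxU⟩).asIdeal)
    (hfrac : ∀ z : κ, ∃ b, ∃ t ∉ (hU.primeIdealOf ⟨x, hxU⟩).asIdeal,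
      z * algebraMap Γ(X, U) κ t = algebraMap Γ(X, U) κ b)
    (k' : Type u) [Field k'] [Algebra (A ⧸ IsLocalRing.maximalIdeal A) k'] :
    (nilradical (κ ⊗[A ⧸ IsLocalRing.maximalIdeal A] k')).IsPrime := by
  letI : Field (A ⧸ IsLocalRing.maximalIdeal A) := Ideal.Quotient.field _
  let S := Spec (CommRingCat.of A)
  let st := X.presheaf.stalk x
  letI : Algebra Γ(X, U) st := (X.presheaf.germ U x hxU).hom.toAlgebra
  haveI := hU.isLocalization_stalk ⟨x, hxU⟩
  -- `κ` is the residue field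
  let lst : st →+* κ := IsLocalization.lift (M := (hU.primeIdealOf ⟨x, hxU⟩).asIdeal.primeCompl)
    (g := algebraMap Γ(X, U) κ) fun t => isUnit_iff_ne_zero.2 fun h => t.2 (hker.le (RingHom.mem_ker.2 h))
  haveI : IsLocalHom lst := ⟨fun y hy => by
    obtain ⟨⟨b, t⟩, hbt⟩ := IsLocalization.surj (hU.primeIdealOf ⟨x, hxU⟩).asIdeal.primeCompl y
    have hb : b ∉ (hU.primeIdealOf ⟨x, hxU⟩).asIdeal := fun h => by
      have h1 := congrArg lst hbt
      rw [map_mul, IsLocalization.lift_eq, IsLocalization.lift_eq, RingHom.mem_ker.1 (hker.ge h)] at h1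
      exact hy.ne_zero ((mul_eq_zero.1 h1).resolve_right fun h0 => t.2 (hker.le (RingHom.mem_ker.2 h0)))
    have h2 := IsLocalization.map_units st (⟨b, hb⟩ : (hU.primeIdealOf ⟨x, hxU⟩).asIdeal.primeCompl)
    simp only [← hbt] at h2
    exact (IsUnit.mul_iff.1 h2).1⟩
  let K := X.residueField x
  let j : K →+* κ := IsLocalRing.ResidueField.lift lst
  have hj : ∀ b, j (X.residue x (X.presheaf.germ U x hxU b)) = algebraMap Γ(X, U) κ b := fun b =>
    (IsLocalization.lift_eq _ b : lst (algebraMap Γ(X, U) st b) = _)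
  have hjs : Function.Surjective j := fun z => by
    obtain ⟨b, t, ht, hz⟩ := hfrac z
    refine ⟨X.residue x (X.presheaf.germ U x hxU b) / X.residue x (X.presheaf.germ U x hxU t), ?_⟩
    rw [map_div₀, hj, hj, div_eq_iff fun h => ht (hker.le (RingHom.mem_ker.2 h))]
    exact hz.symm
  -- the bases
  let k := A ⧸ IsLocalRing.maximalIdeal A
  let ks := S.residueField (f x)
  let ev : A →+* ks := ((Scheme.ΓSpecIso (CommRingCat.of A)).inv ≫ S.presheaf.germ ⊤ (f x) trivial ≫ S.residue (f x)).hom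
  have hev : ∀ a, f.residueFieldMap x (ev a) = X.residue x (X.presheaf.germ U x hxU (algebraMap A Γ(X, U) a)) := fun a => by
    show (S.residue (f x) ≫ f.residueFieldMap x) (S.presheaf.germ ⊤ (f x) trivial _) = _
    rw [Scheme.residue_residueFieldMap, CommRingCat.comp_apply, Scheme.Hom.germ_stalkMap_apply, halg]
    exact congrArg (X.residue x) (X.presheaf.germ_res_apply (homOfLE (le_top : U ≤ f ⁻¹ᵁ ⊤)) x hxU _).symm
  have hev0 : ∀ a ∈ IsLocalRing.maximalIdeal A, ev a = 0 := fun a ha => by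
    obtain ⟨N, hN⟩ := IsArtinianRing.isNilpotent_jacobson_bot (R := A)
    rw [IsLocalRing.jacobson_eq_maximalIdeal ⊥ bot_ne_top] at hN
    have : IsNilpotent a := ⟨N, by rw [← Ideal.mem_bot, ← Ideal.zero_eq_bot, ← hN]; exact Ideal.pow_mem_pow ha _⟩
    exact (this.map ev).eq_zero
  letI : Algebra k ks := (Ideal.Quotient.lift _ ev hev0).toAlgebra
  letI : Algebra ks K := (f.residueFieldMap x).hom.toAlgebra
  letI : Algebra k K := ((algebraMap ks K).comp (algebraMap k ks)).toAlgebra
  haveI : IsScalarTower k ks K := .of_algebraMap_eq fun _ => rfl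
  let je : K ≃ₐ[k] κ := AlgEquiv.ofBijective
    { j with
      commutes' := fun c => by
        obtain ⟨a, rfl⟩ := Ideal.Quotient.mk_surjective c
        show j (f.residueFieldMap x (ev a)) = algebraMap k κ (algebraMap A k a)
        rw [hev, hj, ← IsScalarTower.algebraMap_apply A Γ(X, U) κ, ← IsScalarTower.algebraMap_apply A k κ] }
    ⟨j.injective, hjs⟩
  have hks : Function.Surjective (algebraMap k ks) := fun y => by
    obtain ⟨y, rfl⟩ := S.residue_surjective (f x) y
    letI : Algebra A (S.presheaf.stalk (f x)) :=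
      ((Scheme.ΓSpecIso (CommRingCat.of A)).inv ≫ S.presheaf.germ ⊤ (f x) trivial).hom.toAlgebra
    haveI : IsLocalization.AtPrime (S.presheaf.stalk (f x)) (f x).asIdeal := StructureSheaf.IsLocalization.to_stalk A (f x)
    obtain ⟨⟨a, t⟩, hat⟩ := IsLocalization.surj (f x).asIdeal.primeCompl y
    have ht : IsUnit (t : A) := by
      haveI : (f x).asIdeal.IsMaximal := IsArtinianRing.isMaximal_of_isPrime _
      by_contra h
      exact t.2 ((IsLocalRing.eq_maximalIdeal ‹(f x).asIdeal.IsMaximal›).ge h)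
    obtain ⟨w, hw⟩ := ht
    refine ⟨Ideal.Quotient.mk _ (a * ↑w⁻¹), ?_⟩
    show S.residue (f x) (algebraMap A (S.presheaf.stalk (f x)) (a * ↑w⁻¹)) = _
    rw [map_mul, ← hat, mul_assoc, ← map_mul, ← hw, Units.mul_inv, map_one, mul_one]
  have hsep : ∀ a : κ, IsSeparable k a → a ∈ Set.range (algebraMap k κ) := fun a ha => by
    obtain ⟨c, hc⟩ := hprim (je.symm a) (IsSeparable.tower_top _ (je.symm.isSeparable_iff.2 ha))
    obtain ⟨c, rfl⟩ := hks c
    exact ⟨c, by rw [← je.apply_symm_apply a, ← hc]; exact (je.commutes c).symm⟩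
  have h := CAlgOdd.GeomIrrField.irreducibleSpace_tensor k κ hsep k'
  rw [PrimeSpectrum.irreducibleSpace_iff_isPrime_nilradical] at h
  have e : nilradical (κ ⊗[k] k') = (nilradical (k' ⊗[k] κ)).comap (Algebra.TensorProduct.comm k κ k').toRingHom := by
    ext z
    simp only [mem_nilradical, Ideal.mem_comap]
    exact (IsNilpotent.map_iff (f := (Algebra.TensorProduct.comm k κ k').toRingEquiv)
      (RingEquiv.injective _)).symm
  rw [e]
  exact h.comap _

/-- **One point over each member suffices for a primary residue extension.** -/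
theorem flatAt_of_family_primary {A : Type u} [CommRing A] [IsArtinianRing A] [IsLocalRing A] {X : Scheme.{u}}
    (f : X ⟶ Spec (CommRingCat.of A)) [LocallyOfFiniteType f] (F : X.Modules) (hF : Coh.IsCoh F) (x : X)
    (hprim : letI := (f.residueFieldMap x).hom.toAlgebra
      ∀ a : ↑(X.residueField x), IsSeparable ↑((Spec (CommRingCat.of A)).residueField (f x)) a →
        a ∈ (f.residueFieldMap x).hom.range)
    {ι : Type w} (A' : ι → Type u) [∀ i, CommRing (A' i)] [∀ i, IsLocalRing (A' i)] (v : ∀ i, A →+* A' i)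
    (hv : ∀ a : A, (∀ i, v i a = 0) → a = 0)
    (hflat : ∀ i, ∃ x' : ↥(pullback f (Spec.map (CommRingCat.ofHom (v i)))),
      pullback.fst f (Spec.map (CommRingCat.ofHom (v i))) x' = x ∧
      pullback.snd f (Spec.map (CommRingCat.ofHom (v i))) x' = IsLocalRing.closedPoint (A' i) ∧
      FlatMod.IsFlatOverAt (pullback.snd f (Spec.map (CommRingCat.ofHom (v i))))
        ((Scheme.Modules.pullback (pullback.fst f (Spec.map (CommRingCat.ofHom (v i))))).obj F) x') :
    FlatMod.IsFlatOverAt f F x := by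
  obtain ⟨_, ⟨U, hU, rfl⟩, hxU, -⟩ :=
    X.isBasis_affineOpens.exists_subset_of_mem_open (Set.mem_univ x) isOpen_univ
  have hU : IsAffineOpen U := hU
  let S := Spec (CommRingCat.of A)
  let V : S.Opens := ⊤
  let eA : CommRingCat.of A ≅ Γ(S, V) := (Scheme.ΓSpecIso (CommRingCat.of A)).symm
  have hUV : U ≤ f ⁻¹ᵁ V := le_top
  letI : Algebra A Γ(X, U) := (eA.hom ≫ f.appLE V U hUV).hom.toAlgebra
  letI : Module A Γ(F, U) := Module.compHom _ (algebraMap A Γ(X, U))
  haveI : IsScalarTower A Γ(X, U) Γ(F, U) := .of_algebraMap_smul fun _ _ => rfl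
  haveI : Algebra.FiniteType A Γ(X, U) :=
    RingHom.FiniteType.comp (f.finiteType_appLE (isAffineOpen_top _) hU hUV)
      (RingHom.FiniteType.of_surjective _ (ConcreteCategory.bijective_of_isIso eA.hom).2)
  haveI : IsNoetherianRing Γ(X, U) := Algebra.FiniteType.isNoetherianRing A Γ(X, U)
  haveI : Module.Finite Γ(X, U) Γ(F, U) := QCoh.finite_of_isFT hF.1 hF.2 hU
  letI : ∀ i, Algebra A (A' i) := fun i => (v i).toAlgebra
  let g := fun i => Spec.map (CommRingCat.ofHom (v i))
  let X' := fun i => pullback f (g i)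
  let W : ∀ i, (X' i).Opens := fun i => pullback.fst f (g i) ⁻¹ᵁ U ⊓ pullback.snd f (g i) ⁻¹ᵁ ⊤
  let eA' : ∀ i, CommRingCat.of (A' i) ≅ Γ(Spec (CommRingCat.of (A' i)), ⊤) :=
    fun i => (Scheme.ΓSpecIso (CommRingCat.of (A' i))).symm
  letI : ∀ i, Algebra Γ(X, U) Γ(X' i, W i) := fun i =>
    ((pullback.fst f (g i)).appLE U (W i) inf_le_left).hom.toAlgebra
  letI : ∀ i, Algebra (A' i) Γ(X' i, W i) := fun i =>
    ((eA' i).hom ≫ (pullback.snd f (g i)).appLE ⊤ (W i) inf_le_right).hom.toAlgebra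
  letI : ∀ i, Algebra A Γ(X' i, W i) := fun i =>
    ((algebraMap (A' i) Γ(X' i, W i)).comp (v i)).toAlgebra
  haveI : ∀ i, IsScalarTower A (A' i) Γ(X' i, W i) := fun i => .of_algebraMap_eq fun _ => rfl
  have hgV : ∀ i, (⊤ : (Spec (CommRingCat.of (A' i))).Opens) ≤ g i ⁻¹ᵁ V := fun i => le_top
  have hpo : ∀ i, CategoryTheory.IsPushout (CommRingCat.ofHom (v i)) (eA.hom ≫ f.appLE V U hUV)
      ((eA' i).hom ≫ (pullback.snd f (g i)).appLE ⊤ (W i) inf_le_right)
      ((pullback.fst f (g i)).appLE U (W i) inf_le_left) := fun i => by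
    have h := ((isIso_pushoutSection_iff (IsPullback.of_hasPullback f (g i)) (hgV i) hUV (UY := W i) rfl).mp
      (isIso_pushoutSection_of_isAffineOpen (IsPullback.of_hasPullback f (g i)) (hgV i) hUV rfl
        (isAffineOpen_top _) (isAffineOpen_top _) hU)).flip
    refine h.of_iso eA.symm (eA' i).symm (Iso.refl _) (Iso.refl _) ?_ (by simp) (by simp) (by simp)
    refine Eq.trans ?_ (Scheme.ΓSpecIso_naturality (CommRingCat.ofHom (v i)))
    refine congrArg (· ≫ (Scheme.ΓSpecIso (CommRingCat.of (A' i))).hom) ?_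
    simp [g, Scheme.Hom.appLE]
    rfl
  haveI : ∀ i, IsScalarTower A Γ(X, U) Γ(X' i, W i) := fun i => .of_algebraMap_eq fun r =>
    congr($((hpo i).w).hom r)
  haveI : ∀ i, Algebra.IsPushout A (A' i) Γ(X, U) Γ(X' i, W i) := fun i =>
    CommRingCat.isPushout_iff_isPushout.mp (hpo i)
  haveI : (hU.primeIdealOf ⟨x, hxU⟩).asIdeal.IsPrime := inferInstance
  rw [flatAt_iff_flat_localized f hF.1 hU (isAffineOpen_top _) hUV eA rfl _ hxU rfl (LinearEquiv.refl _ _)]
  choose x' hx'₁ hx'₂ hx'F using hflat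
  let P := (hU.primeIdealOf ⟨x, hxU⟩).asIdeal
  have hfx : ∀ a : A, algebraMap A Γ(X, U) a ∈ P → ¬ IsUnit a := fun a ha hu =>
    (inferInstance : P.IsPrime).ne_top (Ideal.eq_top_of_isUnit_mem _ ha (hu.map _))
  have hPm : IsLocalRing.maximalIdeal A ≤ P.comap (algebraMap A Γ(X, U)) := fun a ha => by
    haveI : (P.comap (algebraMap A Γ(X, U))).IsMaximal := IsArtinianRing.isMaximal_of_isPrime _
    exact (IsLocalRing.eq_maximalIdeal this).ge ha
  have hW : ∀ i, IsAffineOpen (W i) := fun i => by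
    haveI : IsAffine _ := hU
    haveI : IsAffine _ := isAffineOpen_top (Spec (CommRingCat.of (A' i)))
    haveI : IsAffine _ := isAffineOpen_top (Spec (CommRingCat.of A))
    exact .of_isIso (Scheme.Hom.isPullback_resLE (IsPullback.of_hasPullback f (g i)) (hgV i) hUV
      (UY := W i) rfl).isoPullback.hom
  have hy : ∀ i, x' i ∈ W i := fun i => ⟨show pullback.fst f (g i) (x' i) ∈ U from (hx'₁ i).symm ▸ hxU, trivial⟩
  let Q : ∀ i, PrimeSpectrum Γ(X' i, W i) := fun i => (hW i).primeIdealOf ⟨x' i, hy i⟩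
  have hQP : ∀ i, (Q i).asIdeal.comap (algebraMap Γ(X, U) Γ(X' i, W i)) = P := fun i => by
    have e := IsAffineOpen.comap_primeIdealOf_appLE (f := pullback.fst f (g i)) U hU (W i) (hW i) inf_le_left (hy i)
    refine (congrArg PrimeSpectrum.asIdeal e).trans ?_
    simp only [P]
    congr 3
    exact hx'₁ i
  have hQm : ∀ i, (Q i).asIdeal.comap (algebraMap (A' i) Γ(X' i, W i)) = IsLocalRing.maximalIdeal (A' i) := fun i => by
    have e := IsAffineOpen.comap_primeIdealOf_appLE (f := pullback.snd f (g i)) ⊤ (isAffineOpen_top _) (W i) (hW i)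
      inf_le_right (hy i)
    refine Eq.trans ?_ ((comap_primeIdealOf_top _).trans (congrArg PrimeSpectrum.asIdeal (hx'₂ i)))
    exact congrArg (fun q => q.asIdeal.comap (Scheme.ΓSpecIso (CommRingCat.of (A' i))).inv.hom) e
  have hflatQ : ∀ i, Module.Flat (A' i) (LocalizedModule (Q i).asIdeal.primeCompl (Γ(X' i, W i) ⊗[Γ(X, U)] Γ(F, U))) :=
    fun i => by
    let N := (Scheme.Modules.pullback (pullback.fst f (g i))).obj F
    letI : Module Γ(X, U) Γ(N, W i) := Module.compHom _ ((pullback.fst f (g i)).appLE U (W i) inf_le_left).hom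
    haveI : IsScalarTower Γ(X, U) Γ(X' i, W i) Γ(N, W i) := .of_algebraMap_smul fun _ _ => rfl
    let l : Γ(F, U) →ₗ[Γ(X, U)] Γ(N, W i) :=
      { toFun := QCoh.pullSec (pullback.fst f (g i)) F inf_le_left
        map_add' := QCoh.pullSec_add (pullback.fst f (g i)) F inf_le_left
        map_smul' := fun r m => QCoh.pullSec_smul (pullback.fst f (g i)) F inf_le_left r m }
    have hb : IsBaseChange Γ(X' i, W i) l :=
      QCoh.isBaseChange_pullback hU (pullback.fst f (g i)) (hW i) hF.1 inf_le_left (fun _ => rfl) l fun _ => rfl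
    exact (flatAt_iff_flat_localized (pullback.snd f (g i)) (QCoh.isQCoh_pullback _ hF.1) (hW i) (isAffineOpen_top _)
      inf_le_right (eA' i) rfl (Q i).asIdeal (hy i) rfl hb.equiv).1 (hx'F i)
  have hnil : IsNilpotent (IsLocalRing.maximalIdeal A) := by
    have h := IsArtinianRing.isNilpotent_jacobson_bot (R := A)
    rwa [IsLocalRing.jacobson_eq_maximalIdeal ⊥ bot_ne_top] at h
  refine ArtinFamily.flat_of_detect (IsLocalRing.maximalIdeal A) hnil P _ A' (fun i => Γ(X' i, W i)) hv
    (fun i => {Q i}) (fun i q hq => by rw [Set.mem_singleton_iff.1 hq]; exact hQP i)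
    (fun i q hq => by rw [Set.mem_singleton_iff.1 hq]; exact hflatQ i) fun i r n hn c hc j => ?_
  have hma : IsLocalRing.maximalIdeal A ≤ RingHom.ker (algebraMap A (IsLocalRing.ResidueField (A' i))) := fun a ha => by
    obtain ⟨N₀, hN⟩ := hnil
    have : IsNilpotent a := ⟨N₀, by rw [← Ideal.mem_bot, ← Ideal.zero_eq_bot, ← hN]; exact Ideal.pow_mem_pow ha _⟩
    exact (this.map (algebraMap A (IsLocalRing.ResidueField (A' i)))).eq_zero
  have hk : RingHom.ker (IsScalarTower.toAlgHom A (A' i) (IsLocalRing.ResidueField (A' i))) =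
      IsLocalRing.maximalIdeal (A' i) := IsLocalRing.ker_residue
  refine (IsLocalRing.residue_eq_zero_iff _).1 (ArtinPrimary.forall_theta_eq_zero_of_point
    (IsLocalRing.maximalIdeal A) Γ(X' i, W i) P hPm
    (IsScalarTower.toAlgHom A (A' i) (IsLocalRing.ResidueField (A' i))) IsLocalRing.residue_surjective hma ?_
    Γ(F, U) n hn c (Q i).asIdeal (hQP i) ((hQm i).trans hk.symm) (by rw [hk]; exact hc (Q i) rfl) j)
  intro κ _ _ _ _ _ _ _ _ hker hfrac
  exact isPrime_nilradical_residue f hU (hxU := hxU) hprim κ rfl hker hfrac _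

end Groth.Agent.GrFlat5
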