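import Groth.Agent.GrFlat5.FlatAtQuot
import Groth.Agent.GrFlat5.FlatAtIso
import Groth.Agent.GrFlat5.FlatAtPrimary
import Groth.Agent.LocalCrit.Flatness
import Groth.Agent.ZClosLib.CohDescent
import Mathlib.AlgebraicGeometry.Noetherian

/-!
# Flatness at a point tested on families of local morphisms to a locally Noetherian base
-/

set_option backward.isDefEq.respectTransparency false
set_option backward.isDefEq.respectTransparency.types false
set_option linter.style.haveILetI false
set_option autoImplicit false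

universe u w

open CategoryTheory CategoryTheory.Limits AlgebraicGeometry TopologicalSpace Opposite TensorProduct IsLocalRing

namespace Groth.Agent.GrFlat5

/-- `Spec (O_{Y,y}/m^(n+1)) ⟶ Y`. -/
noncomputable abbrev thickPt {Y : Scheme.{u}} (y : Y) (n : ℕ) :
    Spec (CommRingCat.of (Y.presheaf.stalk y ⧸ maximalIdeal (Y.presheaf.stalk y) ^ (n + 1))) ⟶ Y :=
  Spec.map (CommRingCat.ofHom (Ideal.Quotient.mk (maximalIdeal (Y.presheaf.stalk y) ^ (n + 1)))) ≫ Y.fromSpecStalk y

/-- Flatness at a point follows from flatness on all infinitesimal neighbourhoods of its image. -/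
theorem flatAt_of_forall_thickPt {X Y : Scheme.{u}} [IsLocallyNoetherian Y] (f : X ⟶ Y) [LocallyOfFiniteType f]
    (F : X.Modules) (hF : Coh.IsCoh F) (x : X)
    (h : ∀ n, ∃ x' : ↥(pullback f (thickPt (f x) n)), pullback.fst f (thickPt (f x) n) x' = x ∧
      FlatMod.IsFlatOverAt (pullback.snd f (thickPt (f x) n))
        ((Scheme.Modules.pullback (pullback.fst f (thickPt (f x) n))).obj F) x') :
    FlatMod.IsFlatOverAt f F x := by
  obtain ⟨_, ⟨V, hV, rfl⟩, hxV, -⟩ :=
    Y.isBasis_affineOpens.exists_subset_of_mem_open (Set.mem_univ (f x)) isOpen_univ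
  have hV : IsAffineOpen V := hV
  obtain ⟨_, ⟨U, hU, rfl⟩, hxU, hUV⟩ :=
    X.isBasis_affineOpens.exists_subset_of_mem_open (show x ∈ f ⁻¹ᵁ V from hxV) (f ⁻¹ᵁ V).2
  have hU : IsAffineOpen U := hU
  haveI : IsLocallyNoetherian X := LocallyOfFiniteType.isLocallyNoetherian f
  let R := Γ(Y, V)
  let O := Y.presheaf.stalk (f x)
  let p := (hV.primeIdealOf ⟨f x, hUV hxU⟩).asIdeal
  letI : Algebra R O := (Y.presheaf.germ V (f x) (hUV hxU)).hom.toAlgebra
  haveI : IsLocalization.AtPrime O p := hV.isLocalization_stalk ⟨f x, hUV hxU⟩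
  letI : Algebra O (X.presheaf.stalk x) := (f.stalkMap x).hom.toAlgebra
  haveI : Module.Finite (X.presheaf.stalk x) (F.presheaf.stalk x) := QCoh.finite_stalk_of_isFT hF.1 hF.2 x
  letI : Module O (F.presheaf.stalk x) := FlatMod.moduleStalkOver f F x
  haveI : IsScalarTower O (X.presheaf.stalk x) (F.presheaf.stalk x) := .of_algebraMap_smul fun _ _ => rfl
  letI : Module R (F.presheaf.stalk x) :=
    Module.compHom _ ((f.appLE V U hUV) ≫ X.presheaf.germ U x hxU).hom
  haveI : IsScalarTower R O (F.presheaf.stalk x) := .of_algebraMap_smul fun a m => by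
    show f.stalkMap x (Y.presheaf.germ V (f x) (hUV hxU) a) • m = X.presheaf.germ U x hxU (f.appLE V U hUV a) • m
    rw [Scheme.Hom.germ_stalkMap_apply f V x (hUV hxU) a]
    exact congrArg (fun r => r • m) (X.presheaf.germ_res_apply (homOfLE hUV) x hxU _).symm
  have hjac : (maximalIdeal O).map (algebraMap O (X.presheaf.stalk x)) ≤ Ideal.jacobson ⊥ := by
    refine le_trans ?_ (maximalIdeal_le_jacobson _)
    exact Ideal.map_le_iff_le_comap.2 fun a ha => map_nonunit (f.stalkMap x).hom a ha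
  show Module.Flat O (F.presheaf.stalk x)
  refine LocalCrit.flat_of_forall_quotient_pow (B := X.presheaf.stalk x) (maximalIdeal O) hjac fun n => ?_
  cases n with
  | zero =>
    intro N N' _ _ _ _ g hN _ _
    haveI : Subsingleton N := ⟨fun a b => by
      have ha := @hN a ⟨1, by simp⟩
      have hb := @hN b ⟨1, by simp⟩
      simp only [one_smul] at ha hb
      rw [ha, hb]⟩
    exact Function.injective_of_subsingleton _
  | succ n =>
    obtain ⟨x', hx', hflat⟩ := h n
    let A := O ⧸ maximalIdeal O ^ (n + 1)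
    letI : Algebra R A := ((Ideal.Quotient.mk (maximalIdeal O ^ (n + 1))).comp (algebraMap R O)).toAlgebra
    haveI : IsScalarTower R O A := .of_algebraMap_eq fun _ => rfl
    have hg : thickPt (f x) n = Spec.map (CommRingCat.ofHom (algebraMap R A)) ≫ hV.fromSpec := by
      rw [thickPt, ← hV.fromSpecStalk_eq_fromSpecStalk (hUV hxU), IsAffineOpen.fromSpecStalk, ← Category.assoc,
        ← Spec.map_comp]
      rfl
    have h1 := flat_tensor_stalk f hF.1 hV hU hUV (thickPt (f x) n) hg hxU (fun a => by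
      obtain ⟨y, rfl⟩ := Ideal.Quotient.mk_surjective a
      obtain ⟨⟨r', r⟩, hr⟩ := IsLocalization.surj p.primeCompl y
      refine ⟨r, r', r.2, ?_⟩
      show Ideal.Quotient.mk _ (algebraMap R O r) * _ = Ideal.Quotient.mk _ (algebraMap R O r')
      rw [← map_mul, mul_comm, hr]) x' hx' hflat
    haveI : Module.Flat A (A ⊗[R] F.presheaf.stalk x) := h1
    haveI : Module.Flat A (A ⊗[O] F.presheaf.stalk x) :=
      FlatBC5.flat_tensor_localization (A := R) (R := O) (C := A) p.primeCompl
    exact LocalCrit.keepsInjective_of_flat _ _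

/-- The residue extension at `x` is primary. -/
def Prim {X Y : Scheme.{u}} (f : X ⟶ Y) (x : X) : Prop :=
  letI := (f.residueFieldMap x).hom.toAlgebra
  ∀ a : ↑(X.residueField x), IsSeparable ↑(Y.residueField (f x)) a → a ∈ (f.residueFieldMap x).hom.range

theorem residueFieldMap_surjective {X Y : Scheme.{u}} (j : X ⟶ Y) [IsPreimmersion j] (x : X) :
    Function.Surjective (j.residueFieldMap x) := fun z => by
  obtain ⟨g, rfl⟩ := X.residue_surjective x z
  obtain ⟨g, rfl⟩ := j.stalkMap_surjective x g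
  exact ⟨Y.residue (j x) g, congrArg (fun m : Y.presheaf.stalk (j x) ⟶ X.residueField x => m.hom g)
    (Scheme.residue_residueFieldMap j x)⟩

theorem prim_comp_left {X' X Y : Scheme.{u}} (p : X' ⟶ X) (f : X ⟶ Y) (x : X')
    (hp : Function.Surjective (p.residueFieldMap x)) (h : Prim f (p x)) : Prim (p ≫ f) x := by
  unfold Prim at h ⊢
  letI := (f.residueFieldMap (p x)).hom.toAlgebra
  letI := ((p ≫ f).residueFieldMap x).hom.toAlgebra
  intro a ha
  let e : X.residueField (p x) ≃+* X'.residueField x :=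
    RingEquiv.ofBijective (p.residueFieldMap x).hom ⟨RingHom.injective _, hp⟩
  have hcomm : ∀ c, e (f.residueFieldMap (p x) c) = (p ≫ f).residueFieldMap x c := fun c => by
    rw [Scheme.residueFieldMap_comp]
    rfl
  have h1 : IsSeparable (Y.residueField (f (p x))) (e.symm a) :=
    IsSeparable.of_equiv_equiv (A₁ := Y.residueField ((p ≫ f) x)) (B₁ := X'.residueField x)
      (A₂ := Y.residueField (f (p x))) (B₂ := X.residueField (p x)) (RingEquiv.refl _) e.symm
      (RingHom.ext fun c => ((RingEquiv.symm_apply_eq e).2 (hcomm c).symm).symm) ha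
  obtain ⟨c, hc⟩ := h _ h1
  exact ⟨c, by rw [← e.apply_symm_apply a, ← hc]; exact (hcomm c).symm⟩

theorem prim_of_comp {X' S Y : Scheme.{u}} (f' : X' ⟶ S) (g : S ⟶ Y) (x : X')
    (hg : Function.Surjective (g.residueFieldMap (f' x))) (h : Prim (f' ≫ g) x) : Prim f' x := by
  unfold Prim at h ⊢
  letI := (f'.residueFieldMap x).hom.toAlgebra
  letI := ((f' ≫ g).residueFieldMap x).hom.toAlgebra
  intro a ha
  let e : Y.residueField (g (f' x)) ≃+* S.residueField (f' x) :=
    RingEquiv.ofBijective (g.residueFieldMap (f' x)).hom ⟨RingHom.injective _, hg⟩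
  have hcomm : ∀ c, f'.residueFieldMap x (e c) = (f' ≫ g).residueFieldMap x c := fun c => by
    rw [Scheme.residueFieldMap_comp]
    rfl
  have h1 : IsSeparable (Y.residueField ((f' ≫ g) x)) a :=
    IsSeparable.of_equiv_equiv (A₁ := S.residueField (f' x)) (B₁ := X'.residueField x)
      (A₂ := Y.residueField ((f' ≫ g) x)) (B₂ := X'.residueField x) e.symm (RingEquiv.refl _)
      (RingHom.ext fun c => by
        show (f' ≫ g).residueFieldMap x (e.symm c) = f'.residueFieldMap x c
        exact (hcomm (e.symm c)).symm.trans (congrArg _ (e.apply_symm_apply c))) ha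
  obtain ⟨c, hc⟩ := h _ h1
  exact ⟨e c, (hcomm c).trans hc⟩

theorem prim_of_square {X' X S Y : Scheme.{u}} (p : X' ⟶ X) (f' : X' ⟶ S) (f : X ⟶ Y) (g : S ⟶ Y)
    [IsPreimmersion p] [IsPreimmersion g] (w : p ≫ f = f' ≫ g) (x : X') (h : Prim f (p x)) : Prim f' x :=
  prim_of_comp f' g x (residueFieldMap_surjective g _)
    (w ▸ prim_comp_left p f x (residueFieldMap_surjective p _) h)

variable {X Y : Scheme.{u}} (f : X ⟶ Y) (x : X) {ι : Type w} (A : ι → Type u) [∀ i, CommRing (A i)]

/-- An open ideal inside `m^(N+1)` cut out by finitely many members of the family. -/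
theorem exists_thick_family [∀ i, IsLocalRing (A i)] (φ : ∀ i, (Y.presheaf.stalk (f x) : Type u) →+* A i)
    [∀ i, IsLocalHom (φ i)]
    (htop : ∀ N : ℕ, ∃ s : Finset (ι × ℕ),
      ⨅ p ∈ s, Ideal.comap (φ p.1) (maximalIdeal (A p.1) ^ p.2) ≤
        maximalIdeal ↑(Y.presheaf.stalk (f x)) ^ N) (N : ℕ) :
    ∃ (I : Ideal (Y.presheaf.stalk (f x))) (K : ℕ) (s : Finset (ι × ℕ)),
      I ≤ maximalIdeal (Y.presheaf.stalk (f x)) ^ (N + 1) ∧
      maximalIdeal (Y.presheaf.stalk (f x)) ^ K ≤ I ∧ (∀ p ∈ s, 0 < p.2) ∧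
      I = ⨅ p ∈ s, Ideal.comap (φ p.1) (maximalIdeal (A p.1) ^ p.2) := by
  classical
  obtain ⟨s, hs⟩ := htop (N + 1)
  let s' := s.filter fun p => 0 < p.2
  refine ⟨⨅ p ∈ s', Ideal.comap (φ p.1) (maximalIdeal (A p.1) ^ p.2), s'.sup (·.2), s', le_trans ?_ hs,
    le_iInf₂ fun p hp => ?_, fun p hp => (Finset.mem_filter.1 hp).2, rfl⟩
  · refine le_iInf₂ fun p hp => ?_
    rcases Nat.eq_zero_or_pos p.2 with h0 | h0
    · simp [h0]
    · exact iInf₂_le p (Finset.mem_filter.2 ⟨hp, h0⟩)
  · refine le_trans (Ideal.pow_le_pow_right (Finset.le_sup (f := fun q : ι × ℕ => q.2) hp)) ?_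
    rw [← Ideal.map_le_iff_le_comap, Ideal.map_pow]
    exact Ideal.pow_right_mono (show Ideal.map (φ p.1) (maximalIdeal _) ≤ maximalIdeal (A p.1) from Ideal.map_le_iff_le_comap.2 fun a ha => map_nonunit (φ p.1) a ha) _

end Groth.Agent.GrFlat5
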