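import Groth.Agent.GrFlat5.FlatAtArtin
import Groth.Agent.FlatBC5.Basic

/-!
# Flatness on a base change along a quotient of a local ring
-/

set_option backward.isDefEq.respectTransparency false
set_option backward.isDefEq.respectTransparency.types false
set_option linter.style.haveILetI false
set_option autoImplicit false

universe u

open CategoryTheory CategoryTheory.Limits AlgebraicGeometry TopologicalSpace Opposite TensorProduct

namespace Groth.Agent.GrFlat5

/-- If every element of `A` is a fraction `r'/r` with `r ∉ p`, localizing `T ⊗ M` at a prime over `P` is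
tensoring with `M_P`. -/
theorem flat_tensor_localized_of_fractions {R A B T M : Type u} [CommRing R] [CommRing A] [CommRing B] [CommRing T]
    [Algebra R A] [Algebra R B] [Algebra A T] [Algebra B T] [Algebra R T] [IsScalarTower R A T]
    [IsScalarTower R B T] [Algebra.IsPushout R A B T] [AddCommGroup M] [Module R M] [Module B M]
    [IsScalarTower R B M] (P : Ideal B) [P.IsPrime] (Q : Ideal T) [Q.IsPrime]
    (hQ : Q.comap (algebraMap B T) = P)
    (hA : ∀ a : A, ∃ r r' : R, algebraMap R B r ∉ P ∧ algebraMap R A r * a = algebraMap R A r')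
    (h : Module.Flat A (LocalizedModule Q.primeCompl (T ⊗[B] M))) :
    Module.Flat A (A ⊗[R] LocalizedModule P.primeCompl M) := by
  let MP := LocalizedModule P.primeCompl M
  let N := T ⊗[B] M
  let mkM := LocalizedModule.mkLinearMap P.primeCompl M
  let mkN := LocalizedModule.mkLinearMap Q.primeCompl N
  have hmemQ : ∀ b : B, b ∉ P → algebraMap B T b ∉ Q := fun b hb hbQ => hb (hQ.le hbQ)
  -- elements of `B` outside `P` act invertibly
  have hB : ∀ u : P.primeCompl, IsUnit (algebraMap T (Module.End T (T ⊗[B] MP)) (algebraMap B T (u : B))) := by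
    intro u
    obtain ⟨v, hv⟩ := IsLocalizedModule.map_units (S := P.primeCompl) mkM u
    refine ⟨⟨_, (↑v⁻¹ : Module.End B MP).baseChange T, ?_, ?_⟩, rfl⟩ <;>
    · refine LinearMap.ext fun z => ?_
      induction z using TensorProduct.induction_on with
      | zero => simp
      | add a b ha hb => simp only [map_add, ha, hb]
      | tmul t x =>
        have e1 : (u : B) • (↑v⁻¹ : Module.End B MP) x = x := by
          have := LinearMap.congr_fun v.mul_inv x
          rwa [hv] at this
        have e2 : (↑v⁻¹ : Module.End B MP) ((u : B) • x) = x := by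
          have := LinearMap.congr_fun v.inv_mul x
          rwa [hv] at this
        simp only [Module.End.mul_apply, Module.algebraMap_end_apply, Module.End.one_apply, algebraMap_smul]
        first
          | (show (u : B) • (t ⊗ₜ[B] (↑v⁻¹ : Module.End B MP) x) = t ⊗ₜ[B] x
             rw [← tmul_smul, e1])
          | (rw [← tmul_smul]
             show t ⊗ₜ[B] (↑v⁻¹ : Module.End B MP) ((u : B) • x) = t ⊗ₜ[B] x
             rw [e2])
  -- elements of `T` outside `Q` are products of those and units
  have hT : ∀ s : Q.primeCompl, IsUnit (algebraMap T (Module.End T (T ⊗[B] MP)) (s : T)) := by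
    intro s
    suffices hfrac : ∀ t : T, ∃ r : R, algebraMap R B r ∉ P ∧ ∃ b : B, algebraMap R T r * t = algebraMap B T b by
      obtain ⟨r, hr, b, hb⟩ := hfrac s
      have hbP : b ∉ P := fun h => by
        have := hQ.ge h
        rw [Ideal.mem_comap, ← hb, IsScalarTower.algebraMap_apply R B T] at this
        rcases (inferInstance : Q.IsPrime).mem_or_mem this with h' | h'
        · exact hmemQ _ hr h'
        · exact s.2 h'
      have hu := hB ⟨b, hbP⟩
      rw [← hb, map_mul] at hu
      exact ((Algebra.commute_algebraMap_left _ _).isUnit_mul_iff.1 hu).2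
    intro t
    obtain ⟨z, rfl⟩ := (Algebra.IsPushout.equiv R A B T).surjective t
    induction z using TensorProduct.induction_on with
    | zero => exact ⟨1, by simpa using (inferInstance : P.IsPrime).one_notMem, 0, by simp⟩
    | tmul a b =>
      obtain ⟨r, r', hr, hra⟩ := hA a
      refine ⟨r, hr, algebraMap R B r' * b, ?_⟩
      rw [Algebra.IsPushout.equiv_tmul, ← mul_assoc, IsScalarTower.algebraMap_apply R A T r, ← map_mul, hra,
        ← IsScalarTower.algebraMap_apply, map_mul, ← IsScalarTower.algebraMap_apply]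
    | add x y hx hy =>
      obtain ⟨r, hr, b, hb⟩ := hx
      obtain ⟨r', hr', b', hb'⟩ := hy
      refine ⟨r * r', by rw [map_mul]; exact (inferInstance : P.IsPrime).mul_notMem hr hr',
        algebraMap R B r' * b + algebraMap R B r * b', ?_⟩
      rw [map_add, map_add, map_mul, map_mul, map_mul, ← IsScalarTower.algebraMap_apply,
        ← IsScalarTower.algebraMap_apply, ← hb, ← hb']
      ring
  let toK : LocalizedModule Q.primeCompl N →ₗ[T] T ⊗[B] MP :=
    IsLocalizedModule.lift Q.primeCompl mkN (mkM.baseChange T) hT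
  let j : M →ₗ[B] LocalizedModule Q.primeCompl N := (mkN.restrictScalars B) ∘ₗ (TensorProduct.mk B T M 1)
  have hj : ∀ u : P.primeCompl, IsUnit (algebraMap B (Module.End B (LocalizedModule Q.primeCompl N)) (u : B)) := by
    intro u
    have h1 := IsLocalizedModule.map_units (S := Q.primeCompl) mkN ⟨_, hmemQ u u.2⟩
    rw [Module.End.isUnit_iff] at h1 ⊢
    rwa [show ⇑(algebraMap B (Module.End B (LocalizedModule Q.primeCompl N)) (u : B)) =
      ⇑(algebraMap T (Module.End T (LocalizedModule Q.primeCompl N)) (algebraMap B T u)) from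
        funext fun w => by simp [Module.algebraMap_end_apply]]
  let fromK : T ⊗[B] MP →ₗ[T] LocalizedModule Q.primeCompl N :=
    LinearMap.liftBaseChange T (IsLocalizedModule.lift P.primeCompl mkM j hj)
  have h1 : toK ∘ₗ fromK = LinearMap.id := by
    refine TensorProduct.AlgebraTensorModule.ext fun t x => ?_
    have : (toK.restrictScalars B ∘ₗ IsLocalizedModule.lift P.primeCompl mkM j hj) = TensorProduct.mk B T MP 1 := by
      refine IsLocalizedModule.ext P.primeCompl mkM ?_ (LinearMap.ext fun m => ?_)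
      · intro u
        have h1 := hB u
        rw [Module.End.isUnit_iff] at h1 ⊢
        rwa [show ⇑(algebraMap B (Module.End B (T ⊗[B] MP)) (u : B)) =
          ⇑(algebraMap T (Module.End T (T ⊗[B] MP)) (algebraMap B T u)) from
            funext fun w => by simp [Module.algebraMap_end_apply]]
      simp only [LinearMap.comp_apply, LinearMap.restrictScalars_apply, IsLocalizedModule.lift_apply]
      show toK (mkN ((1 : T) ⊗ₜ[B] m)) = _
      rw [IsLocalizedModule.lift_apply]
      rfl
    have h2 := LinearMap.congr_fun this x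
    show toK (fromK (t ⊗ₜ[B] x)) = t ⊗ₜ[B] x
    rw [LinearMap.liftBaseChange_tmul, map_smul, show toK _ = (1 : T) ⊗ₜ[B] x from h2, smul_tmul', smul_eq_mul, mul_one]
  have h2 : fromK ∘ₗ toK = LinearMap.id := by
    refine IsLocalizedModule.ext Q.primeCompl mkN (IsLocalizedModule.map_units mkN)
      (TensorProduct.AlgebraTensorModule.ext fun t m => ?_)
    show fromK (toK (mkN (t ⊗ₜ[B] m))) = mkN (t ⊗ₜ[B] m)
    rw [IsLocalizedModule.lift_apply, LinearMap.baseChange_tmul, LinearMap.liftBaseChange_tmul,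
      IsLocalizedModule.lift_apply]
    show t • mkN ((1 : T) ⊗ₜ[B] m) = _
    rw [← map_smul, smul_tmul', smul_eq_mul, mul_one]
  let e : LocalizedModule Q.primeCompl N ≃ₗ[T] T ⊗[B] MP := LinearEquiv.ofLinearMap toK fromK h1 h2
  haveI : Module.Flat A (T ⊗[B] MP) := Module.Flat.of_linearEquiv (e.restrictScalars A).symm
  exact Module.Flat.of_linearEquiv (Algebra.IsPushout.cancelBaseChange R A B T MP).symm

/-- Flatness at a point of the base change by `g : Spec A ⟶ Y` gives flatness of `A ⊗ F_x`. -/
theorem flat_tensor_stalk {X Y : Scheme.{u}} (f : X ⟶ Y) {F : X.Modules} (hF : Coh.IsQCoh F) {V : Y.Opens}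
    (hV : IsAffineOpen V) {U : X.Opens} (hU : IsAffineOpen U) (hUV : U ≤ f ⁻¹ᵁ V) {A : Type u} [CommRing A]
    [Algebra Γ(Y, V) A] (g : Spec (CommRingCat.of A) ⟶ Y)
    (hg : g = Spec.map (CommRingCat.ofHom (algebraMap Γ(Y, V) A)) ≫ hV.fromSpec) {x : X} (hx : x ∈ U)
    (hA : ∀ a : A, ∃ r r' : Γ(Y, V), r ∉ (hV.primeIdealOf ⟨f x, hUV hx⟩).asIdeal ∧
      algebraMap Γ(Y, V) A r * a = algebraMap Γ(Y, V) A r')
    (x' : ↥(pullback f g)) (hx' : pullback.fst f g x' = x)
    (hflat : FlatMod.IsFlatOverAt (pullback.snd f g) ((Scheme.Modules.pullback (pullback.fst f g)).obj F) x') :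
    letI : Module Γ(Y, V) (F.presheaf.stalk x) :=
      Module.compHom _ ((f.appLE V U hUV) ≫ X.presheaf.germ U x hx).hom
    Module.Flat A (A ⊗[Γ(Y, V)] F.presheaf.stalk x) := by
  subst hx'
  let S' := Spec (CommRingCat.of A)
  let O : S'.Opens := ⊤
  let eA : CommRingCat.of A ≅ Γ(S', O) := (Scheme.ΓSpecIso (CommRingCat.of A)).symm
  have hgV : O ≤ g ⁻¹ᵁ V := fun t _ => by
    rw [hg]
    show hV.fromSpec (Spec.map _ t) ∈ V
    have : hV.fromSpec (Spec.map (CommRingCat.ofHom (algebraMap Γ(Y, V) A)) t) ∈ Set.range hV.fromSpec := ⟨_, rfl⟩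
    rwa [hV.range_fromSpec] at this
  let X' := pullback f g
  let W : X'.Opens := pullback.fst f g ⁻¹ᵁ U ⊓ pullback.snd f g ⁻¹ᵁ O
  have hW : IsAffineOpen W := by
    haveI : IsAffine _ := hU
    haveI : IsAffine _ := hV
    haveI : IsAffine _ := isAffineOpen_top S'
    exact .of_isIso (Scheme.Hom.isPullback_resLE (IsPullback.of_hasPullback f g) hgV hUV
      (UY := W) rfl).isoPullback.hom
  letI : Algebra Γ(Y, V) Γ(X, U) := (f.appLE V U hUV).hom.toAlgebra
  letI : Module Γ(Y, V) Γ(F, U) := Module.compHom _ (f.appLE V U hUV).hom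
  haveI : IsScalarTower Γ(Y, V) Γ(X, U) Γ(F, U) := .of_algebraMap_smul fun _ _ => rfl
  letI : Algebra Γ(X, U) Γ(X', W) := ((pullback.fst f g).appLE U W inf_le_left).hom.toAlgebra
  letI : Algebra A Γ(X', W) := (eA.hom ≫ (pullback.snd f g).appLE O W inf_le_right).hom.toAlgebra
  letI : Algebra Γ(Y, V) Γ(X', W) :=
    ((algebraMap A Γ(X', W)).comp (algebraMap Γ(Y, V) A)).toAlgebra
  haveI : IsScalarTower Γ(Y, V) A Γ(X', W) := .of_algebraMap_eq fun _ => rfl
  have hpo : CategoryTheory.IsPushout (CommRingCat.ofHom (algebraMap Γ(Y, V) A)) (f.appLE V U hUV)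
      (eA.hom ≫ (pullback.snd f g).appLE O W inf_le_right) ((pullback.fst f g).appLE U W inf_le_left) := by
    have h := ((isIso_pushoutSection_iff (IsPullback.of_hasPullback f g) hgV hUV (UY := W) rfl).mp
      (isIso_pushoutSection_of_isAffineOpen (IsPullback.of_hasPullback f g) hgV hUV rfl hV
        (isAffineOpen_top _) hU)).flip
    refine h.of_iso (Iso.refl _) eA.symm (Iso.refl _) (Iso.refl _) ?_ (by simp) (by simp) (by simp)
    subst hg
    simp only [Iso.refl_hom, Category.id_comp, eA, Iso.symm_hom, Iso.symm_inv, O]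
    simp [Scheme.Hom.appLE, Scheme.Hom.comp_app, hV.fromSpec_app_self]
    have hid : ∀ i : (⊤ : (Spec (CommRingCat.of A)).Opens) ⟶ ⊤, (Spec (CommRingCat.of A)).presheaf.map i.op = 𝟙 _ :=
      fun i => by rw [Subsingleton.elim i (𝟙 _)]; simp
    rw [← Functor.map_comp_assoc, ← op_comp]
    erw [hid, Category.id_comp, Scheme.ΓSpecIso_naturality, Iso.inv_hom_id_assoc]
  haveI : IsScalarTower Γ(Y, V) Γ(X, U) Γ(X', W) := .of_algebraMap_eq fun r => congr($(hpo.w).hom r)
  haveI : Algebra.IsPushout Γ(Y, V) A Γ(X, U) Γ(X', W) := CommRingCat.isPushout_iff_isPushout.mp hpo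
  have hy : x' ∈ W := ⟨hx, trivial⟩
  let Q := (hW.primeIdealOf ⟨x', hy⟩).asIdeal
  let P := (hU.primeIdealOf ⟨_, hx⟩).asIdeal
  have hQ : Q.comap (algebraMap Γ(X, U) Γ(X', W)) = P :=
    congrArg PrimeSpectrum.asIdeal
      (IsAffineOpen.comap_primeIdealOf_appLE (f := pullback.fst f g) U hU W hW inf_le_left hy)
  have hP : ∀ r, algebraMap Γ(Y, V) Γ(X, U) r ∈ P ↔ r ∈ (hV.primeIdealOf ⟨_, hUV hx⟩).asIdeal := fun r =>
    SetLike.ext_iff.1 (congrArg PrimeSpectrum.asIdeal
      (IsAffineOpen.comap_primeIdealOf_appLE (f := f) V hV U hU hUV hx)) r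
  let N := (Scheme.Modules.pullback (pullback.fst f g)).obj F
  letI : Module Γ(X, U) Γ(N, W) := Module.compHom _ ((pullback.fst f g).appLE U W inf_le_left).hom
  haveI : IsScalarTower Γ(X, U) Γ(X', W) Γ(N, W) := .of_algebraMap_smul fun _ _ => rfl
  let l : Γ(F, U) →ₗ[Γ(X, U)] Γ(N, W) :=
    { toFun := QCoh.pullSec (pullback.fst f g) F inf_le_left
      map_add' := QCoh.pullSec_add (pullback.fst f g) F inf_le_left
      map_smul' := fun r m => QCoh.pullSec_smul (pullback.fst f g) F inf_le_left r m }
  have hb : IsBaseChange Γ(X', W) l :=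
    QCoh.isBaseChange_pullback hU (pullback.fst f g) hW hF inf_le_left (fun _ => rfl) l fun _ => rfl
  have h1 := (flatAt_iff_flat_localized (pullback.snd f g) (QCoh.isQCoh_pullback _ hF) hW (isAffineOpen_top _)
    inf_le_right eA rfl Q hy rfl hb.equiv).1 hflat
  have h2 := flat_tensor_localized_of_fractions (R := Γ(Y, V)) P Q hQ (fun a => by
    obtain ⟨r, r', hr, e⟩ := hA a
    exact ⟨r, r', fun h => hr ((hP r).1 h), e⟩) h1
  letI := QCoh.stalkModule F hx
  letI : Module Γ(Y, V) (F.presheaf.stalk (pullback.fst f g x')) :=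
    Module.compHom _ ((f.appLE V U hUV) ≫ X.presheaf.germ U _ hx).hom
  haveI : IsScalarTower Γ(Y, V) Γ(X, U) (F.presheaf.stalk (pullback.fst f g x')) :=
    .of_algebraMap_smul fun _ _ => rfl
  haveI := QCoh.isLocalizedModule_germLin hF hU hx
  let e := ((IsLocalizedModule.iso P.primeCompl (QCoh.germLin F hx)).restrictScalars Γ(Y, V)).baseChange
    Γ(Y, V) A _ _
  exact Module.Flat.of_linearEquiv e.symm

end Groth.Agent.GrFlat5
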