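import Groth.Agent.FlatSyz5.NilFree

/-!
# Uniform bound for flattening conditions along a locally closed piece

For a countable family `Q` of modules over a Noetherian ring `R₀` which become projective over `R₀/p` after
inverting `f`, flatness of all `T ⊗ Q j` over algebras `T` in which `f` is invertible and some power of `p`
vanishes follows from flatness of finitely many of them.  The conditions are ideals `b j n ⊇ pⁿ` of `(R₀)_f`,
compatible in `n`; their initial forms live in the Noetherian Rees algebra of `p`, hence stabilise.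
-/

set_option backward.isDefEq.respectTransparency false
set_option linter.style.haveILetI false

universe u

open TensorProduct

namespace Groth.Agent.GrFlat5

/-- A product of two flat modules is flat. -/
theorem flat_prod {R A B : Type u} [CommRing R] [AddCommGroup A] [Module R A] [AddCommGroup B]
    [Module R B] [Module.Flat R A] [Module.Flat R B] : Module.Flat R (A × B) := by
  rw [Module.Flat.iff_rTensor_preserves_injective_linearMap]
  intro P P' _ _ _ _ f hf
  rw [injective_iff_map_eq_zero]
  intro z hz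
  have h1 : (LinearMap.fst R A B).lTensor P z = 0 := by
    refine Module.Flat.rTensor_preserves_injective_linearMap f hf (Eq.trans ?_ (map_zero _).symm)
    rw [← LinearMap.comp_apply, LinearMap.rTensor_comp_lTensor, ← LinearMap.lTensor_comp_rTensor,
      LinearMap.comp_apply, hz, map_zero]
  have h2 : (LinearMap.snd R A B).lTensor P z = 0 := by
    refine Module.Flat.rTensor_preserves_injective_linearMap f hf (Eq.trans ?_ (map_zero _).symm)
    rw [← LinearMap.comp_apply, LinearMap.rTensor_comp_lTensor, ← LinearMap.lTensor_comp_rTensor,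
      LinearMap.comp_apply, hz, map_zero]
  have e : LinearMap.inl R A B ∘ₗ LinearMap.fst R A B + LinearMap.inr R A B ∘ₗ LinearMap.snd R A B =
      LinearMap.id := by ext <;> simp
  have := congrArg (fun g => LinearMap.lTensor P g z) e
  simpa [LinearMap.lTensor_add, LinearMap.lTensor_comp_apply, h1, h2] using this.symm

/-- A projective module becomes free after adding a suitable free module. -/
theorem exists_free_prod_free {R : Type u} [CommRing R] (P : Type u) [AddCommGroup P] [Module R P]
    [Module.Projective R P] : ∃ κ : Type u, Module.Free R (P × (κ →₀ R)) := by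
  obtain ⟨s, hs⟩ := Module.projective_def'.1 ‹Module.Projective R P›
  have hs' : Function.Injective s := Function.LeftInverse.injective (g := Finsupp.linearCombination R id)
    fun x => LinearMap.congr_fun hs x
  let Q := LinearMap.ker (Finsupp.linearCombination R (id : P → P))
  let π : (P →₀ R) →ₗ[R] P := Finsupp.linearCombination R id
  have hπ : ∀ x, π (s x) = x := fun x => LinearMap.congr_fun hs x
  have hr : ∀ x, (LinearMap.id - s ∘ₗ π : (P →₀ R) →ₗ[R] (P →₀ R)) x ∈ Q := fun x => by
    show π (x - s (π x)) = 0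
    rw [map_sub, hπ, sub_self]
  let r : (P →₀ R) →ₗ[R] Q := LinearMap.codRestrict Q _ hr
  have hrv : ∀ x, (r x : P →₀ R) = x - s (π x) := fun _ => rfl
  let e₀ : (P →₀ R) ≃ₗ[R] P × Q :=
    LinearEquiv.ofLinearMap (π.prod r) (s.coprod Q.subtype)
      (by
        refine LinearMap.ext fun ⟨x, y⟩ => ?_
        have h2 : π (y : P →₀ R) = 0 := y.2
        ext1
        · simp [hπ, h2]
        · ext1
          simp only [LinearMap.comp_apply, LinearMap.coprod_apply, LinearMap.prod_apply, Function.prod_apply,
            LinearMap.id_apply, Submodule.subtype_apply, hrv, map_add, hπ, h2, map_zero, Prod.mk_add_mk,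
            Submodule.coe_add, add_zero]
          abel)
      (by
        refine LinearMap.ext fun x => ?_
        simp only [LinearMap.comp_apply, LinearMap.coprod_apply, LinearMap.prod_apply, Function.prod_apply,
          LinearMap.id_apply, Submodule.subtype_apply, hrv]
        abel)
  let ψ : (ℕ →₀ P × Q) ≃ₗ[R] (ℕ →₀ P) × (ℕ →₀ Q) :=
    LinearEquiv.ofLinearMap
      ((Finsupp.mapRange.linearMap (LinearMap.fst R P Q)).prod (Finsupp.mapRange.linearMap (LinearMap.snd R P Q)))
      ((Finsupp.mapRange.linearMap (LinearMap.inl R P Q)).coprod (Finsupp.mapRange.linearMap (LinearMap.inr R P Q)))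
      (by refine LinearMap.ext fun ⟨y, z⟩ => ?_; ext <;> simp)
      (by refine LinearMap.ext fun z => ?_; ext <;> simp)
  let shift : (P × (ℕ →₀ P)) ≃ₗ[R] (ℕ →₀ P) :=
    LinearEquiv.ofBijective
      (LinearMap.coprod (Finsupp.lsingle 0) (Finsupp.lmapDomain P R Nat.succ)) <| by
      constructor
      · rintro ⟨x, y⟩ ⟨x', y'⟩ h
        simp only [LinearMap.coprod_apply, Finsupp.lsingle_apply, Finsupp.lmapDomain_apply] at h
        have h0 := DFunLike.congr_fun h 0
        simp [Finsupp.mapDomain_notin_range] at h0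
        subst h0
        exact congrArg (Prod.mk x) (Finsupp.mapDomain_injective Nat.succ_injective (add_left_cancel h))
      · intro z
        refine ⟨(z 0, z.comapDomain Nat.succ Nat.succ_injective.injOn), ?_⟩
        ext i
        cases i with
        | zero => simp [Finsupp.mapDomain_notin_range]
        | succ i => simp [Finsupp.mapDomain_apply Nat.succ_injective]
  let L : (ℕ × P →₀ R) ≃ₗ[R] (ℕ →₀ P) × (ℕ →₀ Q) :=
    ((Finsupp.curryLinearEquiv R).trans (Finsupp.mapRange.linearEquiv e₀)).trans ψ
  exact ⟨ℕ × P, Module.Free.of_equiv (((LinearEquiv.refl R P).prodCongr L).trans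
    ((LinearEquiv.prodAssoc R _ _ _).symm.trans ((shift.prodCongr (LinearEquiv.refl R _)).trans L.symm))).symm⟩

/-- The least ideal of `S` above `P` modulo which `N` is flat, `N` being projective modulo the nilpotent `Pb`. -/
theorem exists_ideal_flat_iff {A : Type u} [CommRing A] (J : Ideal A) (hJ : IsNilpotent J)
    (M : Type u) [AddCommGroup M] [Module A M] [Module.Projective (A ⧸ J) ((A ⧸ J) ⊗[A] M)] :
    ∃ b : Ideal A, ∀ (T : Type u) [CommRing T] [Algebra A T],
      Module.Flat T (T ⊗[A] M) ↔ Ideal.map (algebraMap A T) b = ⊥ := by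
  classical
  obtain ⟨κ, hfree⟩ := exists_free_prod_free ((A ⧸ J) ⊗[A] M) (R := A ⧸ J)
  let e : ∀ (T : Type u) [CommRing T] [Algebra A T],
      T ⊗[A] (M × (κ →₀ A)) ≃ₗ[T] (T ⊗[A] M) × (κ →₀ T) := fun T _ _ =>
    (TensorProduct.prodRight A T T M (κ →₀ A)).trans
      ((LinearEquiv.refl T _).prodCongr (TensorProduct.finsuppScalarRight A T T κ))
  haveI := hfree
  have hred : Module.Free (A ⧸ J) ((A ⧸ J) ⊗[A] (M × (κ →₀ A))) := Module.Free.of_equiv (e _).symm
  obtain ⟨b, hb⟩ := FlatSyz5.exists_ideal_free_iff (M := M × (κ →₀ A)) J hJ hred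
  refine ⟨b, fun T _ _ => ⟨fun h => (hb T).2 ?_, fun h => ?_⟩⟩
  · haveI := h
    haveI : Module.Flat T ((T ⊗[A] M) × (κ →₀ T)) := flat_prod
    exact Module.Flat.of_linearEquiv (e T)
  · haveI := (hb T).1 h
    exact Module.Flat.of_retract ((e T).symm.toLinearMap ∘ₗ LinearMap.inl T _ _)
      (LinearMap.fst T _ _ ∘ₗ (e T).toLinearMap) (by ext x; simp)

variable {R₀ : Type u} [CommRing R₀] (Q : ℕ → Type u) [∀ j, AddCommGroup (Q j)] [∀ j, Module R₀ (Q j)]

/-- All `Q j` are projective after base change to the piece `V(p) ∩ D(f)`. -/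
def Piece (p : Ideal R₀) (f : R₀) : Prop :=
  ∀ (T : Type u) [CommRing T] [Algebra R₀ T], p.map (algebraMap R₀ T) = ⊥ → IsUnit (algebraMap R₀ T f) →
    ∀ j, Module.Projective T (T ⊗[R₀] Q j)

theorem exists_cond_ideal {p : Ideal R₀} {f : R₀} (h : Piece Q p f) (S : Type u) [CommRing S] [Algebra R₀ S]
    (hf : IsUnit (algebraMap R₀ S f)) (j n : ℕ) :
    ∃ b : Ideal S, (p.map (algebraMap R₀ S)) ^ n ≤ b ∧
      ∀ (T : Type u) [CommRing T] [Algebra R₀ T] [Algebra S T] [IsScalarTower R₀ S T],
        ((p.map (algebraMap R₀ S)) ^ n).map (algebraMap S T) = ⊥ →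
          (Module.Flat T (T ⊗[R₀] Q j) ↔ b.map (algebraMap S T) = ⊥) := by
  set P := p.map (algebraMap R₀ S) with hP
  let A := S ⧸ P ^ n
  let J : Ideal A := P.map (algebraMap S A)
  have hJ : IsNilpotent J := ⟨n, ((Ideal.map_pow (algebraMap S A) P n).symm.trans (Ideal.map_quotient_self _)).trans (Ideal.zero_eq_bot).symm⟩
  haveI : Module.Projective (A ⧸ J) ((A ⧸ J) ⊗[A] (A ⊗[R₀] Q j)) := by
    have h1 : p.map (algebraMap R₀ (A ⧸ J)) = ⊥ := by
      rw [IsScalarTower.algebraMap_eq R₀ A (A ⧸ J), ← Ideal.map_map, IsScalarTower.algebraMap_eq R₀ S A,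
        ← Ideal.map_map]
      exact Ideal.map_quotient_self _
    have h2 : IsUnit (algebraMap R₀ (A ⧸ J) f) := by
      rw [IsScalarTower.algebraMap_apply R₀ S (A ⧸ J)]; exact hf.map _
    haveI := h (A ⧸ J) h1 h2 j
    exact Module.Projective.of_equiv (AlgebraTensorModule.cancelBaseChange R₀ A (A ⧸ J) (A ⧸ J) (Q j)).symm
  obtain ⟨b, hb⟩ := exists_ideal_flat_iff J hJ (A ⊗[R₀] Q j)
  refine ⟨b.comap (algebraMap S A), fun x hx => ?_, fun T _ _ _ _ hPT => ?_⟩
  · rw [Ideal.mem_comap, show algebraMap S A x = 0 from Ideal.Quotient.eq_zero_iff_mem.2 hx]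
    exact zero_mem _
  · letI : Algebra A T := (Ideal.Quotient.lift (P ^ n) (algebraMap S T) fun x hx =>
      Ideal.mem_bot.1 (hPT ▸ Ideal.mem_map_of_mem _ hx)).toAlgebra
    haveI : IsScalarTower S A T := .of_algebraMap_eq fun _ => rfl
    haveI : IsScalarTower R₀ A T := .of_algebraMap_eq fun r => by
      rw [IsScalarTower.algebraMap_apply R₀ S T, IsScalarTower.algebraMap_apply R₀ S A]; rfl
    have e : (b.comap (algebraMap S A)).map (algebraMap S T) = b.map (algebraMap A T) := by
      rw [IsScalarTower.algebraMap_eq S A T, ← Ideal.map_map,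
        Ideal.map_comap_of_surjective (algebraMap S A) Ideal.Quotient.mk_surjective]
    rw [e, ← hb T]
    exact ⟨fun _ => Module.Flat.of_linearEquiv (AlgebraTensorModule.cancelBaseChange R₀ A T T (Q j)),
      fun _ => Module.Flat.of_linearEquiv (AlgebraTensorModule.cancelBaseChange R₀ A T T (Q j)).symm⟩

variable [IsNoetherianRing R₀]

/-- **Uniform bound.** -/
theorem exists_bound {p : Ideal R₀} {f : R₀} (h : Piece Q p f) :
    ∃ D : ℕ, ∀ (n : ℕ) (T : Type u) [CommRing T] [Algebra R₀ T], IsUnit (algebraMap R₀ T f) →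
      (p ^ n).map (algebraMap R₀ T) = ⊥ → (∀ j ≤ D, Module.Flat T (T ⊗[R₀] Q j)) →
        ∀ j, Module.Flat T (T ⊗[R₀] Q j) := by
  let S := Localization.Away f
  haveI : IsNoetherianRing S := IsLocalization.isNoetherianRing (Submonoid.powers f) S inferInstance
  set P := p.map (algebraMap R₀ S) with hP
  choose b hPb hb using fun j n => exists_cond_ideal Q h S (IsLocalization.Away.algebraMap_isUnit f) j n
  rw [← hP] at hPb hb
  -- compatibility in `n`
  have hcomp : ∀ j n, b j n = b j (n + 1) ⊔ P ^ n := by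
    intro j n
    apply le_antisymm
    · let T := S ⧸ (b j (n + 1) ⊔ P ^ n)
      have h1 : (P ^ (n + 1)).map (algebraMap S T) = ⊥ :=
        (Ideal.map_eq_bot_iff_le_ker _).2 (((Ideal.pow_le_pow_right n.le_succ).trans le_sup_right).trans
          Ideal.mk_ker.ge)
      have h2 : (P ^ n).map (algebraMap S T) = ⊥ :=
        (Ideal.map_eq_bot_iff_le_ker _).2 (le_sup_right.trans Ideal.mk_ker.ge)
      have hflat := (hb j (n + 1) T h1).2
        ((Ideal.map_eq_bot_iff_le_ker _).2 (le_sup_left.trans Ideal.mk_ker.ge))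
      exact ((Ideal.map_eq_bot_iff_le_ker _).1 ((hb j n T h2).1 hflat)).trans Ideal.mk_ker.le
    · refine sup_le ?_ (hPb j n)
      let T := S ⧸ b j n
      have h2 : (P ^ n).map (algebraMap S T) = ⊥ :=
        (Ideal.map_eq_bot_iff_le_ker _).2 ((hPb j n).trans Ideal.mk_ker.ge)
      have h1 : (P ^ (n + 1)).map (algebraMap S T) = ⊥ :=
        (Ideal.map_eq_bot_iff_le_ker _).2
          (((Ideal.pow_le_pow_right n.le_succ).trans (hPb j n)).trans Ideal.mk_ker.ge)
      have hflat := (hb j n T h2).2 ((Ideal.map_eq_bot_iff_le_ker _).2 Ideal.mk_ker.ge)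
      exact ((Ideal.map_eq_bot_iff_le_ker _).1 ((hb j (n + 1) T h1).1 hflat)).trans Ideal.mk_ker.le
  let a : ℕ → ℕ → Ideal S := fun k n => P ^ n ⊔ ⨆ j ∈ Finset.range (k + 1), b j n
  have hb_a : ∀ k j n, j ≤ k → b j n ≤ a k n := fun k j n hj =>
    (le_iSup₂ (f := fun j (_ : j ∈ Finset.range (k + 1)) => b j n) j
      (Finset.mem_range.2 (Nat.lt_succ_of_le hj))).trans le_sup_right
  have hmono : ∀ k k' n, k ≤ k' → a k n ≤ a k' n := fun k k' n hk =>
    sup_le_sup_left (iSup₂_le fun j hj => le_iSup₂_of_le (f := fun j (_ : j ∈ Finset.range (k' + 1)) => b j n) j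
      (Finset.mem_range.2 ((Finset.mem_range.1 hj).trans_le (Nat.succ_le_succ hk))) le_rfl) _
  have hdown : ∀ k n, a k n = a k (n + 1) ⊔ P ^ n := by
    intro k n
    refine le_antisymm (sup_le le_sup_right (iSup₂_le fun j hj => ?_)) (sup_le (sup_le ?_ (iSup₂_le fun j hj => ?_)) le_sup_left)
    · rw [hcomp j n]
      exact sup_le_sup_right (hb_a k j _ (Nat.le_of_lt_succ (Finset.mem_range.1 hj))) _
    · exact (Ideal.pow_le_pow_right n.le_succ).trans le_sup_left
    · exact (le_sup_left.trans (hcomp j n).ge).trans (hb_a k j n (Nat.le_of_lt_succ (Finset.mem_range.1 hj)))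
  -- the ideal of initial forms
  have hup : ∀ k n m, a k n ≤ a k (n + m) ⊔ P ^ n := by
    intro k n m
    induction m with
    | zero => exact le_sup_left
    | succ m ih =>
      refine ih.trans (sup_le ?_ le_sup_right)
      rw [hdown k (n + m), ← add_assoc]
      exact sup_le_sup_left (Ideal.pow_le_pow_right (Nat.le_add_right n m)) _
  let c : ℕ → Ideal (reesAlgebra P) := fun k =>
    { carrier := {x | ∀ i, (x : Polynomial S).coeff i ∈ a k (i + 1)}
      add_mem' := fun hx hy i => by
        rw [Subalgebra.coe_add, Polynomial.coeff_add]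
        exact add_mem (hx i) (hy i)
      zero_mem' := fun i => by simp
      smul_mem' := fun r x hx i => by
        rw [smul_eq_mul, Subalgebra.coe_mul, Polynomial.coeff_mul]
        refine Submodule.sum_mem _ fun ⟨l, m⟩ hlm => ?_
        rw [Finset.HasAntidiagonal.mem_antidiagonal] at hlm
        subst hlm
        obtain ⟨u, hu, v, hv, huv⟩ := Submodule.mem_sup.1 (hup k (m + 1) l (hx m))
        rw [← huv, mul_add]
        refine add_mem ?_ ((le_sup_left : P ^ (l + m + 1) ≤ a k (l + m + 1)) ?_)
        · exact Ideal.mul_mem_left _ _ (by rwa [show l + m + 1 = m + 1 + l by omega])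
        · rw [add_assoc, pow_add]
          exact Ideal.mul_mem_mul (r.2 l) hv }
  obtain ⟨D, hD⟩ := monotone_stabilizes_iff_noetherian.2 (inferInstance : IsNoetherian (reesAlgebra P) (reesAlgebra P))
    ⟨c, fun k k' hk x hx i => hmono k k' _ hk (hx i)⟩
  have hbound : ∀ n k, a k n ≤ a D n := by
    intro n
    induction n with
    | zero => intro k; refine le_trans ?_ le_sup_left; rw [pow_zero, Ideal.one_eq_top]; exact le_top
    | succ n ih =>
      intro k x hx
      rcases le_total k D with hk | hk
      · exact hmono k D _ hk hx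
      have hxn : x ∈ a k n := by rw [hdown]; exact Ideal.mem_sup_left hx
      have := ih k hxn
      rw [hdown] at this
      obtain ⟨y, hy, z, hz, rfl⟩ := Submodule.mem_sup.1 this
      have hz' : z ∈ a k (n + 1) := by simpa using sub_mem hx (hmono D k _ hk hy)
      let w : reesAlgebra P := ⟨Polynomial.monomial n z, reesAlgebra.monomial_mem.2 hz⟩
      have hw : w ∈ c k := fun i => by
        show (Polynomial.monomial n z).coeff i ∈ _
        rw [Polynomial.coeff_monomial]
        split_ifs with hi
        · subst hi; exact hz'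
        · exact zero_mem _
      have hwD : w ∈ c D := by
        have hDk : c D = c k := hD k hk
        rw [hDk]
        exact hw
      have := hwD n
      rw [show (w : Polynomial S).coeff n = z from Polynomial.coeff_monomial_same n z] at this
      exact add_mem hy this
  refine ⟨D, fun n T _ _ hf hp hflat j => ?_⟩
  letI : Algebra S T := (IsLocalization.Away.lift f hf : S →+* T).toAlgebra
  haveI : IsScalarTower R₀ S T := .of_algebraMap_eq fun r => (IsLocalization.Away.lift_eq f hf r).symm
  have hPn : (P ^ n).map (algebraMap S T) = ⊥ := by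
    rw [← Ideal.map_pow, Ideal.map_map, ← IsScalarTower.algebraMap_eq, hp]
  refine (hb j n T hPn).2 ((Ideal.map_eq_bot_iff_le_ker _).2 ((hb_a j j n le_rfl).trans ((hbound n j).trans
    (sup_le ((Ideal.map_eq_bot_iff_le_ker _).1 hPn) (iSup₂_le fun i hi => ?_)))))
  exact (Ideal.map_eq_bot_iff_le_ker _).1
    ((hb i n T hPn).1 (hflat i (Nat.le_of_lt_succ (Finset.mem_range.1 hi))))

end Groth.Agent.GrFlat5
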