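import Groth.Agent.GrFlat5.Present
import Groth.Agent.GrFlat5.Universal
import Mathlib.RingTheory.FiniteType
import Mathlib.RingTheory.Nilpotent.Lemmas

/-!
# The flattening ideal over a dense open of an irreducible affine base
-/

set_option backward.isDefEq.respectTransparency false
set_option linter.style.haveILetI false

universe u

open MvPolynomial TensorProduct

namespace Groth.Agent.GrFlat5

/-- The flattening ideal of a module with a Noetherian model. -/
theorem exists_flattening_of_model {A : Type u} [CommRing A] (hA : (nilradical A).IsPrime)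
    {R₀ : Type u} [CommRing R₀] [IsNoetherianRing R₀] [Algebra R₀ A] {a n : ℕ}
    (K : Submodule (MvPolynomial (Fin n) R₀) (FlatModel.V a n R₀)) (J₀ : Ideal (MvPolynomial (Fin n) R₀))
    (M : Type u) [AddCommGroup M] [Module A M] (e : A ⊗[R₀] Qk K J₀ 1 ≃ₗ[A] M) :
    ∃ h₀ : A, ¬ IsNilpotent h₀ ∧ ∀ h : A, h₀ ∣ h → ∃ J : Ideal (Localization.Away h),
      J.FG ∧ J ≤ nilradical (Localization.Away h) ∧
      ∀ (A' : Type u) [CommRing A'] [Algebra (Localization.Away h) A'] [Algebra A A']
        [IsScalarTower A (Localization.Away h) A'],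
        Module.Flat A' (A' ⊗[A] M) ↔ J.map (algebraMap (Localization.Away h) A') = ⊥ := by
  haveI := hA
  let p : Ideal R₀ := (nilradical A).comap (algebraMap R₀ A)
  obtain ⟨f, hfp, hpiece⟩ := exists_piece K J₀ p
  have hpA : p.map (algebraMap R₀ A) ≤ nilradical A := Ideal.map_comap_le
  obtain ⟨N, hN⟩ := (Ideal.FG.isNilpotent_iff_le_nilradical (Ideal.FG.map (IsNoetherian.noetherian p) _)).2 hpA
  refine ⟨algebraMap R₀ A f, fun h => hfp (mem_nilradical.2 h), fun h hdvd => ?_⟩
  let S := Localization.Away f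
  haveI : IsNoetherianRing S := IsLocalization.isNoetherianRing (Submonoid.powers f) S inferInstance
  obtain ⟨b, hPb, hb⟩ := exists_cond_ideal _ hpiece S (IsLocalization.Away.algebraMap_isUnit f) 1 (N + 1)
  let L := Localization.Away h
  have hu : IsUnit (algebraMap R₀ L f) := by
    rw [IsScalarTower.algebraMap_apply R₀ A L]
    obtain ⟨c, hc⟩ := hdvd
    have hh := IsLocalization.Away.algebraMap_isUnit (S := L) h
    replace hh := ((congrArg (algebraMap A L) hc).trans (map_mul _ _ _)) ▸ hh
    exact isUnit_of_mul_isUnit_left hh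
  let σ : S →+* L := IsLocalization.Away.lift f hu
  refine ⟨b.map σ, Ideal.FG.map (IsNoetherian.noetherian b) _, ?_, fun A' _ _ _ _ => ?_⟩
  · -- `b` lies over `p`
    have hbP : b ≤ p.map (algebraMap R₀ S) := by
      set Q := p.map (algebraMap R₀ S) with hQ
      let T := S ⧸ Q
      have h1 : (Q ^ (N + 1)).map (algebraMap S T) = ⊥ :=
        (Ideal.map_eq_bot_iff_le_ker _).2 ((Ideal.pow_le_self (Nat.succ_ne_zero N)).trans Ideal.mk_ker.ge)
      have h2 : p.map (algebraMap R₀ T) = ⊥ := by
        rw [IsScalarTower.algebraMap_eq R₀ S T, ← Ideal.map_map, ← hQ]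
        exact Ideal.map_quotient_self _
      have h3 : IsUnit (algebraMap R₀ T f) := by
        rw [IsScalarTower.algebraMap_apply R₀ S T]
        exact (IsLocalization.Away.algebraMap_isUnit f).map _
      haveI := hpiece T h2 h3 1
      exact ((Ideal.map_eq_bot_iff_le_ker _).1 ((hb T h1).1 inferInstance)).trans Ideal.mk_ker.le
    refine (Ideal.map_mono hbP).trans ?_
    rw [Ideal.map_map, IsLocalization.Away.lift_comp, IsScalarTower.algebraMap_eq R₀ A L, ← Ideal.map_map]
    refine (Ideal.map_mono hpA).trans (Ideal.map_le_iff_le_comap.2 fun x hx => ?_)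
    exact mem_nilradical.2 ((mem_nilradical.1 hx).map _)
  · letI : Algebra R₀ A' := ((algebraMap A A').comp (algebraMap R₀ A)).toAlgebra
    haveI : IsScalarTower R₀ A A' := .of_algebraMap_eq fun _ => rfl
    letI : Algebra S A' := ((algebraMap L A').comp σ).toAlgebra
    haveI : IsScalarTower R₀ S A' := .of_algebraMap_eq fun r => by
      show algebraMap A A' (algebraMap R₀ A r) = algebraMap L A' (σ (algebraMap R₀ S r))
      rw [IsLocalization.Away.lift_eq, IsScalarTower.algebraMap_apply R₀ A L, ← IsScalarTower.algebraMap_apply A L A']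
    have hP0 : ((p.map (algebraMap R₀ S)) ^ (N + 1)).map (algebraMap S A') = ⊥ := by
      rw [Ideal.map_pow, Ideal.map_map, ← IsScalarTower.algebraMap_eq, IsScalarTower.algebraMap_eq R₀ A A',
        ← Ideal.map_map, ← Ideal.map_pow, pow_succ, hN, Ideal.zero_eq_bot, Ideal.bot_mul, Ideal.map_bot]
    rw [Ideal.map_map, show (algebraMap L A').comp σ = algebraMap S A' from rfl, ← hb A' hP0]
    let e' : A' ⊗[R₀] Qk K J₀ 1 ≃ₗ[A'] A' ⊗[A] M :=
      (AlgebraTensorModule.cancelBaseChange R₀ A A' A' (Qk K J₀ 1)).symm.trans (e.baseChange A A' _ _)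
    exact ⟨fun _ => Module.Flat.of_linearEquiv e', fun _ => Module.Flat.of_linearEquiv e'.symm⟩

/-- Near the generic point of an irreducible base, flatness of a finitely presented module is cut out by a
finitely generated nil ideal. -/
theorem exists_flattening_ideal {A : Type u} [CommRing A] (hA : (nilradical A).IsPrime) (B : Type u) [CommRing B]
    [Algebra A B] [Algebra.FinitePresentation A B] (M : Type u) [AddCommGroup M] [Module B M] [Module A M]
    [IsScalarTower A B M] [Module.FinitePresentation B M] :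
    ∃ h₀ : A, ¬ IsNilpotent h₀ ∧ ∀ h : A, h₀ ∣ h → ∃ J : Ideal (Localization.Away h),
      J.FG ∧ J ≤ nilradical (Localization.Away h) ∧
      ∀ (A' : Type u) [CommRing A'] [Algebra (Localization.Away h) A'] [Algebra A A']
        [IsScalarTower A (Localization.Away h) A'],
        Module.Flat A' (A' ⊗[A] M) ↔ J.map (algebraMap (Localization.Away h) A') = ⊥ := by
  obtain ⟨R₀, hR₀, ⟨P⟩⟩ := exists_presentation (A := A) (B := B) (I := ⊥) (M := M) Submodule.fg_bot
  haveI : IsNoetherianRing R₀ :=
    haveI : Algebra.FiniteType ℤ R₀ := (Subalgebra.fg_iff_finiteType R₀).1 hR₀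
    Algebra.FiniteType.isNoetherianRing ℤ R₀
  obtain ⟨e⟩ := P.nonempty_equiv 1
  have hI : ((⊥ : Ideal B) ^ 1 • ⊤ : Submodule B M).restrictScalars A = ⊥ := by
    rw [pow_one, Submodule.bot_smul, Submodule.restrictScalars_bot]
  exact exists_flattening_of_model hA P.K P.J M (e.trans (Submodule.quotEquivOfEqBot _ hI))

end Groth.Agent.GrFlat5
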