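import Groth.Agent.GrFlat5.Piece
import Mathlib.RingTheory.IsTensorProduct

/-!
# Base change of the graded pieces
-/

set_option backward.isDefEq.respectTransparency false
set_option linter.style.haveILetI false

universe u

open TensorProduct

namespace Groth.Agent.GrFlat5

variable {B B' M M' : Type u} [CommRing B] [CommRing B'] [Algebra B B'] [AddCommGroup M] [Module B M]
  [AddCommGroup M'] [Module B M'] [Module B' M'] [IsScalarTower B B' M'] (f : M →ₗ[B] M') (J : Ideal B)

theorem map_mem_pow (k : ℕ) {m : M} (hm : m ∈ J ^ k • (⊤ : Submodule B M)) :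
    f m ∈ (J.map (algebraMap B B')) ^ k • (⊤ : Submodule B' M') := by
  refine Submodule.smul_induction_on hm (fun r hr y _ => ?_) fun x y hx hy => ?_
  · rw [map_smul, ← IsScalarTower.algebraMap_smul B' r (f y), ← Ideal.map_pow]
    exact Submodule.smul_mem_smul (Ideal.mem_map_of_mem _ hr) Submodule.mem_top
  · rw [map_add]
    exact add_mem hx hy

/-- The map induced on `M / Jᵏ M`. -/
noncomputable def quotMap (k : ℕ) :
    (M ⧸ (J ^ k • ⊤ : Submodule B M)) →ₗ[B] M' ⧸ ((J.map (algebraMap B B')) ^ k • ⊤ : Submodule B' M') :=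
  Submodule.liftQ _
    (((((J.map (algebraMap B B')) ^ k • ⊤ : Submodule B' M')).mkQ.restrictScalars B).comp f)
    fun _ hm => (Submodule.Quotient.mk_eq_zero _).2 (map_mem_pow (B' := B') f J k hm)

/-- The map induced on the graded pieces. -/
noncomputable def grMap (k : ℕ) : grPiece J M k →ₗ[B] grPiece (J.map (algebraMap B B')) M' k :=
  Submodule.liftQ _
    { toFun := fun m => Submodule.Quotient.mk ⟨f m, map_mem_pow (B' := B') f J k m.2⟩
      map_add' := fun x y => by
        rw [← Submodule.Quotient.mk_add]
        congr 1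
        exact Subtype.ext (map_add f _ _)
      map_smul' := fun b x => by
        rw [RingHom.id_apply, ← Submodule.Quotient.mk_smul]
        congr 1
        exact Subtype.ext (map_smul f b _) }
    fun _ hm => (Submodule.Quotient.mk_eq_zero _).2 (map_mem_pow (B' := B') f J (k + 1) hm)

/-- `B' ⊗ M/JᵏM = M'/Jᵏ M'`. -/
theorem bijective_quotMap (h : IsBaseChange B' f) (k : ℕ) :
    Function.Bijective ((quotMap (B' := B') f J k).liftBaseChange B') := by
  let T := B' ⊗[B] (M ⧸ (J ^ k • ⊤ : Submodule B M))
  let g₀ : M →ₗ[B] T := (TensorProduct.mk B B' (M ⧸ (J ^ k • ⊤ : Submodule B M)) 1).comp (Submodule.mkQ _)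
  let ψ₀ : M' →ₗ[B'] T := h.lift g₀
  have hψ : ∀ m, ψ₀ (f m) = (1 : B') ⊗ₜ Submodule.Quotient.mk m := fun m => h.lift_eq g₀ m
  have hkill : ∀ z : T, ∀ b ∈ (J ^ k).map (algebraMap B B'), b • z = 0 := by
    intro z b hb
    induction hb using Submodule.span_induction with
    | mem b hb =>
      obtain ⟨j, hj, rfl⟩ := hb
      rw [algebraMap_smul]
      induction z using TensorProduct.induction_on with
      | zero => simp
      | add x y hx hy => rw [smul_add, hx, hy, add_zero]
      | tmul c m =>
        obtain ⟨m, rfl⟩ := Submodule.mkQ_surjective _ m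
        rw [← TensorProduct.tmul_smul, ← map_smul, Submodule.mkQ_apply,
          (Submodule.Quotient.mk_eq_zero _).2 (Submodule.smul_mem_smul hj Submodule.mem_top), tmul_zero]
    | zero => simp
    | add x y _ _ hx hy => rw [add_smul, hx, hy, add_zero]
    | smul c x _ hx => rw [smul_eq_mul, mul_smul, hx, smul_zero]
  let ψ : (M' ⧸ ((J.map (algebraMap B B')) ^ k • ⊤ : Submodule B' M')) →ₗ[B'] T := Submodule.liftQ _ ψ₀ <| by
    rw [← Ideal.map_pow, Submodule.smul_le]
    intro b hb m _
    rw [LinearMap.mem_ker, map_smul]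
    exact hkill _ b hb
  have hl : ∀ z, ψ ((quotMap (B' := B') f J k).liftBaseChange B' z) = z := by
    intro z
    induction z using TensorProduct.induction_on with
    | zero => simp
    | add x y hx hy => rw [map_add, map_add, hx, hy]
    | tmul c m =>
      obtain ⟨m, rfl⟩ := Submodule.mkQ_surjective _ m
      rw [LinearMap.liftBaseChange_tmul, map_smul]
      show c • ψ₀ (f m) = _
      rw [hψ, TensorProduct.smul_tmul', smul_eq_mul, mul_one]
      rfl
  refine ⟨Function.LeftInverse.injective hl, fun y => ?_⟩
  obtain ⟨y, rfl⟩ := Submodule.mkQ_surjective _ y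
  induction y using h.inductionOn with
  | zero => exact ⟨0, by simp⟩
  | tmul m => exact ⟨(1 : B') ⊗ₜ Submodule.Quotient.mk m, by rw [LinearMap.liftBaseChange_tmul, one_smul]; rfl⟩
  | smul c m hm =>
    obtain ⟨z, hz⟩ := hm
    exact ⟨c • z, by rw [map_smul, hz, map_smul]⟩
  | add x y hx hy =>
    obtain ⟨a, ha⟩ := hx
    obtain ⟨b, hb⟩ := hy
    exact ⟨a + b, by rw [map_add, ha, hb, map_add]⟩

/-- `B' ⊗ gr M = gr M'`, provided the graded pieces stay inside after base change. -/
theorem bijective_grMap (h : IsBaseChange B' f) (k : ℕ)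
    (hinj : Function.Injective ((grIncl J M k).baseChange B')) :
    Function.Bijective ((grMap (B' := B') f J k).liftBaseChange B') := by
  have hcomm : ∀ z, grIncl (J.map (algebraMap B B')) M' k ((grMap (B' := B') f J k).liftBaseChange B' z) =
      (quotMap (B' := B') f J (k + 1)).liftBaseChange B' ((grIncl J M k).baseChange B' z) := by
    intro z
    induction z using TensorProduct.induction_on with
    | zero => simp
    | add x y hx hy => rw [map_add, map_add, map_add, map_add, hx, hy]
    | tmul c m =>
      obtain ⟨m, rfl⟩ := Submodule.mkQ_surjective _ m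
      rw [LinearMap.baseChange_tmul, LinearMap.liftBaseChange_tmul, LinearMap.liftBaseChange_tmul, map_smul]
      rfl
  have hproj : ∀ z, quotProj (J.map (algebraMap B B')) M' k ((quotMap (B' := B') f J (k + 1)).liftBaseChange B' z) =
      (quotMap (B' := B') f J k).liftBaseChange B' ((quotProj J M k).baseChange B' z) := by
    intro z
    induction z using TensorProduct.induction_on with
    | zero => simp
    | add x y hx hy => rw [map_add, map_add, map_add, map_add, hx, hy]
    | tmul c m =>
      obtain ⟨m, rfl⟩ := Submodule.mkQ_surjective _ m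
      rw [LinearMap.baseChange_tmul, LinearMap.liftBaseChange_tmul, LinearMap.liftBaseChange_tmul, map_smul]
      rfl
  refine ⟨fun x y hxy => ?_, fun y => ?_⟩
  · apply hinj
    apply (bijective_quotMap (B' := B') f J h (k + 1)).1
    rw [← hcomm, ← hcomm, hxy]
  · obtain ⟨z, hz⟩ := (bijective_quotMap (B' := B') f J h (k + 1)).2 (grIncl (J.map (algebraMap B B')) M' k y)
    have h0 : (quotProj J M k).baseChange B' z = 0 := by
      apply (bijective_quotMap (B' := B') f J h k).1
      rw [← hproj, hz, map_zero]
      exact (exact_gr (J.map (algebraMap B B')) M' k).apply_apply_eq_zero y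
    obtain ⟨w, rfl⟩ := (lTensor_exact B' (exact_gr J M k) (quotProj_surjective J M k) z).1 h0
    exact ⟨w, grIncl_injective _ M' k ((hcomm w).trans hz)⟩

end Groth.Agent.GrFlat5
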