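import Groth.Agent.GrFlat5.NormalFlatAux

/-!
# Openness of the normally flat locus: assembly
-/

set_option backward.isDefEq.respectTransparency false
set_option linter.style.haveILetI false

universe u

open TensorProduct MvPolynomial

namespace Groth.Agent.GrFlat5

/-- Openness of the normally flat locus, given a Noetherian model with flat quotients. -/
theorem isOpen_normallyFlat_of_model {R A B : Type u} [CommRing R] [IsNoetherianRing R] [CommRing A] [Algebra R A]
    [CommRing B] [Algebra A B] (J : Ideal B) (M : Type u) [AddCommGroup M] [Module B M] {a n : ℕ}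
    (φ : MvPolynomial (Fin n) A →+* B) (hφ : Function.Surjective φ)
    (π : (Fin a → MvPolynomial (Fin n) A) →+ M) (hπ : Function.Surjective π)
    (hπs : ∀ (p : MvPolynomial (Fin n) A) v, π (p • v) = φ p • π v)
    (K : Submodule (MvPolynomial (Fin n) R) (Fin a → MvPolynomial (Fin n) R))
    (hker : ∀ v, π v = 0 ↔ v ∈ Submodule.span (MvPolynomial (Fin n) A)
      ((fun (w : Fin a → MvPolynomial (Fin n) R) i => MvPolynomial.map (algebraMap R A) (w i)) '' K))
    (I : Ideal (MvPolynomial (Fin n) R)) (hI : (I.map (MvPolynomial.map (algebraMap R A))).map φ = J)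
    (hflat : ∀ k, Module.Flat R (((Fin a → MvPolynomial (Fin n) R) ⧸ K) ⧸
      (I ^ k • ⊤ : Submodule (MvPolynomial (Fin n) R) ((Fin a → MvPolynomial (Fin n) R) ⧸ K)))) :
    IsOpen {q : PrimeSpectrum B | J ≤ q.asIdeal → ∀ k : ℕ,
      Module.Flat (B ⧸ J) ((B ⧸ J) ⊗[B] LocalizedModule q.asIdeal.primeCompl (grPiece J M k))} := by
  letI : Algebra (MvPolynomial (Fin n) R) (MvPolynomial (Fin n) A) := MvPolynomial.algebraMvPolynomial
  letI : Algebra (MvPolynomial (Fin n) A) B := φ.toAlgebra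
  letI : Algebra (MvPolynomial (Fin n) R) B := (φ.comp (MvPolynomial.map (algebraMap R A))).toAlgebra
  haveI : IsScalarTower (MvPolynomial (Fin n) R) (MvPolynomial (Fin n) A) B := .of_algebraMap_eq fun _ => rfl
  letI : Module (MvPolynomial (Fin n) A) M := Module.compHom M φ
  haveI : IsScalarTower (MvPolynomial (Fin n) A) B M := .of_algebraMap_smul fun _ _ => rfl
  letI : Module (MvPolynomial (Fin n) R) M := Module.compHom M (φ.comp (MvPolynomial.map (algebraMap R A)))
  haveI : IsScalarTower (MvPolynomial (Fin n) R) B M := .of_algebraMap_smul fun _ _ => rfl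
  haveI : IsScalarTower (MvPolynomial (Fin n) R) (MvPolynomial (Fin n) A) M := .of_algebraMap_smul fun _ _ => rfl
  have hJR : I.map (algebraMap (MvPolynomial (Fin n) R) B) = J := by
    rw [← hI, Ideal.map_map]; rfl
  let π' : (Fin a → MvPolynomial (Fin n) A) →ₗ[MvPolynomial (Fin n) A] M :=
    { toFun := π, map_add' := map_add π, map_smul' := hπs }
  obtain ⟨f, hf⟩ := exists_isBaseChange_quot K π' hπ (Submodule.ext fun v => hker v)
  have hinj : ∀ k, Function.Injective ((grIncl I ((Fin a → MvPolynomial (Fin n) R) ⧸ K) k).baseChange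
      (MvPolynomial (Fin n) A)) := fun k =>
    injective_baseChange_grIncl (R := R) (A := A) I hflat k
  obtain ⟨S, _, _, _, N, _, _, _, _, _, s, r, hsr, hdec⟩ :=
    exists_cover_of_baseChange hφ I J hJR f hf hinj
  have hkill : ∀ k, ∀ j ∈ J, ∀ x : grPiece J M k, j • x = 0 := by
    intro k j hj x
    obtain ⟨x, rfl⟩ := Submodule.mkQ_surjective _ x
    refine (Submodule.Quotient.mk_eq_zero _).2 ?_
    show j • (x : M) ∈ J ^ (k + 1) • (⊤ : Submodule B M)
    rw [pow_succ', Submodule.mul_smul]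
    exact Submodule.smul_mem_smul hj x.2
  rw [isOpen_iff_forall_mem_open]
  intro q hq
  by_cases hJq : J ≤ q.asIdeal
  · let qb : Ideal (B ⧸ J) := q.asIdeal.map (Ideal.Quotient.mk J)
    have hcomap : qb.comap (Ideal.Quotient.mk J) = q.asIdeal := by
      rw [Ideal.comap_map_of_surjective (Ideal.Quotient.mk J) Ideal.Quotient.mk_surjective,
        ← RingHom.ker_eq_comap_bot, Ideal.mk_ker, sup_eq_left.2 hJq]
    haveI : qb.IsPrime := Ideal.map_isPrime_of_surjective Ideal.Quotient.mk_surjective (by rwa [Ideal.mk_ker])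
    have hW : q.asIdeal.primeCompl.map (Ideal.Quotient.mk J) ≤ qb.primeCompl := by
      rintro _ ⟨b, hb, rfl⟩ hbq
      exact hb (hcomap.le hbq)
    have hN : FlatAtW qb.primeCompl N := FlatAtW.of_decomposition s r hdec fun k =>
      ((flat_localized_iff_flatAtW (hkill k) _).1 (hq hJq k)).mono hW
    obtain ⟨g, hg, hgN⟩ := exists_flatAtW_powers (P := S) qb hN
    obtain ⟨g, rfl⟩ := Ideal.Quotient.mk_surjective g
    refine ⟨PrimeSpectrum.basicOpen g, fun q' hq' hJq' k => ?_, PrimeSpectrum.isOpen_basicOpen,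
      fun hgq => hg (Ideal.mem_map_of_mem _ hgq)⟩
    refine (flat_localized_iff_flatAtW (hkill k) _).2 ((hgN.of_retract (s k) (r k) (hsr k)).mono ?_)
    exact Submonoid.powers_le.2 ⟨g, hq', rfl⟩
  · exact ⟨(PrimeSpectrum.zeroLocus (J : Set B))ᶜ, fun q' hq' h => absurd h hq',
      (PrimeSpectrum.isClosed_zeroLocus _).isOpen_compl, hJq⟩

open FlatModel FlatStrat in
/-- **Openness of the normally flat locus.** -/
theorem isOpen_normallyFlat {A B : Type u} [CommRing A] [CommRing B] [Algebra A B]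
    [Algebra.FinitePresentation A B] (J : Ideal B) (hJ : J.FG) (M : Type u) [AddCommGroup M] [Module B M]
    [Module A M] [IsScalarTower A B M] [Module.FinitePresentation B M]
    (hgr : ∀ k, Module.Flat A (M ⧸ (J ^ k • ⊤ : Submodule B M))) :
    IsOpen {q : PrimeSpectrum B | J ≤ q.asIdeal → ∀ k : ℕ,
      Module.Flat (B ⧸ J) ((B ⧸ J) ⊗[B] LocalizedModule q.asIdeal.primeCompl (grPiece J M k))} := by
  obtain ⟨R₀, hR₀, ⟨P⟩⟩ := exists_presentation (A := A) (M := M) hJ
  haveI : Algebra.FiniteType ℤ R₀ := (Subalgebra.fg_iff_finiteType R₀).1 hR₀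
  haveI : IsNoetherianRing R₀ := Algebra.FiniteType.isNoetherianRing ℤ R₀
  have hC : ∀ k, FlatC (L P.K P.J k) A := fun k => by
    rw [← flat_Qk_iff]
    obtain ⟨e⟩ := P.nonempty_equiv k
    haveI := hgr k
    haveI : Module.Flat A (M ⧸ (J ^ k • ⊤ : Submodule B M).restrictScalars A) :=
      Module.Flat.of_linearEquiv (Submodule.Quotient.restrictScalarsEquiv A _)
    exact Module.Flat.of_linearEquiv e
  obtain ⟨R₁, hR₁, h₁⟩ := exists_fg_uniform P.K P.J hC
  haveI : Algebra.FiniteType R₀ R₁ := (Subalgebra.fg_iff_finiteType R₁).1 hR₁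
  haveI : IsNoetherianRing R₁ := Algebra.FiniteType.isNoetherianRing R₀ R₁
  have hKK : KK P.K A = Submodule.span (MvPolynomial (Fin P.n) A) (mapV (algebraMap R₁ A) '' KK P.K R₁) := by
    refine le_antisymm (Submodule.span_le.2 ?_) (Submodule.span_le.2 ?_)
    · rintro _ ⟨w, hw, rfl⟩
      rw [IsScalarTower.algebraMap_eq R₀ R₁ A, ← mapV_mapV]
      exact Submodule.subset_span ⟨_, mapL_mem_KK P.K hw, rfl⟩
    · rintro _ ⟨v, hv, rfl⟩
      refine Submodule.span_le.2 ?_ (mapV_mem_span (algebraMap R₁ A) hv)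
      rintro _ ⟨_, ⟨w, hw, rfl⟩, rfl⟩
      rw [mapV_mapV, ← IsScalarTower.algebraMap_eq]
      exact mapL_mem_KK P.K hw
  refine isOpen_normallyFlat_of_model (R := R₁) (A := A) J M P.φ.toRingHom P.φ_surj P.π.toAddMonoidHom P.π_surj
    P.π_smul (KK P.K R₁) (fun v => (P.ker_π v).trans (by rw [hKK]; rfl)) (JR P.J R₁) ?_
    (fun k => flat_quot_of_flatC P.K P.J k (h₁ k))
  refine Eq.trans ?_ P.map_J
  rw [JR, JR, Ideal.map_map _ (MvPolynomial.map (algebraMap R₁ A))]
  rw [show (MvPolynomial.map (algebraMap R₁ A)).comp (MvPolynomial.map (algebraMap R₀ R₁)) =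
    (MvPolynomial.map (algebraMap R₀ A) : MvPolynomial (Fin P.n) R₀ →+* MvPolynomial (Fin P.n) A) from
    RingHom.ext fun p => by rw [RingHom.comp_apply, MvPolynomial.map_map, ← IsScalarTower.algebraMap_eq]]
  rfl

end Groth.Agent.GrFlat5
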