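import Groth.Agent.GrFlat5.SpreadBase
import Groth.Agent.GrFlat5.Rees
import Groth.Agent.GrFlat5.GrBaseChange
import Groth.Agent.GrFlat5.Present
import Groth.Agent.W4Lib.Flat
import Mathlib.RingTheory.TensorProduct.MvPolynomial

/-!
# Openness of the normally flat locus

The graded pieces of a finitely presented module with flat quotients `M / Jᵏ M` are the base change of those of
a Noetherian model, hence summands of one finitely presented module over a finitely presented `(B/J)`-algebra.
-/

set_option backward.isDefEq.respectTransparency false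
set_option linter.style.haveILetI false

universe u

open TensorProduct

namespace Groth.Agent.GrFlat5

section criterion

variable {B X : Type u} [CommRing B] [AddCommGroup X] [Module B X] {J : Ideal B}

/-- Flatness over `B/J` of a localisation of a module killed by `J`, on elements. -/
theorem flat_localized_iff_flatAtW (hX : ∀ j ∈ J, ∀ x : X, j • x = 0) (W : Submonoid B) :
    Module.Flat (B ⧸ J) ((B ⧸ J) ⊗[B] LocalizedModule W X) ↔
      FlatAtW (W.map (Ideal.Quotient.mk J)) ((B ⧸ J) ⊗[B] X) := by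
  let mkX := LocalizedModule.mkLinearMap W X
  let f : (B ⧸ J) ⊗[B] X →ₗ[B ⧸ J] (B ⧸ J) ⊗[B] LocalizedModule W X := mkX.baseChange (B ⧸ J)
  have hsurj : ∀ (Y : Type u) [AddCommGroup Y] [Module B Y], Function.Surjective (TensorProduct.mk B (B ⧸ J) Y 1) :=
    fun Y _ _ => TensorProduct.mk_surjective B Y _ Ideal.Quotient.mk_surjective
  have hL : ∀ j ∈ J, ∀ z : LocalizedModule W X, j • z = 0 := by
    intro j hj z
    obtain ⟨⟨x, s⟩, hs⟩ := IsLocalizedModule.surj W mkX z
    apply IsLocalizedModule.smul_injective mkX s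
    show s • j • z = s • (0 : LocalizedModule W X)
    rw [smul_zero, smul_comm, hs, ← map_smul, hX j hj, map_zero]
  haveI : IsLocalizedModule (W.map (Ideal.Quotient.mk J)) f := by
    refine ⟨?_, fun z => ?_, ?_⟩
    · rintro ⟨_, t, ht, rfl⟩
      obtain ⟨u, hu⟩ := IsLocalizedModule.map_units mkX ⟨t, ht⟩
      rw [Module.End.isUnit_iff]
      have key : ∀ z : (B ⧸ J) ⊗[B] LocalizedModule W X,
          (algebraMap (B ⧸ J) (Module.End (B ⧸ J) _) (Ideal.Quotient.mk J t)) z =
            (u : Module.End B (LocalizedModule W X)).lTensor (B ⧸ J) z := by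
        intro z
        obtain ⟨y, rfl⟩ := hsurj _ z
        rw [Module.algebraMap_end_apply, ← Ideal.Quotient.algebraMap_eq, algebraMap_smul, TensorProduct.mk_apply,
          LinearMap.lTensor_tmul, ← TensorProduct.tmul_smul, hu]
        rfl
      rw [funext key]
      refine Function.bijective_iff_has_inverse.2
        ⟨(↑u⁻¹ : Module.End B (LocalizedModule W X)).lTensor (B ⧸ J), fun z => ?_, fun z => ?_⟩
      · rw [← LinearMap.comp_apply, ← LinearMap.lTensor_comp, ← Module.End.mul_eq_comp, Units.inv_mul,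
          Module.End.one_eq_id, LinearMap.lTensor_id, LinearMap.id_apply]
      · rw [← LinearMap.comp_apply, ← LinearMap.lTensor_comp, ← Module.End.mul_eq_comp, Units.mul_inv,
          Module.End.one_eq_id, LinearMap.lTensor_id, LinearMap.id_apply]
    · obtain ⟨y, rfl⟩ := hsurj _ z
      obtain ⟨⟨x, t⟩, hxt⟩ := IsLocalizedModule.surj W mkX y
      refine ⟨((1 : B ⧸ J) ⊗ₜ x, ⟨Ideal.Quotient.mk J t, t, t.2, rfl⟩), ?_⟩
      show Ideal.Quotient.mk J (t : B) • ((1 : B ⧸ J) ⊗ₜ[B] y) = f ((1 : B ⧸ J) ⊗ₜ x)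
      rw [← Ideal.Quotient.algebraMap_eq, algebraMap_smul, ← TensorProduct.tmul_smul]
      exact congrArg ((1 : B ⧸ J) ⊗ₜ[B] ·) hxt
    · intro a b hab
      obtain ⟨x, rfl⟩ := hsurj _ a
      obtain ⟨y, rfl⟩ := hsurj _ b
      have h1 : ((1 : B ⧸ J) ⊗ₜ[B] (mkX x - mkX y)) = 0 := by
        rw [TensorProduct.tmul_sub, sub_eq_zero]; exact hab
      have h2 := congrArg (TensorProduct.quotTensorEquivQuotSMul (LocalizedModule W X) J) h1
      rw [map_zero, show (1 : B ⧸ J) = Ideal.Quotient.mk J 1 from rfl,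
        TensorProduct.quotTensorEquivQuotSMul_mk_tmul, one_smul, Submodule.Quotient.mk_eq_zero] at h2
      have h3 : mkX x = mkX y := by
        rw [← sub_eq_zero]
        refine Submodule.smul_induction_on h2 (fun j hj z _ => hL j hj z) fun a b ha hb => ?_
        rw [ha, hb, add_zero]
      obtain ⟨c, hc⟩ := IsLocalizedModule.exists_of_eq (S := W) (f := mkX) h3
      refine ⟨⟨Ideal.Quotient.mk J c, c, c.2, rfl⟩, ?_⟩
      show Ideal.Quotient.mk J (c : B) • ((1 : B ⧸ J) ⊗ₜ[B] x) = Ideal.Quotient.mk J (c : B) • ((1 : B ⧸ J) ⊗ₜ[B] y)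
      rw [← Ideal.Quotient.algebraMap_eq, algebraMap_smul, algebraMap_smul, ← TensorProduct.tmul_smul,
        ← TensorProduct.tmul_smul]
      exact congrArg ((1 : B ⧸ J) ⊗ₜ[B] ·) hc
  exact (flatAtW_iff _ f).symm

end criterion

section cover

attribute [local instance] Algebra.TensorProduct.rightAlgebra

variable {PR PA B MR M : Type u} [CommRing PR] [IsNoetherianRing PR] [CommRing PA] [CommRing B] [Algebra PR PA]
  [Algebra PA B] [Algebra PR B] [IsScalarTower PR PA B] [AddCommGroup MR] [Module PR MR] [Module.Finite PR MR]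
  [AddCommGroup M] [Module B M] [Module PA M] [Module PR M] [IsScalarTower PA B M] [IsScalarTower PR PA M]
  [IsScalarTower PR B M]

/-- The pieces of a base change of a Noetherian model are summands of a finitely presented module. -/
theorem exists_cover_of_baseChange (hB : Function.Surjective (algebraMap PA B)) (JR : Ideal PR) (J : Ideal B)
    (hJ : JR.map (algebraMap PR B) = J) (f : MR →ₗ[PR] M) (hf : IsBaseChange PA f)
    (hinj : ∀ k, Function.Injective ((grIncl JR MR k).baseChange PA)) :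
    ∃ (S : Type u) (_ : CommRing S) (_ : Algebra (B ⧸ J) S) (_ : Algebra.FinitePresentation (B ⧸ J) S)
      (N : Type u) (_ : AddCommGroup N) (_ : Module S N) (_ : Module (B ⧸ J) N) (_ : IsScalarTower (B ⧸ J) S N)
      (_ : Module.FinitePresentation S N)
      (s : ∀ k, (B ⧸ J) ⊗[B] grPiece J M k →ₗ[B ⧸ J] N) (r : ∀ k, N →ₗ[B ⧸ J] (B ⧸ J) ⊗[B] grPiece J M k),
      (∀ k, r k ∘ₗ s k = LinearMap.id) ∧
        ∀ e, ∃ L : ℕ, ∀ L' ≥ L, (∑ k ∈ Finset.range L', s k (r k e)) = e := by
  let CR := PR ⧸ JR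
  let C := B ⧸ J
  letI : Algebra CR C := (Ideal.quotientMap J (algebraMap PR B) (Ideal.map_le_iff_le_comap.1 hJ.le)).toAlgebra
  haveI : IsScalarTower PR CR C := .of_algebraMap_eq fun _ => rfl
  have htors : ∀ k, Module.IsTorsionBySet PR (grPiece JR MR k) JR := fun k =>
    (Module.isTorsionBySet_quotient_iff _ _).2 fun x j hj => by
      show j • (x : MR) ∈ JR ^ (k + 1) • (⊤ : Submodule PR MR)
      rw [pow_succ', Submodule.mul_smul]
      exact Submodule.smul_mem_smul hj x.2
  letI : ∀ k, Module CR (grPiece JR MR k) := fun k => (htors k).module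
  haveI : ∀ k, IsScalarTower PR CR (grPiece JR MR k) := fun k => (htors k).isScalarTower
  haveI : IsNoetherianRing CR := Ideal.Quotient.isNoetherianRing JR
  obtain ⟨S₀, _, _, _, E, _, _, _, _, _, s₀, r₀, hsr, hdec⟩ := exists_graded_cover JR MR
  haveI : IsNoetherianRing S₀ := Algebra.FiniteType.isNoetherianRing CR S₀
  haveI : Algebra.FinitePresentation CR S₀ := Algebra.FinitePresentation.of_finiteType.1 inferInstance
  haveI : Module.FinitePresentation S₀ E := Module.finitePresentation_of_finite S₀ E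
  -- the pieces
  let JA := JR.map (algebraMap PR PA)
  have hJA : JA.map (algebraMap PA B) = J := by rw [Ideal.map_map, ← IsScalarTower.algebraMap_eq, hJ]
  have hmem : ∀ (k : ℕ) (m : M), m ∈ JA ^ k • (⊤ : Submodule PA M) ↔ m ∈ J ^ k • (⊤ : Submodule B M) := by
    intro k m
    constructor
    · intro hm
      have := map_mem_pow (B' := B) (LinearMap.id : M →ₗ[PA] M) JA k hm
      rwa [hJA] at this
    · intro hm
      refine Submodule.smul_induction_on hm (fun b hb y _ => ?_) fun x y hx hy => add_mem hx hy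
      rw [← hJA, ← Ideal.map_pow] at hb
      obtain ⟨b, hb', rfl⟩ := (Ideal.mem_map_iff_of_surjective _ hB).1 hb
      rw [algebraMap_smul]
      exact Submodule.smul_mem_smul hb' Submodule.mem_top
  let ι : ∀ k, grPiece JA M k →ₗ[PA] grPiece J M k := fun k => Submodule.liftQ _
    { toFun := fun m => Submodule.Quotient.mk ⟨(m : M), (hmem k m).1 m.2⟩
      map_add' := fun x y => rfl
      map_smul' := fun b x => by
        rw [RingHom.id_apply, ← Submodule.Quotient.mk_smul]
        rfl }
    fun m hm => (Submodule.Quotient.mk_eq_zero _).2 ((hmem (k + 1) m).1 hm)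
  have hι : ∀ k, Function.Bijective (ι k) := fun k => by
    refine ⟨?_, fun y => ?_⟩
    · rw [injective_iff_map_eq_zero]
      intro x hx
      obtain ⟨x, rfl⟩ := Submodule.mkQ_surjective _ x
      exact (Submodule.Quotient.mk_eq_zero _).2 ((hmem (k + 1) (x : M)).2
        ((Submodule.Quotient.mk_eq_zero (Submodule.comap (J ^ k • (⊤ : Submodule B M)).subtype (J ^ (k + 1) • ⊤))).1 hx))
    · obtain ⟨y, rfl⟩ := Submodule.mkQ_surjective _ y
      exact ⟨Submodule.Quotient.mk ⟨y, (hmem k y).2 y.2⟩, rfl⟩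
  let Θ : ∀ k, PA ⊗[PR] grPiece JR MR k →ₗ[PA] grPiece J M k := fun k =>
    ι k ∘ₗ (grMap (B' := PA) f JR k).liftBaseChange PA
  have hΘ : ∀ k, Function.Bijective (Θ k) := fun k => (hι k).comp (bijective_grMap f JR hf k (hinj k))
  let γ : ∀ k, grPiece JR MR k →ₗ[PR] grPiece J M k := fun k =>
    ((Θ k).restrictScalars PR).comp (TensorProduct.mk PR PA (grPiece JR MR k) 1)
  have hΘγ : ∀ k p x, Θ k (p ⊗ₜ x) = p • γ k x := fun k p x => by
    show Θ k (p ⊗ₜ x) = p • Θ k ((1 : PA) ⊗ₜ x)
    rw [← map_smul, TensorProduct.smul_tmul', smul_eq_mul, mul_one]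
  have hPR : Function.Surjective (algebraMap PR CR) := Ideal.Quotient.mk_surjective
  let Γ : ∀ k, C ⊗[CR] grPiece JR MR k →ₗ[C] C ⊗[B] grPiece J M k := fun k =>
    (LinearMap.extendScalarsOfSurjective hPR
      (((TensorProduct.mk B C (grPiece J M k) 1).restrictScalars PR).comp (γ k))).liftBaseChange C
  let ρ : ∀ k, PA ⊗[PR] grPiece JR MR k →ₗ[PA] C ⊗[CR] grPiece JR MR k := fun k =>
    ((TensorProduct.mk CR C (grPiece JR MR k) 1).restrictScalars PR).liftBaseChange PA
  let Δ : ∀ k, grPiece J M k →ₗ[B] C ⊗[CR] grPiece JR MR k := fun k =>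
    LinearMap.extendScalarsOfSurjective hB ((ρ k).comp (LinearEquiv.ofBijective (Θ k) (hΘ k)).symm.toLinearMap)
  let Ψ : ∀ k, C ⊗[B] grPiece J M k →ₗ[C] C ⊗[CR] grPiece JR MR k := fun k => (Δ k).liftBaseChange C
  have hΔ : ∀ k z, Δ k (Θ k z) = ρ k z := fun k z =>
    congrArg (ρ k) ((LinearEquiv.ofBijective (Θ k) (hΘ k)).symm_apply_apply z)
  have hΨΓ : ∀ k z, Ψ k (Γ k z) = z := by
    intro k z
    induction z using TensorProduct.induction_on with
    | zero => simp
    | add x y hx hy => rw [map_add, map_add, hx, hy]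
    | tmul c x =>
      show (Δ k).liftBaseChange C (c • ((1 : C) ⊗ₜ[B] γ k x)) = _
      rw [map_smul, LinearMap.liftBaseChange_tmul, one_smul]
      show c • Δ k (Θ k ((1 : PA) ⊗ₜ x)) = _
      rw [hΔ]
      show c • ((ρ k) ((1 : PA) ⊗ₜ x)) = _
      rw [LinearMap.liftBaseChange_tmul, one_smul]
      show c • ((1 : C) ⊗ₜ[CR] x) = _
      rw [TensorProduct.smul_tmul', smul_eq_mul, mul_one]
  have hΓΨ : ∀ k z, Γ k (Ψ k z) = z := by
    intro k z
    induction z using TensorProduct.induction_on with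
    | zero => simp
    | add x y hx hy => rw [map_add, map_add, hx, hy]
    | tmul c y =>
      obtain ⟨w, rfl⟩ := (hΘ k).2 y
      show Γ k ((Δ k).liftBaseChange C (c ⊗ₜ Θ k w)) = _
      rw [LinearMap.liftBaseChange_tmul, map_smul, hΔ]
      have : Γ k (ρ k w) = (1 : C) ⊗ₜ[B] Θ k w := by
        induction w using TensorProduct.induction_on with
        | zero => simp
        | add x y hx hy => rw [map_add, map_add, map_add, hx, hy, TensorProduct.tmul_add]
        | tmul p x =>
          rw [hΘγ, TensorProduct.tmul_smul, LinearMap.liftBaseChange_tmul]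
          show Γ k (p • ((1 : C) ⊗ₜ[CR] x)) = p • ((1 : C) ⊗ₜ[B] γ k x)
          rw [← IsScalarTower.algebraMap_smul C p, map_smul, IsScalarTower.algebraMap_smul]
          congr 1
          show (1 : C) • ((1 : C) ⊗ₜ[B] γ k x) = _
          rw [one_smul]
      rw [this, TensorProduct.smul_tmul', smul_eq_mul, mul_one]
  let e : ∀ k, C ⊗[CR] grPiece JR MR k ≃ₗ[C] C ⊗[B] grPiece J M k := fun k =>
    LinearEquiv.ofLinearMap (Γ k) (Ψ k) (LinearMap.ext (hΓΨ k)) (LinearMap.ext (hΨΓ k))
  -- the module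
  let T := C ⊗[CR] S₀
  let N := T ⊗[S₀] E
  let eN : N ≃ₗ[C] C ⊗[CR] E := Algebra.IsPushout.cancelBaseChange CR C S₀ T E
  refine ⟨T, inferInstance, inferInstance, inferInstance, N, inferInstance, inferInstance, inferInstance,
    inferInstance, inferInstance, fun k => eN.symm.toLinearMap ∘ₗ (s₀ k).baseChange C ∘ₗ (e k).symm.toLinearMap,
    fun k => (e k).toLinearMap ∘ₗ (r₀ k).baseChange C ∘ₗ eN.toLinearMap, fun k => LinearMap.ext fun x => ?_,
    fun z => ?_⟩
  · show e k ((r₀ k).baseChange C (eN (eN.symm ((s₀ k).baseChange C ((e k).symm x))))) = x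
    rw [LinearEquiv.apply_symm_apply, ← LinearMap.comp_apply, ← LinearMap.baseChange_comp, hsr k,
      LinearMap.baseChange_id, LinearMap.id_apply, LinearEquiv.apply_symm_apply]
  · obtain ⟨L, hL⟩ : ∃ L, ∀ L' ≥ L, (∑ k ∈ Finset.range L', (s₀ k).baseChange C ((r₀ k).baseChange C (eN z))) = eN z := by
      generalize eN z = y
      induction y using TensorProduct.induction_on with
      | zero => exact ⟨0, fun _ _ => by simp⟩
      | tmul c x =>
        obtain ⟨L, hL⟩ := hdec x
        refine ⟨L, fun L' hL' => ?_⟩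
        show (∑ k ∈ Finset.range L', c ⊗ₜ[CR] s₀ k (r₀ k x)) = c ⊗ₜ[CR] x
        rw [← TensorProduct.tmul_sum, hL L' hL']
      | add a b ha hb =>
        obtain ⟨L, hL⟩ := ha
        obtain ⟨L₂, hL₂⟩ := hb
        refine ⟨max L L₂, fun L' hL' => ?_⟩
        simp only [map_add, Finset.sum_add_distrib]
        rw [hL L' ((le_max_left _ _).trans hL'), hL₂ L' ((le_max_right _ _).trans hL')]
    refine ⟨L, fun L' hL' => ?_⟩
    show (∑ k ∈ Finset.range L',
      eN.symm ((s₀ k).baseChange C ((e k).symm (e k ((r₀ k).baseChange C (eN z)))))) = z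
    simp only [LinearEquiv.symm_apply_apply]
    rw [← map_sum, hL L' hL', LinearEquiv.symm_apply_apply]

end cover

section lemmas

/-- A quotient of a free module base changes to the quotient by the extended relations. -/
theorem exists_isBaseChange_quot {PR PA M : Type u} [CommRing PR] [CommRing PA] [Algebra PR PA] [AddCommGroup M]
    [Module PA M] [Module PR M] [IsScalarTower PR PA M] {a : ℕ} (K : Submodule PR (Fin a → PR))
    (π : (Fin a → PA) →ₗ[PA] M) (hπ : Function.Surjective π)
    (hker : LinearMap.ker π = Submodule.span PA ((fun (v : Fin a → PR) i => algebraMap PR PA (v i)) '' K)) :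
    ∃ f : ((Fin a → PR) ⧸ K) →ₗ[PR] M, IsBaseChange PA f := by
  let m : (Fin a → PR) →ₗ[PR] (Fin a → PA) := (Algebra.linearMap PR PA).compLeft (Fin a)
  have hm : ∀ v i, m v i = algebraMap PR PA (v i) := fun _ _ => rfl
  let π₀ : (Fin a → PR) →ₗ[PR] M := (π.restrictScalars PR).comp m
  have hπ₀ : K ≤ LinearMap.ker π₀ := fun v hv =>
    hker.ge (Submodule.subset_span ⟨v, hv, rfl⟩)
  let f := K.liftQ π₀ hπ₀
  let ψ₀ : (Fin a → PA) →ₗ[PA] PA ⊗[PR] ((Fin a → PR) ⧸ K) :=
    (Pi.basisFun PA (Fin a)).constr PA fun i => (1 : PA) ⊗ₜ Submodule.Quotient.mk (Pi.single i 1)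
  have hψ₀ : ∀ v, ψ₀ (m v) = (1 : PA) ⊗ₜ Submodule.Quotient.mk v := by
    have h : (ψ₀.restrictScalars PR).comp m = (TensorProduct.mk PR PA _ 1).comp K.mkQ := by
      refine (Pi.basisFun PR (Fin a)).ext fun i => ?_
      have e : m (Pi.basisFun PR (Fin a) i) = Pi.basisFun PA (Fin a) i := by
        ext l
        by_cases hl : l = i
        · subst hl; simp [hm]
        · simp [hm, hl]
      rw [LinearMap.comp_apply, LinearMap.restrictScalars_apply, e, Module.Basis.constr_basis, Pi.basisFun_apply]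
      rfl
    exact fun v => LinearMap.congr_fun h v
  have hψK : ∀ v, π v = 0 → ψ₀ v = 0 := by
    intro v hv
    refine (Submodule.span_le (p := LinearMap.ker ψ₀)).2 ?_ (hker.le hv)
    rintro _ ⟨w, hw, rfl⟩
    show ψ₀ (m w) = 0
    rw [hψ₀, (Submodule.Quotient.mk_eq_zero K).2 hw, TensorProduct.tmul_zero]
  have hψs : Function.Surjective ψ₀ := by
    intro z
    induction z using TensorProduct.induction_on with
    | zero => exact ⟨0, map_zero _⟩
    | tmul c x =>
      obtain ⟨x, rfl⟩ := Submodule.mkQ_surjective _ x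
      exact ⟨c • m x, by rw [map_smul, hψ₀, TensorProduct.smul_tmul', smul_eq_mul, mul_one]; rfl⟩
    | add x y hx hy =>
      obtain ⟨p, rfl⟩ := hx
      obtain ⟨q, rfl⟩ := hy
      exact ⟨p + q, map_add _ _ _⟩
  have hfψ : ∀ v, f.liftBaseChange PA (ψ₀ v) = π v := by
    have h : (f.liftBaseChange PA).comp ψ₀ = π := (Pi.basisFun PA (Fin a)).ext fun i => by
      rw [LinearMap.comp_apply, Module.Basis.constr_basis, LinearMap.liftBaseChange_tmul, one_smul]
      show π (m (Pi.single i 1)) = _
      congr 1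
      ext l
      by_cases hl : l = i
      · subst hl; simp [hm]
      · simp [hm, hl]
    exact fun v => LinearMap.congr_fun h v
  refine ⟨f, IsBaseChange.of_equiv (LinearEquiv.ofBijective (f.liftBaseChange PA) ⟨fun x y hxy => ?_, fun z => ?_⟩)
    fun x => by rw [LinearEquiv.ofBijective_apply, LinearMap.liftBaseChange_tmul, one_smul]⟩
  · obtain ⟨v, rfl⟩ := hψs x
    obtain ⟨w, rfl⟩ := hψs y
    rw [hfψ, hfψ] at hxy
    rw [← sub_eq_zero, ← map_sub]
    exact hψK _ (by rw [map_sub, hxy, sub_self])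
  · obtain ⟨v, rfl⟩ := hπ z
    exact ⟨ψ₀ v, hfψ v⟩

/-- Flat quotients keep the graded pieces inside after base change. -/
theorem injective_baseChange_grIncl {R A PR PA MR : Type u} [CommRing R] [CommRing A] [Algebra R A] [CommRing PR]
    [CommRing PA] [Algebra R PR] [Algebra A PA] [Algebra R PA] [Algebra PR PA] [IsScalarTower R A PA]
    [IsScalarTower R PR PA] [Algebra.IsPushout R A PR PA] [AddCommGroup MR] [Module PR MR] [Module R MR]
    [IsScalarTower R PR MR] (J : Ideal PR)
    (hflat : ∀ k, Module.Flat R (MR ⧸ (J ^ k • ⊤ : Submodule PR MR))) (k : ℕ) :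
    Function.Injective ((grIncl J MR k).baseChange PA) := by
  haveI := hflat k
  have hl : Function.Injective (((grIncl J MR k).restrictScalars R).lTensor A) :=
    W4Lib.lTensor_injective_of_flat_quotient (M₁ := grPiece J MR k)
      (M₂ := MR ⧸ (J ^ (k + 1) • ⊤ : Submodule PR MR)) (M₃ := MR ⧸ (J ^ k • ⊤ : Submodule PR MR))
      (f := (grIncl J MR k).restrictScalars R) (g := (quotProj J MR k).restrictScalars R)
      (grIncl_injective J MR k) (exact_gr J MR k) (quotProj_surjective J MR k) A
  let e₁ := Algebra.IsPushout.cancelBaseChange R A PR PA (grPiece J MR k)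
  let e₂ := Algebra.IsPushout.cancelBaseChange R A PR PA (MR ⧸ (J ^ (k + 1) • ⊤ : Submodule PR MR))
  have hnat : ∀ y, (grIncl J MR k).baseChange PA (e₁.symm y) =
      e₂.symm (((grIncl J MR k).restrictScalars R).lTensor A y) := by
    intro y
    induction y using TensorProduct.induction_on with
    | zero => simp
    | add x y hx hy => rw [map_add, map_add, map_add, map_add, hx, hy]
    | tmul a x =>
      rw [Algebra.IsPushout.cancelBaseChange_symm_tmul, LinearMap.baseChange_tmul, LinearMap.lTensor_tmul,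
        Algebra.IsPushout.cancelBaseChange_symm_tmul]
      rfl
  intro x y hxy
  obtain ⟨x, rfl⟩ := e₁.symm.surjective x
  obtain ⟨y, rfl⟩ := e₁.symm.surjective y
  rw [hnat, hnat] at hxy
  rw [hl (e₂.symm.injective hxy)]

open MvPolynomial FlatModel FlatStrat in
theorem flat_quot_of_flatC {a n : ℕ} {R₀ : Type u} [CommRing R₀]
    (K : Submodule (MvPolynomial (Fin n) R₀) (V a n R₀)) (J : Ideal (MvPolynomial (Fin n) R₀))
    {R : Type u} [CommRing R] [Algebra R₀ R] (k : ℕ) (h : FlatC (L K J k) R) :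
    Module.Flat R ((V a n R ⧸ KK K R) ⧸
      (JR J R ^ k • ⊤ : Submodule (MvPolynomial (Fin n) R) (V a n R ⧸ KK K R))) := by
  let q : V a n R →ₗ[R] (V a n R ⧸ KK K R) ⧸ (JR J R ^ k • ⊤ : Submodule _ (V a n R ⧸ KK K R)) :=
    ((Submodule.mkQ _).comp (KK K R).mkQ).restrictScalars R
  have hq : Function.Surjective q := (Submodule.mkQ_surjective _).comp (Submodule.mkQ_surjective _)
  have hker : (KK (L K J k) R).restrictScalars R = LinearMap.ker q := by
    ext x
    rw [Submodule.restrictScalars_mem, KK_L, sup_comm, LinearMap.mem_ker]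
    show _ ↔ ((JR J R ^ k • ⊤ : Submodule _ (V a n R ⧸ KK K R)).mkQ ((KK K R).mkQ x)) = 0
    rw [Submodule.mkQ_apply, Submodule.Quotient.mk_eq_zero, ← Submodule.range_mkQ (KK K R),
      LinearMap.range_eq_map, ← Submodule.map_smul'', ← Submodule.mem_comap, Submodule.comap_map_eq,
      Submodule.ker_mkQ]
  haveI := (flatC_iff_flat (L K J k)).1 h
  haveI : Module.Flat R (Quot' (L K J k) R) :=
    Module.Flat.of_linearEquiv (Submodule.Quotient.restrictScalarsEquiv R (KK (L K J k) R))
  exact Module.Flat.of_linearEquiv ((Submodule.quotEquivOfEq _ _ hker).trans (q.quotKerEquivOfSurjective hq)).symm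

end lemmas

end Groth.Agent.GrFlat5
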