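import Groth.Agent.GrFlat5.Universal
import Groth.Agent.FlatSyz5.GenFreeNil
import Groth.Agent.GenFree.Basic
import Mathlib.RingTheory.Filtration

/-!
# Generic projectivity of all `M / Jᵏ M`

Generic freeness applied to the associated graded module, seen as a quotient of the Rees module over the Rees
algebra.
-/

set_option backward.isDefEq.respectTransparency false
set_option backward.isDefEq.respectTransparency.types false
set_option linter.style.haveILetI false

universe u

open TensorProduct

namespace Groth.Agent.GrFlat5

/-- An extension of projective modules is projective. -/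
theorem projective_of_exact {R M₁ M₂ M₃ : Type u} [CommRing R] [AddCommGroup M₁] [Module R M₁] [AddCommGroup M₂]
    [Module R M₂] [AddCommGroup M₃] [Module R M₃] [Module.Projective R M₁] [Module.Projective R M₃]
    {f : M₁ →ₗ[R] M₂} {g : M₂ →ₗ[R] M₃} (hf : Function.Injective f) (hfg : Function.Exact f g)
    (hg : Function.Surjective g) : Module.Projective R M₂ := by
  obtain ⟨l, hl⟩ := Module.projective_lifting_property g LinearMap.id hg
  obtain ⟨e, -, -⟩ := hfg.splitSurjectiveEquiv hf ⟨l, hl⟩
  exact Module.Projective.of_equiv e.symm

variable {R B M : Type u} [CommRing R] [CommRing B] [Algebra R B] [AddCommGroup M] [Module B M] [Module R M]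
  [IsScalarTower R B M] (J : Ideal B)

/-- The degree `k` piece of the associated graded module. -/
abbrev grPiece (M : Type u) [AddCommGroup M] [Module B M] (k : ℕ) : Type u :=
  ↥(J ^ k • (⊤ : Submodule B M)) ⧸ Submodule.comap (J ^ k • (⊤ : Submodule B M)).subtype (J ^ (k + 1) • ⊤)

/-- The inclusion of a graded piece. -/
noncomputable def grIncl (M : Type u) [AddCommGroup M] [Module B M] (k : ℕ) :
    grPiece J M k →ₗ[B] M ⧸ (J ^ (k + 1) • ⊤ : Submodule B M) :=
  Submodule.mapQ _ _ (J ^ k • (⊤ : Submodule B M)).subtype le_rfl

theorem grIncl_injective (M : Type u) [AddCommGroup M] [Module B M] (k : ℕ) :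
    Function.Injective (grIncl J M k) := by
  rw [injective_iff_map_eq_zero]
  intro x hx
  obtain ⟨y, rfl⟩ := Submodule.mkQ_surjective _ x
  exact (Submodule.Quotient.mk_eq_zero _).2 ((Submodule.Quotient.mk_eq_zero (J ^ (k + 1) • ⊤)).1 hx)

/-- The projection `M/J^{k+1} → M/J^k`. -/
noncomputable def quotProj (M : Type u) [AddCommGroup M] [Module B M] (k : ℕ) :
    (M ⧸ (J ^ (k + 1) • ⊤ : Submodule B M)) →ₗ[B] M ⧸ (J ^ k • ⊤ : Submodule B M) :=
  Submodule.factor (Submodule.smul_mono_left (Ideal.pow_le_pow_right k.le_succ))

theorem exact_gr (M : Type u) [AddCommGroup M] [Module B M] (k : ℕ) :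
    Function.Exact (grIncl J M k) (quotProj J M k) := by
  intro y
  obtain ⟨m, rfl⟩ := Submodule.mkQ_surjective _ y
  constructor
  · intro hm
    have hm' : m ∈ J ^ k • (⊤ : Submodule B M) := (Submodule.Quotient.mk_eq_zero _).1 hm
    exact ⟨Submodule.Quotient.mk ⟨m, hm'⟩, rfl⟩
  · rintro ⟨x, hx⟩
    obtain ⟨z, rfl⟩ := Submodule.mkQ_surjective _ x
    rw [← hx]
    exact (Submodule.Quotient.mk_eq_zero _).2 z.2

theorem quotProj_surjective (M : Type u) [AddCommGroup M] [Module B M] (k : ℕ) :
    Function.Surjective (quotProj J M k) := fun y => by
  obtain ⟨m, rfl⟩ := Submodule.mkQ_surjective _ y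
  exact ⟨Submodule.Quotient.mk m, rfl⟩

/-- **Generic projectivity of all `M / Jᵏ M`.** -/
theorem exists_projective_quot [IsDomain R] [IsNoetherianRing R] [Algebra.FiniteType R B] [Module.Finite B M] :
    ∃ f : R, f ≠ 0 ∧ ∀ (T : Type u) [CommRing T] [Algebra R T], IsUnit (algebraMap R T f) →
      ∀ k, Module.Projective T (T ⊗[R] (M ⧸ (J ^ k • ⊤ : Submodule B M))) := by
  haveI : IsNoetherianRing B := Algebra.FiniteType.isNoetherianRing R B
  let F := J.stableFiltration (⊤ : Submodule B M)
  have hF : F.submodule.FG :=
    (F.submodule_fg_iff_stable fun i => IsNoetherian.noetherian _).2 (J.stableFiltration_stable _)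
  haveI : Module.Finite (reesAlgebra J) F.submodule := Module.Finite.iff_fg.2 hF
  let S := ↥(reesAlgebra J)
  letI : CommRing S := (reesAlgebra J).toCommRing
  letI : Module S F.submodule := F.submodule.module
  let N : Submodule S F.submodule := (J.map (algebraMap B (reesAlgebra J)) : Ideal S) • ⊤
  let E := F.submodule ⧸ N
  haveI : Module.Finite S F.submodule := ‹Module.Finite (reesAlgebra J) F.submodule›
  haveI : Module.Finite S E := Module.Finite.of_surjective _ N.mkQ_surjective
  letI : Algebra R S := ((algebraMap B (reesAlgebra J)).comp (algebraMap R B)).toAlgebra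
  haveI : IsScalarTower R B S := .of_algebraMap_eq fun _ => rfl
  haveI : Algebra.FiniteType R S := Algebra.FiniteType.trans (S := B) inferInstance inferInstance
  letI : Module R E := Module.compHom E (algebraMap R S)
  haveI : IsScalarTower R S E := .of_algebraMap_smul fun _ _ => rfl
  obtain ⟨f, hf, ι, φ, hφ, hr⟩ := GenFree.exists_gfree (R := R) (M := E) S
  let T := Localization.Away f
  suffices main : ∀ k, Module.Projective T (T ⊗[R] (M ⧸ (J ^ k • ⊤ : Submodule B M))) by
    refine ⟨f, hf, fun T' _ _ hu k => ?_⟩
    letI : Algebra T T' := (IsLocalization.Away.lift f hu : T →+* T').toAlgebra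
    haveI : IsScalarTower R T T' := .of_algebraMap_eq fun r => (IsLocalization.Away.lift_eq f hu r).symm
    haveI := main k
    exact Module.Projective.of_equiv (AlgebraTensorModule.cancelBaseChange R T T' T' _)
  haveI : Module.Free T (T ⊗[R] E) := FlatSyz5.free_baseChange_of_free φ hφ f
    (fun y => (hr y).imp fun k ⟨c, hc⟩ => ⟨c, hc.symm⟩) (IsLocalization.Away.algebraMap_isUnit f)
  -- the graded pieces are retracts of `E`
  have hgr : ∀ k, Module.Projective T (T ⊗[R] grPiece J M k) := by
    intro k
    have hsm : ∀ (b : B) (x : F.submodule) (i : ℕ),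
        (((algebraMap B (reesAlgebra J) b) • x : F.submodule) : PolynomialModule B M).coeff i =
          b • (x : PolynomialModule B M).coeff i := fun b x i => by
      rw [Submodule.coe_smul, Subalgebra.smul_def]
      show ((algebraMap B (Polynomial B) b) • (x : PolynomialModule B M)).coeff i = _
      rw [IsScalarTower.algebraMap_smul]
      rfl
    have hN : ∀ x ∈ N, (x : PolynomialModule B M).coeff k ∈ J ^ (k + 1) • (⊤ : Submodule B M) := by
      intro x hx
      refine Submodule.smul_induction_on hx ?_ ?_
      · intro r hr y _
        refine Submodule.span_induction (p := fun r _ => ∀ y : F.submodule,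
          ((r • y : F.submodule) : PolynomialModule B M).coeff k ∈ J ^ (k + 1) • (⊤ : Submodule B M))
          ?_ ?_ ?_ ?_ hr y
        · rintro _ ⟨j, hj, rfl⟩ y
          rw [hsm, pow_succ', Submodule.mul_smul]
          exact Submodule.smul_mem_smul hj (y.2 k)
        · intro y; simp
        · intro a b _ _ ha hb y
          rw [add_smul, Submodule.coe_add, PolynomialModule.coeff_add, Finsupp.add_apply]
          exact add_mem (ha y) (hb y)
        · intro c a _ ha y
          rw [smul_eq_mul, mul_comm, mul_smul]
          exact ha _
      · intro x y hx hy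
        rw [Submodule.coe_add, PolynomialModule.coeff_add, Finsupp.add_apply]
        exact add_mem hx hy
    let sk : ↥(J ^ k • (⊤ : Submodule B M)) → F.submodule := fun y =>
      ⟨PolynomialModule.single B k (y : M), fun i => by
        rw [PolynomialModule.coeff_single]
        classical
        rw [Finsupp.single_apply]
        split_ifs with h
        · subst h; exact y.2
        · exact zero_mem _⟩
    let s₀ : ↥(J ^ k • (⊤ : Submodule B M)) →ₗ[R] E :=
      { toFun := fun y => N.mkQ (sk y)
        map_add' := fun y z => by
          rw [← map_add]; congr 1; apply Subtype.ext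
          simp [sk]
        map_smul' := fun r y => by
          show N.mkQ (sk (r • y)) = algebraMap R (reesAlgebra J) r • N.mkQ (sk y)
          rw [← map_smul]
          congr 1
          apply Subtype.ext
          refine PolynomialModule.ext (Finsupp.ext fun i => ?_)
          rw [show algebraMap R (reesAlgebra J) r = algebraMap B (reesAlgebra J) (algebraMap R B r) from rfl, hsm]
          simp [sk, PolynomialModule.coeff_single, Finsupp.single_apply] }
    let r₀ : F.submodule →ₗ[B] grPiece J M k :=
      { toFun := fun x => Submodule.Quotient.mk ⟨(x : PolynomialModule B M).coeff k, x.2 k⟩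
        map_add' := fun x y => rfl
        map_smul' := fun b x => by
          rw [RingHom.id_apply, ← Submodule.Quotient.mk_smul]
          congr 1 }
    let s : grPiece J M k →ₗ[R] E :=
      { toFun := Quotient.lift (fun y => s₀ y) fun y z h => by
          rw [← sub_eq_zero, ← map_sub]
          have h' : ((y - z : ↥(J ^ k • (⊤ : Submodule B M))) : M) ∈ J ^ (k + 1) • (⊤ : Submodule B M) :=
            (Submodule.quotientRel_def
              (Submodule.comap (J ^ k • (⊤ : Submodule B M)).subtype (J ^ (k + 1) • ⊤))).1 h
          have h'' : y - z ∈ J • (⊤ : Submodule B ↥(J ^ k • (⊤ : Submodule B M))) := by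
            have h3 : (J ^ k • (⊤ : Submodule B M)).subtype (y - z) ∈
                (J • (⊤ : Submodule B ↥(J ^ k • (⊤ : Submodule B M)))).map (J ^ k • (⊤ : Submodule B M)).subtype := by
              rw [Submodule.map_smul'', Submodule.map_subtype_top, ← Submodule.mul_smul, ← pow_succ']
              exact h'
            obtain ⟨w, hw, e⟩ := h3
            exact Submodule.injective_subtype _ e ▸ hw
          clear h' h
          generalize y - z = w at h''
          refine Submodule.smul_induction_on h'' (fun j hj m _ => ?_) fun a b ha hb => by
            rw [map_add, ha, hb, add_zero]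
          have h1 : sk (j • m) = algebraMap B (reesAlgebra J) j • sk m := by
            apply Subtype.ext
            refine PolynomialModule.ext (Finsupp.ext fun i => ?_)
            rw [hsm]
            simp [sk, PolynomialModule.coeff_single, Finsupp.single_apply]
          show N.mkQ (sk (j • m)) = 0
          rw [h1]
          exact (Submodule.Quotient.mk_eq_zero N).2
            (Submodule.smul_mem_smul (Ideal.mem_map_of_mem _ hj) Submodule.mem_top)
        map_add' := fun x y => Quotient.inductionOn₂' x y fun a b => map_add s₀ a b
        map_smul' := fun c x => Quotient.inductionOn' x fun a => map_smul s₀ c a }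
    let r : E →ₗ[R] grPiece J M k :=
      { toFun := Quotient.lift (fun x => r₀ x) fun x y h => by
          rw [← sub_eq_zero, ← map_sub]
          exact (Submodule.Quotient.mk_eq_zero _).2 (hN _ ((Submodule.quotientRel_def _).1 h))
        map_add' := fun x y => Quotient.inductionOn₂' x y fun a b => map_add r₀ a b
        map_smul' := fun c x => Quotient.inductionOn' x fun a => by
          show r₀ (algebraMap B (reesAlgebra J) (algebraMap R B c) • a) = c • r₀ a
          rw [IsScalarTower.algebraMap_smul, map_smul, IsScalarTower.algebraMap_smul] }
    have hrs : r ∘ₗ s = LinearMap.id := by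
      refine LinearMap.ext fun x => Quotient.inductionOn' x fun a => ?_
      show Submodule.Quotient.mk _ = Submodule.Quotient.mk a
      congr 1
      apply Subtype.ext
      simp [sk, PolynomialModule.coeff_single]
    exact Module.Projective.of_split (s.baseChange T) (r.baseChange T)
      (by rw [← LinearMap.baseChange_comp, hrs, LinearMap.baseChange_id])
  haveI : Module.Flat R T := IsLocalization.flat _ (Submonoid.powers f)
  intro k
  induction k with
  | zero =>
    haveI : Subsingleton (M ⧸ (J ^ 0 • ⊤ : Submodule B M)) := by
      rw [Submodule.Quotient.subsingleton_iff, pow_zero, Submodule.one_smul]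
    exact inferInstance
  | succ k ih =>
    haveI := hgr k
    haveI := ih
    refine projective_of_exact (f := ((grIncl J M k).restrictScalars R).baseChange T)
      (g := ((quotProj J M k).restrictScalars R).baseChange T) ?_ ?_ ?_
    · exact Module.Flat.lTensor_preserves_injective_linearMap _ (grIncl_injective J M k)
    · exact lTensor_exact T (exact_gr J M k) (quotProj_surjective J M k)
    · exact LinearMap.lTensor_surjective T (quotProj_surjective J M k)

end Groth.Agent.GrFlat5
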