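import Groth.Agent.GrFlat5.Uniform
import Mathlib

/-!
# Stratification on whose reduced strata all `Qk` are projective
-/

set_option backward.isDefEq.respectTransparency false
set_option linter.style.haveILetI false

universe u

open MvPolynomial TensorProduct

namespace Groth.Agent.GrFlat5

open FlatModel FlatStrat

variable {a n : ℕ} {R₀ : Type u} [CommRing R₀] (K : Submodule (MvPolynomial (Fin n) R₀) (V a n R₀))
  (J : Ideal (MvPolynomial (Fin n) R₀))

/-- Finitely many pieces, in order, over whose reduced algebras all `Qk` are projective. -/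
theorem exists_reduced_strat [IsNoetherianRing R₀] (I : Ideal R₀) :
    ∃ l : List R₀, I ⊔ Ideal.span {x | x ∈ l} = ⊤ ∧
      ∀ (i : ℕ) (hi : i < l.length) (T : Type u) [CommRing T] [IsReduced T] [Algebra R₀ T],
        IsUnit (algebraMap R₀ T l[i]) → (I ⊔ Ideal.span {x | x ∈ l.take i}).map (algebraMap R₀ T) = ⊥ →
        ∀ k, Module.Projective T (T ⊗[R₀] Qk K J k) := by
  classical
  induction I using WellFoundedGT.induction with
  | _ I ih =>
    by_cases hI : I = ⊤
    · exact ⟨[], by rw [hI, top_sup_eq], fun i hi => absurd hi (Nat.not_lt_zero i)⟩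
    obtain ⟨p, hp⟩ := Ideal.nonempty_minimalPrimes hI
    haveI : p.IsPrime := hp.1.1
    obtain ⟨f₀, hf₀, hpiece⟩ := exists_piece K J p
    -- near `p` every element of `p` is nilpotent modulo `I`
    obtain ⟨s, hs⟩ : p.FG := IsNoetherian.noetherian p
    have key : ∀ x ∈ p, ∃ g, g ∉ p ∧ ∃ k : ℕ, g * x ^ k ∈ I := by
      intro x hx
      by_contra h
      push_neg at h
      let W : Submonoid R₀ := p.primeCompl ⊔ Submonoid.powers x
      have hdisj : Disjoint (I : Set R₀) W := Set.disjoint_right.2 fun y hy hyI => by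
        obtain ⟨s, hs, _, ⟨k, rfl⟩, rfl⟩ := Submonoid.mem_sup.1 hy
        exact h s hs k hyI
      obtain ⟨Q, hQ, hIQ, hQW⟩ := Ideal.exists_le_prime_disjoint I W hdisj
      have hQp : Q ≤ p := fun y hy => by
        by_contra hyp
        exact Set.disjoint_left.1 hQW hy (Submonoid.mem_sup_left hyp)
      exact Set.disjoint_left.1 hQW (hp.2 ⟨hQ, hIQ⟩ hQp hx) (Submonoid.mem_sup_right ⟨1, pow_one x⟩)
    choose! gx hgx kx hkx using key
    let f := (∏ x ∈ s, gx x) * f₀
    have hf : f ∉ p := fun h => by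
      rcases Ideal.IsPrime.mem_or_mem inferInstance h with h | h
      · obtain ⟨x, hx, hx'⟩ := (Ideal.IsPrime.prod_mem_iff (p := p)).1 h
        exact hgx x (hs ▸ Ideal.subset_span hx) hx'
      · exact hf₀ h
    obtain ⟨l, hl, hproj⟩ := ih (I ⊔ Ideal.span {f})
      (lt_of_le_of_ne le_sup_left fun h => hf (hp.1.2 (h ▸ Ideal.mem_sup_right (Ideal.mem_span_singleton_self f))))
    have hcons : ∀ L : List R₀, I ⊔ Ideal.span {x | x ∈ f :: L} = (I ⊔ Ideal.span {f}) ⊔ Ideal.span {x | x ∈ L} := by
      intro L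
      rw [sup_assoc, ← Ideal.span_union]
      congr 2
      ext x
      simp
    refine ⟨f :: l, by rw [hcons, hl], fun i hi T _ _ _ hu hmap => ?_⟩
    match i, hi, hu, hmap with
    | i + 1, hi, hu, hmap =>
      refine hproj i (Nat.lt_of_succ_lt_succ hi) T hu ?_
      rw [← hcons]
      rwa [List.take_succ_cons] at hmap
    | 0, _, hu, hmap =>
      rw [List.getElem_cons_zero, map_mul, IsUnit.mul_iff] at hu
      refine hpiece T ?_ hu.2
      rw [Ideal.map_eq_bot_iff_le_ker, ← hs, Ideal.span_le]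
      intro x hx
      have hxI : algebraMap R₀ T (gx x * x ^ kx x) = 0 :=
        (Ideal.mem_bot).1 (hmap ▸ Ideal.mem_map_of_mem _
          (Ideal.mem_sup_left (hkx x (hs ▸ Ideal.subset_span hx))))
      have hgu : IsUnit (algebraMap R₀ T (gx x)) :=
        isUnit_of_dvd_unit (map_dvd _ (Finset.dvd_prod_of_mem gx hx)) hu.1
      rw [map_mul, map_pow] at hxI
      exact RingHom.mem_ker.2 (IsReduced.eq_zero _ ⟨kx x, hgu.mul_right_eq_zero.1 hxI⟩)

end Groth.Agent.GrFlat5
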