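import Groth.Agent.FlatModel.Open

/-!
# Spreading out flatness over a prime of the base

If a finitely presented module over a finitely presented `C`-algebra is flat over `C` after localising at a
prime `q` of `C`, it is flat after inverting some `g ∉ q`.
-/

set_option backward.isDefEq.respectTransparency false
set_option linter.style.haveILetI false

universe u

open TensorProduct

namespace Groth.Agent.GrFlat5

variable {C : Type u} [CommRing C]

/-- The localisation of `X` at `W` is flat, on elements. -/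
def FlatAtW (W : Submonoid C) (X : Type u) [AddCommGroup X] [Module C X] : Prop :=
  ∀ J : Ideal C, ∀ y : X ⊗[C] J, J.subtype.lTensor X y = 0 → ∃ s ∈ W, s • y = 0

theorem flatAtW_iff (W : Submonoid C) {X Y : Type u} [AddCommGroup X] [Module C X] [AddCommGroup Y] [Module C Y]
    (f : X →ₗ[C] Y) [IsLocalizedModule W f] : FlatAtW W X ↔ Module.Flat C Y :=
  (FlatModel.flat_localized_iff W f).symm

theorem FlatAtW.mono {W W' : Submonoid C} {X : Type u} [AddCommGroup X] [Module C X] (h : FlatAtW W X)
    (hW : W ≤ W') : FlatAtW W' X := fun J y hy => (h J y hy).imp fun _ hs => ⟨hW hs.1, hs.2⟩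

theorem FlatAtW.of_retract {W : Submonoid C} {X Y : Type u} [AddCommGroup X] [Module C X] [AddCommGroup Y]
    [Module C Y] (h : FlatAtW W Y) (i : X →ₗ[C] Y) (r : Y →ₗ[C] X) (hri : r ∘ₗ i = LinearMap.id) :
    FlatAtW W X := by
  intro J y hy
  obtain ⟨s, hs, hsy⟩ := h J (i.rTensor J y) (by
    rw [← LinearMap.comp_apply, LinearMap.lTensor_comp_rTensor, ← LinearMap.rTensor_comp_lTensor,
      LinearMap.comp_apply, hy, map_zero])
  refine ⟨s, hs, ?_⟩
  have := congrArg (r.rTensor J) hsy
  rwa [map_smul, map_zero, ← LinearMap.comp_apply, ← LinearMap.rTensor_comp, hri, LinearMap.rTensor_id,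
    LinearMap.id_apply] at this

theorem FlatAtW.of_equiv {W : Submonoid C} {X Y : Type u} [AddCommGroup X] [Module C X] [AddCommGroup Y]
    [Module C Y] (h : FlatAtW W Y) (e : X ≃ₗ[C] Y) : FlatAtW W X :=
  h.of_retract e.toLinearMap e.symm.toLinearMap (by ext; simp)

/-- A module covered by pieces, each of them flat at `W`, is flat at `W`. -/
theorem FlatAtW.of_decomposition {W : Submonoid C} {X : Type u} [AddCommGroup X] [Module C X] {T : ℕ → Type u}
    [∀ k, AddCommGroup (T k)] [∀ k, Module C (T k)] (s : ∀ k, T k →ₗ[C] X) (r : ∀ k, X →ₗ[C] T k)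
    (hdec : ∀ x, ∃ N : ℕ, ∀ N' ≥ N, (∑ k ∈ Finset.range N', s k (r k x)) = x) (h : ∀ k, FlatAtW W (T k)) :
    FlatAtW W X := by
  intro J y hy
  obtain ⟨N, hN⟩ : ∃ N : ℕ, ∀ N' ≥ N, (∑ k ∈ Finset.range N', (s k).rTensor J ((r k).rTensor J y)) = y := by
    clear hy
    induction y using TensorProduct.induction_on with
    | zero => exact ⟨0, fun _ _ => by simp⟩
    | tmul x j =>
      obtain ⟨N, hN⟩ := hdec x
      exact ⟨N, fun N' hN' => by
        simp only [LinearMap.rTensor_tmul]
        rw [← TensorProduct.sum_tmul, hN N' hN']⟩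
    | add a b ha hb =>
      obtain ⟨N, hN⟩ := ha
      obtain ⟨N', hN'⟩ := hb
      refine ⟨max N N', fun L hL => ?_⟩
      simp only [map_add, Finset.sum_add_distrib]
      rw [hN L ((le_max_left _ _).trans hL), hN' L ((le_max_right _ _).trans hL)]
  have hpiece : ∀ k, ∃ w ∈ W, w • (r k).rTensor J y = 0 := fun k => h k J _ (by
    rw [← LinearMap.comp_apply, LinearMap.lTensor_comp_rTensor, ← LinearMap.rTensor_comp_lTensor,
      LinearMap.comp_apply, hy, map_zero])
  choose w hw hwy using hpiece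
  refine ⟨∏ k ∈ Finset.range N, w k, Submonoid.prod_mem _ fun k _ => hw k, ?_⟩
  conv_lhs => rw [← hN N le_rfl]
  rw [Finset.smul_sum]
  refine Finset.sum_eq_zero fun k hk => ?_
  rw [← map_smul, ← Finset.prod_erase_mul _ _ hk, mul_smul, hwy, smul_zero, map_zero]

/-- **Spreading out over the base.** -/
theorem exists_flatAtW_powers {P : Type u} [CommRing P] [Algebra C P] [Algebra.FinitePresentation C P]
    {N : Type u} [AddCommGroup N] [Module P N] [Module C N] [IsScalarTower C P N] [Module.FinitePresentation P N]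
    (q : Ideal C) [q.IsPrime] (h : FlatAtW q.primeCompl N) : ∃ g ∉ q, FlatAtW (Submonoid.powers g) N := by
  classical
  let S : Set P := {s | ∀ W : Submonoid P, s ∈ W → Module.Flat C (LocalizedModule W N)}
  let Wq : Submonoid P := q.primeCompl.map (algebraMap C P)
  obtain ⟨p, hpS, hpW⟩ : ∃ p, p ∈ Ideal.span S ∧ p ∈ Wq := by
    by_contra hne
    push Not at hne
    have hd : Disjoint ((Ideal.span S : Ideal P) : Set P) (Wq : Set P) :=
      Set.disjoint_left.2 fun x hx hx' => hne x hx hx'
    obtain ⟨Q, hQ, hle, hQd⟩ := Ideal.exists_le_prime_disjoint _ _ hd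
    haveI := hQ
    have hflat : Module.Flat C (LocalizedModule Q.primeCompl N) := by
      rw [FlatModel.flat_localized_iff Q.primeCompl (LocalizedModule.mkLinearMap Q.primeCompl N)]
      intro J y hy
      obtain ⟨c, hc, hcy⟩ := h J y hy
      exact ⟨algebraMap C P c, fun hcQ => Set.disjoint_left.1 hQd hcQ ⟨c, hc, rfl⟩,
        by rw [algebraMap_smul, hcy]⟩
    obtain ⟨g, hg, hgf⟩ := FlatModel.exists_flat_nhd N Q hflat
    exact hg (hle (Ideal.subset_span hgf))
  obtain ⟨g, hg, rfl⟩ := hpW
  refine ⟨g, hg, fun J y hy => ?_⟩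
  let Ann : Ideal P := LinearMap.ker (LinearMap.toSpanSingleton P (N ⊗[C] J) y)
  have hle : Ideal.span S ≤ Ann.radical := Ideal.span_le.2 fun s hs => by
    obtain ⟨_, ⟨m, rfl⟩, hm⟩ := (FlatModel.flat_localized_iff (Submonoid.powers s)
      (LocalizedModule.mkLinearMap (Submonoid.powers s) N)).1 (hs _ (Submonoid.mem_powers s)) J y hy
    exact ⟨m, hm⟩
  obtain ⟨m, hm⟩ := hle hpS
  refine ⟨g ^ m, ⟨m, rfl⟩, ?_⟩
  rw [← algebraMap_smul P (g ^ m) y, map_pow]
  exact hm

end Groth.Agent.GrFlat5
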