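import Groth.Agent.GrFlat5.Present
import Groth.Agent.FlatSyz5.NilFree
import Groth.Agent.S0389
import Mathlib

/-!
# Stratification by pieces on which a flat finitely presented module is free
-/

set_option backward.isDefEq.respectTransparency false
set_option linter.style.haveILetI false

universe u

open MvPolynomial TensorProduct

namespace Groth.Agent.GrFlat5

open FlatModel FlatStrat

variable {a n : ℕ} {R₀ : Type u} [CommRing R₀] (K : Submodule (MvPolynomial (Fin n) R₀) (V a n R₀))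

/-- Generic freeness on the piece `V(p) ∩ D(f)`. -/
theorem exists_free_piece (p : Ideal R₀) [p.IsPrime] : ∃ f, f ∉ p ∧ ∀ (T : Type u) [CommRing T] [Algebra R₀ T],
    p.map (algebraMap R₀ T) = ⊥ → IsUnit (algebraMap R₀ T f) → Module.Free T (T ⊗[R₀] Quot' K R₀) := by
  obtain ⟨fb, hfb, hfree, -, -, -⟩ := Groth.Agent.S0389.result (R := R₀ ⧸ p) (S := MvPolynomial (Fin n) (R₀ ⧸ p))
    (M := V a n (R₀ ⧸ p) ⧸ KK K (R₀ ⧸ p))
  obtain ⟨f, rfl⟩ := Ideal.Quotient.mk_surjective fb
  refine ⟨f, fun h => hfb (Ideal.Quotient.eq_zero_iff_mem.2 h), fun T _ _ hp hu => ?_⟩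
  letI : Algebra (R₀ ⧸ p) T := (Ideal.Quotient.lift p (algebraMap R₀ T) fun x hx =>
    Ideal.mem_bot.1 (hp ▸ Ideal.mem_map_of_mem _ hx)).toAlgebra
  haveI : IsScalarTower R₀ (R₀ ⧸ p) T := .of_algebraMap_eq fun _ => rfl
  haveI := hfree
  let L := Localization.Away (Ideal.Quotient.mk p f)
  letI : Algebra L T := (IsLocalization.Away.lift (S := L) (Ideal.Quotient.mk p f)
    (g := algebraMap (R₀ ⧸ p) T) hu).toAlgebra
  haveI : IsScalarTower (R₀ ⧸ p) L T :=
    .of_algebraMap_eq fun x => (IsLocalization.Away.lift_eq (S := L) (Ideal.Quotient.mk p f) hu x).symm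
  obtain ⟨e₁⟩ := nonempty_quot_baseChange (R₀ := R₀) (R := R₀ ⧸ p) (R' := T) K
  obtain ⟨e₂⟩ := nonempty_quot_baseChange (R₀ := R₀) (R := R₀) (R' := T) K
  exact Module.Free.of_equiv (((TensorProduct.AlgebraTensorModule.cancelBaseChange (R₀ ⧸ p) L T T
      (V a n (R₀ ⧸ p) ⧸ KK K (R₀ ⧸ p))).trans
    ((Submodule.Quotient.restrictScalarsEquiv (R₀ ⧸ p) (KK K (R₀ ⧸ p))).symm.baseChange (R₀ ⧸ p) T _ _)).trans
    (e₁.trans e₂.symm))

/-- Finitely many pieces, in order, on which a flat base change is free. -/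
theorem exists_free_strat [IsNoetherianRing R₀] (I : Ideal R₀) :
    ∃ l : List R₀, I ⊔ Ideal.span {x | x ∈ l} = ⊤ ∧
      ∀ (i : ℕ) (hi : i < l.length) (T : Type u) [CommRing T] [Algebra R₀ T],
        IsUnit (algebraMap R₀ T l[i]) → (I ⊔ Ideal.span {x | x ∈ l.take i}).map (algebraMap R₀ T) = ⊥ →
        Module.Flat T (T ⊗[R₀] Quot' K R₀) → Module.Free T (T ⊗[R₀] Quot' K R₀) := by
  classical
  induction I using WellFoundedGT.induction with
  | _ I ih =>
    by_cases hI : I = ⊤
    · exact ⟨[], by rw [hI, top_sup_eq], fun i hi => absurd hi (Nat.not_lt_zero i)⟩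
    obtain ⟨p, hp⟩ := Ideal.nonempty_minimalPrimes hI
    haveI : p.IsPrime := hp.1.1
    obtain ⟨f₀, hf₀, hpiece⟩ := exists_free_piece K p
    -- near `p` the ideal `p` is nilpotent modulo `I`
    obtain ⟨g, hg, m, hgm⟩ : ∃ g, g ∉ p ∧ ∃ m : ℕ, ∀ x ∈ p ^ m, g * x ∈ I := by
      have key : ∀ x ∈ p, ∃ g, g ∉ p ∧ ∃ k : ℕ, g * x ^ k ∈ I := by
        intro x hx
        by_contra h
        push_neg at h
        let W : Submonoid R₀ := p.primeCompl ⊔ Submonoid.powers x
        have hdisj : Disjoint (I : Set R₀) W := Set.disjoint_right.2 fun y hy hyI => by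
          obtain ⟨s, hs, _, ⟨k, rfl⟩, rfl⟩ := Submonoid.mem_sup.1 hy
          exact h s hs k hyI
        obtain ⟨Q, hQ, hIQ, hQW⟩ := Ideal.exists_le_prime_disjoint I W hdisj
        have hQp : Q ≤ p := fun y hy => by
          by_contra hyp
          exact Set.disjoint_left.1 hQW hy (Submonoid.mem_sup_left hyp)
        exact Set.disjoint_left.1 hQW (hp.2 ⟨hQ, hIQ⟩ hQp hx) (Submonoid.mem_sup_right ⟨1, pow_one x⟩)
      obtain ⟨s, hs⟩ : p.FG := IsNoetherian.noetherian p
      choose! gx hgx kx hkx using key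
      refine ⟨∏ x ∈ s, gx x, ?_, ?_⟩
      · intro h
        obtain ⟨x, hx, hx'⟩ := (Ideal.IsPrime.prod_mem_iff (p := p)).1 h
        exact hgx x (hs ▸ Ideal.subset_span hx) hx'
      · let Iq : Ideal R₀ := Submodule.colon I ({∏ x ∈ s, gx x} : Set R₀)
        have hp' : p ≤ Iq.radical := by
          rw [← hs, Ideal.span_le]
          intro x hx
          refine ⟨kx x, Submodule.mem_colon_singleton.2 ?_⟩
          rw [smul_eq_mul, mul_comm, ← Finset.mul_prod_erase s gx hx, mul_right_comm]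
          exact I.mul_mem_right _ (hkx x (hs ▸ Ideal.subset_span hx))
        obtain ⟨m, hm⟩ := Ideal.exists_pow_le_of_le_radical_of_fg hp' (IsNoetherian.noetherian p)
        exact ⟨m, fun x hx => by rw [mul_comm]; exact Submodule.mem_colon_singleton.1 (hm hx)⟩
    let f := g * f₀
    have hf : f ∉ p := fun h => (Ideal.IsPrime.mem_or_mem inferInstance h).elim hg hf₀
    obtain ⟨l, hl, hfree⟩ := ih (I ⊔ Ideal.span {f})
      (lt_of_le_of_ne le_sup_left fun h => hf (hp.1.2 (h ▸ Ideal.mem_sup_right (Ideal.mem_span_singleton_self f))))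
    have hcons : ∀ L : List R₀, I ⊔ Ideal.span {x | x ∈ f :: L} = (I ⊔ Ideal.span {f}) ⊔ Ideal.span {x | x ∈ L} := by
      intro L
      rw [sup_assoc, ← Ideal.span_union]
      congr 2
      ext x
      simp
    refine ⟨f :: l, by rw [hcons, hl], fun i hi T _ _ hu hmap hflat => ?_⟩
    match i, hi, hu, hmap with
    | i + 1, hi, hu, hmap =>
      refine hfree i (Nat.lt_of_succ_lt_succ hi) T hu ?_ hflat
      rw [← hcons]
      rwa [List.take_succ_cons] at hmap
    | 0, _, hu, hmap =>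
      rw [List.getElem_cons_zero, map_mul, IsUnit.mul_iff] at hu
      have hIT : ∀ x ∈ I, algebraMap R₀ T x = 0 := fun x hx =>
        (Ideal.mem_bot).1 (hmap ▸ Ideal.mem_map_of_mem _ (Ideal.mem_sup_left hx))
      let J : Ideal T := p.map (algebraMap R₀ T)
      have hJ : IsNilpotent J := by
        refine ⟨m, le_bot_iff.1 ?_⟩
        rw [← Ideal.map_pow, Ideal.map_le_iff_le_comap]
        intro x hx
        have h := hIT _ (hgm x hx)
        rw [map_mul] at h
        exact Ideal.mem_comap.2 ((Ideal.mem_bot).2 (hu.1.mul_right_eq_zero.1 h))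
      have hJfree : Module.Free (T ⧸ J) ((T ⧸ J) ⊗[T] (T ⊗[R₀] Quot' K R₀)) := by
        haveI := hpiece (T ⧸ J) (by
          rw [IsScalarTower.algebraMap_eq R₀ T (T ⧸ J), ← Ideal.map_map]
          exact Ideal.map_quotient_self J)
          (by rw [IsScalarTower.algebraMap_apply R₀ T (T ⧸ J)]; exact hu.2.map _)
        exact Module.Free.of_equiv (TensorProduct.AlgebraTensorModule.cancelBaseChange R₀ T (T ⧸ J) (T ⧸ J) (Quot' K R₀)).symm
      obtain ⟨κ, ψ, hψ, hker⟩ := FlatSyz5.exists_cover_of_free_mod J hJ hJfree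
      exact Module.Free.of_equiv (LinearEquiv.ofBijective ψ ⟨FlatSyz5.injective_of_flat J hJ ψ hψ hker, hψ⟩)

/-- Stratification of the base of a flat finitely presented module by free pieces. -/
theorem exists_free_strat_of_fp {A B : Type u} [CommRing A] [CommRing B] [Algebra A B]
    [Algebra.FinitePresentation A B] (M : Type u) [AddCommGroup M] [Module B M] [Module A M] [IsScalarTower A B M]
    [Module.FinitePresentation B M] [Module.Flat A M] :
    ∃ l : List A, Ideal.span {x | x ∈ l} = ⊤ ∧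
      ∀ (i : ℕ) (hi : i < l.length) (T : Type u) [CommRing T] [Algebra A T],
        IsUnit (algebraMap A T l[i]) → (Ideal.span {x | x ∈ l.take i}).map (algebraMap A T) = ⊥ →
          Module.Free T (T ⊗[A] M) := by
  obtain ⟨R₀, hR₀, ⟨P⟩⟩ := exists_presentation (A := A) (I := (⊥ : Ideal B)) (M := M) Submodule.fg_bot
  haveI : Algebra.FiniteType ℤ R₀ := (Subalgebra.fg_iff_finiteType R₀).1 hR₀
  haveI : IsNoetherianRing R₀ := Algebra.FiniteType.isNoetherianRing ℤ R₀
  obtain ⟨e⟩ := nonempty_quot_baseChange (R₀ := R₀) (R := R₀) (R' := A) P.K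
  let eM : A ⊗[R₀] Quot' P.K R₀ ≃ₗ[A] M :=
    e.trans ((Submodule.quotEquivOfEq _ _ (SetLike.ext fun v => by
      rw [Submodule.restrictScalars_mem, LinearMap.mem_ker]; exact (P.ker_π v).symm)).trans
      (P.π.quotKerEquivOfSurjective P.π_surj))
  obtain ⟨l, hl, hfree⟩ := exists_free_strat P.K (⊥ : Ideal R₀)
  rw [bot_sup_eq] at hl
  have himg : ∀ L : List R₀, (Ideal.span {x | x ∈ L}).map (algebraMap R₀ A) =
      Ideal.span {x | x ∈ L.map (algebraMap R₀ A)} := by
    intro L
    rw [Ideal.map_span]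
    congr 1
    ext x
    simp [List.mem_map]
  refine ⟨l.map (algebraMap R₀ A), by rw [← himg, hl, Ideal.map_top], fun i hi T _ _ hu hmap => ?_⟩
  have hi' : i < l.length := by simpa using hi
  let eT : T ⊗[A] M ≃ₗ[T] T ⊗[R₀] Quot' P.K R₀ :=
    (eM.symm.baseChange A T _ _).trans (TensorProduct.AlgebraTensorModule.cancelBaseChange R₀ A T T (Quot' P.K R₀))
  haveI : Module.Flat T (T ⊗[R₀] Quot' P.K R₀) := Module.Flat.of_linearEquiv eT.symm
  haveI := hfree i hi' T (by rw [List.getElem_map] at hu; exact hu)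
    (by
      rw [bot_sup_eq, IsScalarTower.algebraMap_eq R₀ A T, ← Ideal.map_map, himg, List.map_take]
      exact hmap) inferInstance
  exact Module.Free.of_equiv eT.symm

end Groth.Agent.GrFlat5
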